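import Mathlib.RingTheory.Regular.RegularSequence
import Mathlib.RingTheory.Localization.AtPrime.Basic
import Mathlib.RingTheory.Localization.Away.Basic
import Mathlib.Tactic

/-!
Weakly regular sequences of a ring: colon criterion, unit multiples, spreading out from a prime.
-/

universe u

open RingTheory.Sequence

namespace Groth.FrobLCI.RegularSpread

variable {R : Type u} [CommRing R]

theorem isWeaklyRegular_self_iff (rs : List R) :
    IsWeaklyRegular R rs ↔ ∀ (i : ℕ) (h : i < rs.length) (a : R),
      rs[i] * a ∈ Ideal.ofList (rs.take i) → a ∈ Ideal.ofList (rs.take i) := by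
  rw [isWeaklyRegular_iff]
  refine forall_congr' fun i => forall_congr' fun h => ?_
  rw [isSMulRegular_quotient_iff_mem_of_smul_mem, smul_eq_mul, Ideal.mul_top]
  rfl

theorem ofList_eq_of_forall₂ {as bs : List R} (h : List.Forall₂ Associated as bs) :
    Ideal.ofList as = Ideal.ofList bs := by
  induction h with
  | nil => rfl
  | cons hab _ ih =>
    obtain ⟨v, hv⟩ := hab
    rw [Ideal.ofList_cons, Ideal.ofList_cons, ih, ← hv, Ideal.span_singleton_mul_right_unit v.isUnit]

theorem isWeaklyRegular_of_forall₂ {as bs : List R} (h : List.Forall₂ Associated as bs)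
    (ha : IsWeaklyRegular R as) : IsWeaklyRegular R bs := by
  rw [isWeaklyRegular_self_iff] at ha ⊢
  intro i hi a hmem
  have hlen := h.length_eq
  obtain ⟨v, hv⟩ : Associated as[i] bs[i] := by
    have := (List.forall₂_iff_get.1 h).2 i (hlen ▸ hi) hi
    simpa using this
  rw [← ofList_eq_of_forall₂ (List.forall₂_take i h)] at hmem ⊢
  have := ha i (hlen ▸ hi) ((v : R) * a) (by rwa [← mul_assoc, hv])
  exact ((Ideal.ofList (as.take i)).unit_mul_mem_iff_mem v.isUnit).1 this

theorem exists_notMem_mul_mem (p : Ideal R) [p.IsPrime] (K : Ideal R) {C : Ideal R} (hC : C.FG)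
    (h : ∀ c ∈ C, ∃ t ∉ p, t * c ∈ K) : ∃ t ∉ p, ∀ c ∈ C, t * c ∈ K := by
  classical
  obtain ⟨S, hS⟩ := hC
  choose f hf hfK using fun c : S => h c.1 (hS ▸ Ideal.subset_span c.2)
  refine ⟨∏ c, f c, fun hm => ?_, fun c hc => ?_⟩
  · obtain ⟨c, -, hc⟩ := (Ideal.IsPrime.prod_mem_iff).1 hm
    exact hf c hc
  · rw [← hS] at hc
    induction hc using Submodule.span_induction with
    | mem x hx =>
      obtain ⟨d, hd⟩ := Finset.dvd_prod_of_mem f (Finset.mem_univ (⟨x, hx⟩ : S))
      rw [hd, mul_assoc, mul_comm d, ← mul_assoc]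
      exact K.mul_mem_right _ (hfK ⟨x, hx⟩)
    | zero => simp
    | add x y _ _ hx hy => rw [mul_add]; exact K.add_mem hx hy
    | smul a x _ hx => rw [smul_eq_mul, mul_left_comm]; exact K.mul_mem_left _ hx

/-- A sequence weakly regular at `p` is weakly regular near `p`, on a Noetherian ring. -/
theorem exists_away [IsNoetherianRing R] (p : Ideal R) [p.IsPrime] (rs : List R)
    (h : IsWeaklyRegular (Localization.AtPrime p) (rs.map (algebraMap R (Localization.AtPrime p)))) :
    ∃ t ∉ p, ∀ g, t ∣ g → IsWeaklyRegular (Localization.Away g) (rs.map (algebraMap R (Localization.Away g))) := by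
  classical
  rw [isWeaklyRegular_self_iff] at h
  have key : ∀ i : Fin rs.length, ∃ t ∉ p, ∀ c : R, rs[i.1] * c ∈ Ideal.ofList (rs.take i) →
      t * c ∈ Ideal.ofList (rs.take i) := fun i => by
    obtain ⟨t, ht, htc⟩ := exists_notMem_mul_mem p (Ideal.ofList (rs.take i))
      (C := Submodule.comap (LinearMap.mulLeft R rs[i.1]) (Ideal.ofList (rs.take i)))
      (IsNoetherian.noetherian _) fun c hc => by
        have hmem : algebraMap R (Localization.AtPrime p) rs[i.1] * algebraMap R _ c ∈
            (Ideal.ofList (rs.take i)).map (algebraMap R (Localization.AtPrime p)) := by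
          rw [← map_mul]; exact Ideal.mem_map_of_mem _ hc
        have := h i.1 (by rw [List.length_map]; exact i.2) (algebraMap R _ c) (by
          rw [← List.map_take, List.getElem_map, ← Ideal.map_ofList]; exact hmem)
        rw [← List.map_take, ← Ideal.map_ofList,
          IsLocalization.algebraMap_mem_map_algebraMap_iff p.primeCompl] at this
        obtain ⟨m, hm, hmc⟩ := this
        exact ⟨m, hm, hmc⟩
    exact ⟨t, ht, fun c hc => htc c hc⟩
  choose t ht htc using key
  refine ⟨∏ i, t i, fun hm => ?_, fun g hg => ?_⟩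
  · obtain ⟨i, -, hi⟩ := (Ideal.IsPrime.prod_mem_iff).1 hm
    exact ht i hi
  rw [isWeaklyRegular_self_iff]
  intro i hi a ha
  rw [List.length_map] at hi
  rw [← List.map_take, List.getElem_map, ← Ideal.map_ofList] at ha
  rw [← List.map_take, ← Ideal.map_ofList]
  obtain ⟨⟨a₀, s⟩, hs⟩ := IsLocalization.surj (Submonoid.powers g) a
  simp only at hs
  have hu : IsUnit (algebraMap R (Localization.Away g) s) := IsLocalization.map_units _ s
  rw [← Ideal.mul_unit_mem_iff_mem _ hu, hs, IsLocalization.algebraMap_mem_map_algebraMap_iff (Submonoid.powers g)]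
  have h1 : algebraMap R (Localization.Away g) (rs[i] * a₀) ∈
      (Ideal.ofList (rs.take i)).map (algebraMap R (Localization.Away g)) := by
    rw [map_mul, ← hs, ← mul_assoc]
    exact Ideal.mul_mem_right _ _ ha
  rw [IsLocalization.algebraMap_mem_map_algebraMap_iff (Submonoid.powers g)] at h1
  obtain ⟨m, hm, hmem⟩ := h1
  obtain ⟨d, hd⟩ : t ⟨i, hi⟩ ∣ g := (Finset.dvd_prod_of_mem t (Finset.mem_univ _)).trans hg
  refine ⟨g * m, Submonoid.mul_mem _ (Submonoid.mem_powers g) hm, ?_⟩
  rw [hd, mul_assoc, mul_assoc, mul_left_comm]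
  exact Ideal.mul_mem_left _ _ (htc ⟨i, hi⟩ (m * a₀) (by rwa [mul_left_comm]))

end Groth.FrobLCI.RegularSpread
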