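import Groth.Agent.LocCohBase.CM
import Groth.Agent.LocCohBase.DepthLocal
import Groth.Agent.Ega4Algebra1.PdBasic
import Mathlib.LinearAlgebra.Matrix.ToLin

/-!
The Auslander–Buchsbaum formula.
-/

universe u

open IsLocalRing CategoryTheory
open scoped Pointwise
open Groth.Ega4Algebra1 Groth.LocCohBase

namespace Groth.FrobLCI

variable {R : Type u} [CommRing R] [IsLocalRing R] [IsNoetherianRing R]

/-- Depth zero gives a socle element. -/
theorem exists_socle_of_depth_eq_zero {N : Type u} [AddCommGroup N] [Module R N] [Module.Finite R N]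
    (h : LocCoh.depth R N = 0) : ∃ z : N, z ≠ 0 ∧ ∀ c ∈ maximalIdeal R, c • z = 0 := by
  have h1 : ¬ (1 : ℕ∞) ≤ LocCoh.idealDepth (maximalIdeal R) N := by
    rw [show LocCoh.idealDepth (maximalIdeal R) N = 0 from h]; simp
  rw [one_le_idealDepth_iff] at h1
  push_neg at h1
  obtain ⟨q, hq, hle⟩ := h1
  obtain ⟨hqp, z, hz⟩ := isAssociatedPrime_iff.1 hq
  refine ⟨z, fun h0 => hqp.ne_top (by rw [hz, h0]; simp), fun c hc => ?_⟩
  have : c ∈ q := hle hc
  rw [hz, Submodule.mem_colon_singleton, Submodule.mem_bot] at this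
  exact this

/-- A socle element makes the depth zero. -/
theorem depth_eq_zero_of_socle {N : Type u} [AddCommGroup N] [Module R N] [Module.Finite R N] [Nontrivial N]
    (z : N) (hz : z ≠ 0) (h : ∀ c ∈ maximalIdeal R, c • z = 0) : LocCoh.depth R N = 0 := by
  obtain ⟨n, hn⟩ := exists_depth_eq (R := R) N
  rw [hn]
  by_contra hne
  obtain ⟨x, hx, hreg⟩ := exists_regular_of_one_le (smul_maximalIdeal_ne_top N (maximalIdeal.isMaximal R).ne_top)
    (show (1 : ℕ∞) ≤ LocCoh.depth R N by
      rw [hn]; exact_mod_cast Nat.one_le_iff_ne_zero.2 fun h0 => hne (by simp [h0]))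
  exact hz (hreg.right_eq_zero_of_smul (h x hx))

/-- Multiplication by a matrix of scalars. -/
def mv {a b : ℕ} (C : Fin b → Fin a → R) (N : Type u) [AddCommGroup N] [Module R N] :
    (Fin a → N) →ₗ[R] (Fin b → N) :=
  LinearMap.pi fun i => ∑ j, C i j • LinearMap.proj j

omit [IsLocalRing R] [IsNoetherianRing R] in
theorem mv_apply {a b : ℕ} (C : Fin b → Fin a → R) {N : Type u} [AddCommGroup N] [Module R N]
    (v : Fin a → N) (i : Fin b) : mv C N v i = ∑ j, C i j • v j := by
  simp [mv]

omit [IsLocalRing R] [IsNoetherianRing R] in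
theorem mv_map {a b : ℕ} (C : Fin b → Fin a → R) {N N' : Type u} [AddCommGroup N] [Module R N]
    [AddCommGroup N'] [Module R N'] (g : N →ₗ[R] N') (v : Fin a → N) :
    mv C N' (g ∘ v) = g ∘ mv C N v := by
  funext i
  simp [mv_apply]

theorem coker_nontrivial {a b : ℕ} (C : Fin b → Fin a → R) (hC : ∀ i j, C i j ∈ maximalIdeal R) (ha : 0 < a)
    {N : Type u} [AddCommGroup N] [Module R N] [Module.Finite R N] [Nontrivial N]
    (hinj : Function.Injective (mv C N)) : Nontrivial ((Fin b → N) ⧸ LinearMap.range (mv C N)) := by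
  have hb : 0 < b := by
    by_contra h
    obtain ⟨z, hz⟩ := exists_ne (0 : N)
    have h0 : (fun _ => z : Fin a → N) = 0 := hinj (funext fun i => absurd i.2 (by omega))
    exact hz (congrFun h0 ⟨0, ha⟩)
  have : Nonempty (Fin b) := ⟨⟨0, hb⟩⟩
  have hle : LinearMap.range (mv C N) ≤ maximalIdeal R • (⊤ : Submodule R (Fin b → N)) := by
    classical
    rintro _ ⟨v, rfl⟩
    rw [← Finset.univ_sum_single (mv C N v)]
    refine Submodule.sum_mem _ fun i _ => ?_
    rw [mv_apply, show Pi.single i (∑ j, C i j • v j) = LinearMap.single R (fun _ => N) i (∑ j, C i j • v j) from rfl,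
      map_sum]
    refine Submodule.sum_mem _ fun j _ => ?_
    rw [map_smul]
    exact Submodule.smul_mem_smul (hC i j) trivial
  exact Submodule.Quotient.nontrivial_iff.2 fun h =>
    smul_maximalIdeal_ne_top (Fin b → N) (maximalIdeal.isMaximal R).ne_top (top_le_iff.1 (h ▸ hle))

/-- Auslander–Buchsbaum in projective dimension one, for a presentation with coefficients in a module. -/
theorem depth_coker_add_one : ∀ (d : ℕ) (N : Type u) [AddCommGroup N] [Module R N] [Module.Finite R N]
    [Nontrivial N], LocCoh.depth R N = d → ∀ {a b : ℕ} (C : Fin b → Fin a → R),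
      (∀ i j, C i j ∈ maximalIdeal R) → 0 < a → Function.Injective (mv C N) →
        LocCoh.depth R ((Fin b → N) ⧸ LinearMap.range (mv C N)) + 1 = (d : ℕ∞) := by
  intro d
  induction d with
  | zero =>
    intro N _ _ _ _ hd a b C hC ha hinj
    exfalso
    obtain ⟨z, hz, hz'⟩ := exists_socle_of_depth_eq_zero (by simpa using hd)
    have h0 : (fun _ => z : Fin a → N) = 0 := hinj (by
      rw [map_zero]
      funext i
      rw [mv_apply]
      exact Finset.sum_eq_zero fun j _ => hz' _ (hC i j))
    exact hz (congrFun h0 ⟨0, ha⟩)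
  | succ d ih =>
    intro N _ _ _ _ hd a b C hC ha hinj
    set φ := mv C N with hφ
    have := coker_nontrivial C hC ha hinj
    have hIM := smul_maximalIdeal_ne_top N (maximalIdeal.isMaximal R).ne_top
    obtain ⟨q, hq⟩ := exists_depth_eq (R := R) ((Fin b → N) ⧸ LinearMap.range φ)
    rw [hq]
    rcases Nat.eq_zero_or_pos q with rfl | hqpos
    · -- the cokernel has depth zero
      obtain ⟨v, hv, hv'⟩ := exists_socle_of_depth_eq_zero (by simpa using hq)
      obtain ⟨v, rfl⟩ := Submodule.Quotient.mk_surjective _ v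
      obtain ⟨x, hx, hreg⟩ := exists_regular_of_one_le hIM
        (show (1 : ℕ∞) ≤ LocCoh.depth R N by rw [hd]; exact_mod_cast Nat.le_add_left 1 d)
      have hsocle : ∀ c ∈ maximalIdeal R, c • v ∈ LinearMap.range φ := fun c hc => by
        have := hv' c hc
        rwa [← Submodule.Quotient.mk_smul, Submodule.Quotient.mk_eq_zero] at this
      obtain ⟨w, hw⟩ := hsocle x hx
      -- some coordinate of `w` is not divisible by `x`
      obtain ⟨j, hj⟩ : ∃ j, Submodule.Quotient.mk (p := x • (⊤ : Submodule R N)) (w j) ≠ 0 := by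
        by_contra! hcon
        have hdiv : ∀ j, ∃ u, x • u = w j := fun j => by
          obtain ⟨u, -, hu⟩ := (Submodule.mem_smul_pointwise_iff_exists _ _ _).1
            ((Submodule.Quotient.mk_eq_zero _).1 (hcon j))
          exact ⟨u, hu⟩
        choose u hu using hdiv
        refine hv ((Submodule.Quotient.mk_eq_zero _).2 ⟨u, ?_⟩)
        have h1 : x • φ u = x • v := by
          rw [← map_smul, show x • u = w from funext hu]; exact hw
        exact funext fun i => hreg (congrFun h1 i)
      have : Nontrivial (QuotSMulTop x N) := ⟨_, _, hj⟩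
      have h0 : LocCoh.depth R (QuotSMulTop x N) = 0 := depth_eq_zero_of_socle _ hj fun c hc => by
        obtain ⟨u, hu⟩ := hsocle c hc
        have h1 : c • w = x • u := hinj (by rw [map_smul, map_smul, hu, hw, smul_comm])
        rw [← Submodule.Quotient.mk_smul, Submodule.Quotient.mk_eq_zero]
        exact (Submodule.mem_smul_pointwise_iff_exists _ _ _).2 ⟨u j, trivial, (congrFun h1 j).symm⟩
      have h2 := idealDepth_quotSMulTop_add_one _ N hIM hx hreg
      rw [show LocCoh.idealDepth (maximalIdeal R) (QuotSMulTop x N) = 0 from h0,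
        show LocCoh.idealDepth (maximalIdeal R) N = ((d + 1 : ℕ) : ℕ∞) from hd] at h2
      exact_mod_cast h2
    · -- a common regular element
      have hNd : ∀ p ∈ associatedPrimes R N, ¬ maximalIdeal R ≤ p :=
        (one_le_idealDepth_iff _ N).1 (by
          rw [show LocCoh.idealDepth (maximalIdeal R) N = _ from hd]; exact_mod_cast Nat.le_add_left 1 d)
      have hQd : ∀ p ∈ associatedPrimes R ((Fin b → N) ⧸ LinearMap.range φ), ¬ maximalIdeal R ≤ p :=
        (one_le_idealDepth_iff _ _).1 (by
          rw [show LocCoh.idealDepth (maximalIdeal R) ((Fin b → N) ⧸ LinearMap.range φ) = _ from hq]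
          exact_mod_cast hqpos)
      obtain ⟨x, hx, hreg, hregQ⟩ : ∃ x ∈ maximalIdeal R, IsSMulRegular N x ∧
          IsSMulRegular ((Fin b → N) ⧸ LinearMap.range φ) x := by
        by_contra! hcon
        have hsub : (maximalIdeal R : Set R) ⊆
            ⋃ p ∈ associatedPrimes R N ∪ associatedPrimes R ((Fin b → N) ⧸ LinearMap.range φ), (p : Set R) := by
          intro x hx
          rw [Set.biUnion_union, Set.mem_union, biUnion_associatedPrimes_eq_compl_regular,
            biUnion_associatedPrimes_eq_compl_regular]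
          by_cases hN : IsSMulRegular N x
          · exact Or.inr (hcon x hx hN)
          · exact Or.inl hN
        obtain ⟨p, hp, hle⟩ := ((maximalIdeal R).subset_union_prime_finite
          ((associatedPrimes.finite R N).union (associatedPrimes.finite R _)) (f := id) 0 0
          fun _ h _ _ => h.elim (fun h => h.isPrime) fun h => h.isPrime).1 hsub
        exact hp.elim (fun h => hNd p h hle) fun h => hQd p h hle
      set N' := QuotSMulTop x N
      let π : N →ₗ[R] N' := Submodule.mkQ (x • ⊤)
      have : Nontrivial N' := Submodule.Quotient.nontrivial_iff.2 fun h => by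
        refine hIM (top_le_iff.1 (h.ge.trans ?_))
        intro y hy
        obtain ⟨u, -, rfl⟩ := (Submodule.mem_smul_pointwise_iff_exists _ _ _).1 hy
        exact Submodule.smul_mem_smul hx trivial
      have hd' : LocCoh.depth R N' = (d : ℕ∞) := by
        have h2 := idealDepth_quotSMulTop_add_one _ N hIM hx hreg
        rw [show LocCoh.idealDepth (maximalIdeal R) N = ((d + 1 : ℕ) : ℕ∞) from hd, Nat.cast_succ] at h2
        exact (ENat.add_left_injective_of_ne_top (by simp : (1 : ℕ∞) ≠ ⊤)) h2
      have hπzero : ∀ {m : ℕ} (v : Fin m → N), π ∘ v = 0 ↔ ∃ u : Fin m → N, x • u = v := by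
        intro m v
        constructor
        · intro h
          have h1 : ∀ i, ∃ u, x • u = v i := fun i => by
            obtain ⟨u, -, hu⟩ := (Submodule.mem_smul_pointwise_iff_exists _ _ _).1
              ((Submodule.Quotient.mk_eq_zero (x • (⊤ : Submodule R N))).1 (congrFun h i))
            exact ⟨u, hu⟩
          choose u hu using h1
          exact ⟨u, funext hu⟩
        · rintro ⟨u, rfl⟩
          funext i
          exact (Submodule.Quotient.mk_eq_zero _).2
            ((Submodule.mem_smul_pointwise_iff_exists _ _ _).2 ⟨u i, trivial, rfl⟩)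
      have hsurjπ : ∀ {m : ℕ} (v : Fin m → N'), ∃ u : Fin m → N, π ∘ u = v := fun v => by
        choose u hu using fun i => Submodule.mkQ_surjective _ (v i)
        exact ⟨u, funext hu⟩
      have hinj' : Function.Injective (mv C N') := by
        rw [injective_iff_map_eq_zero]
        intro v hv
        obtain ⟨v, rfl⟩ := hsurjπ v
        rw [mv_map] at hv
        obtain ⟨u, hu⟩ := (hπzero _).1 hv
        have h1 : x • Submodule.Quotient.mk (p := LinearMap.range φ) u = 0 := by
          rw [← Submodule.Quotient.mk_smul, hu, Submodule.Quotient.mk_eq_zero]; exact ⟨v, rfl⟩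
        obtain ⟨w, rfl⟩ := (Submodule.Quotient.mk_eq_zero _).1 (hregQ.right_eq_zero_of_smul h1)
        exact (hπzero _).2 ⟨w, hinj (by rw [map_smul]; exact hu)⟩
      -- identify the two cokernels
      let F : (Fin b → N) →ₗ[R] ((Fin b → N') ⧸ LinearMap.range (mv C N')) :=
        (LinearMap.range (mv C N')).mkQ.comp (LinearMap.pi fun i => π.comp (LinearMap.proj i))
      let G : (Fin b → N) →ₗ[R] QuotSMulTop x ((Fin b → N) ⧸ LinearMap.range φ) :=
        (Submodule.mkQ (x • ⊤)).comp (LinearMap.range φ).mkQ
      have hF : Function.Surjective F := fun v => by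
        obtain ⟨v, rfl⟩ := Submodule.Quotient.mk_surjective _ v
        obtain ⟨u, rfl⟩ := hsurjπ v
        exact ⟨u, rfl⟩
      have hG : Function.Surjective G := (Submodule.mkQ_surjective _).comp (Submodule.mkQ_surjective _)
      have hker : LinearMap.ker F = LinearMap.ker G := by
        ext v
        rw [LinearMap.mem_ker, LinearMap.mem_ker]
        show Submodule.Quotient.mk (π ∘ v) = (0 : (Fin b → N') ⧸ LinearMap.range (mv C N')) ↔
          Submodule.Quotient.mk (Submodule.Quotient.mk v) = (0 : QuotSMulTop x ((Fin b → N) ⧸ LinearMap.range φ))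
        rw [Submodule.Quotient.mk_eq_zero, Submodule.Quotient.mk_eq_zero, Submodule.mem_smul_pointwise_iff_exists]
        constructor
        · rintro ⟨w, hw⟩
          obtain ⟨w, rfl⟩ := hsurjπ w
          rw [mv_map] at hw
          obtain ⟨u, hu⟩ := (hπzero (v - φ w)).1 (funext fun i => by
            simpa [sub_eq_zero] using (congrFun hw i).symm)
          refine ⟨Submodule.Quotient.mk u, trivial, ?_⟩
          rw [← Submodule.Quotient.mk_smul, hu, Submodule.Quotient.eq]
          exact ⟨-w, by rw [map_neg]; abel⟩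
        · rintro ⟨u, -, hu⟩
          obtain ⟨u, rfl⟩ := Submodule.Quotient.mk_surjective _ u
          rw [← Submodule.Quotient.mk_smul, Submodule.Quotient.eq] at hu
          obtain ⟨w, hw⟩ := hu
          refine ⟨π ∘ (-w), ?_⟩
          rw [mv_map]
          funext i
          have h1 : π (x • u i) = 0 := (Submodule.Quotient.mk_eq_zero _).2
            ((Submodule.mem_smul_pointwise_iff_exists _ _ _).2 ⟨u i, trivial, rfl⟩)
          rw [← hφ, map_neg, hw]
          simp [h1]
      let e := (F.quotKerEquivOfSurjective hF).symm.trans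
        ((Submodule.quotEquivOfEq _ _ hker).trans (G.quotKerEquivOfSurjective hG))
      have h3 := ih N' hd' C hC ha hinj'
      rw [show LocCoh.depth R ((Fin b → N') ⧸ LinearMap.range (mv C N')) = _ from idealDepth_congr e] at h3
      have h4 := idealDepth_quotSMulTop_add_one _ _
        (smul_maximalIdeal_ne_top ((Fin b → N) ⧸ LinearMap.range φ) (maximalIdeal.isMaximal R).ne_top) hx hregQ
      rw [h3, show LocCoh.idealDepth (maximalIdeal R) ((Fin b → N) ⧸ LinearMap.range φ) = (q : ℕ∞) from hq] at h4
      rw [← h4, Nat.cast_succ]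

theorem depth_pi : ∀ (n : ℕ), LocCoh.depth R (Fin (n + 1) → R) = LocCoh.depth R R := by
  intro n
  induction n with
  | zero => exact idealDepth_congr (LinearEquiv.funUnique (Fin 1) R R)
  | succ n ih =>
    let f : R →ₗ[R] (Fin (n + 2) → R) := LinearMap.single R (fun _ => R) 0
    let g : (Fin (n + 2) → R) →ₗ[R] (Fin (n + 1) → R) := LinearMap.funLeft R R Fin.succ
    have hf : Function.Injective f := fun a b h => Pi.single_injective (M := fun _ : Fin (n + 2) => R) 0 h
    have hg : Function.Surjective g := LinearMap.funLeft_surjective_of_injective _ _ _ (Fin.succ_injective _)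
    have hfg : Function.Exact f g := fun v => by
      constructor
      · intro h
        refine ⟨v 0, funext fun i => ?_⟩
        refine Fin.cases ?_ (fun j => ?_) i
        · simp [f]
        · rw [show v j.succ = 0 from congrFun h j]
          simp [f, Fin.succ_ne_zero]
      · rintro ⟨r, rfl⟩
        funext j
        simp [f, g, LinearMap.funLeft_apply, Fin.succ_ne_zero]
    obtain ⟨h1, -, h3⟩ := idealDepth_shortExact (maximalIdeal R) f g hf hg hfg
    change min (LocCoh.depth R R) (LocCoh.depth R (Fin (n + 1) → R)) ≤ LocCoh.depth R (Fin (n + 2) → R) at h1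
    change min (LocCoh.depth R (Fin (n + 2) → R)) (LocCoh.depth R (Fin (n + 1) → R) + 1) ≤ LocCoh.depth R R at h3
    rw [ih, min_self] at h1
    rw [ih] at h3
    obtain ⟨r, hr⟩ := exists_depth_eq (R := R) R
    obtain ⟨s, hs⟩ := exists_depth_eq (R := R) (Fin (n + 2) → R)
    rw [hr, hs] at h1 h3 ⊢
    rcases min_le_iff.1 h3 with h | h
    · exact le_antisymm h h1
    · exact absurd (Nat.cast_le.1 (show ((r + 1 : ℕ) : ℕ∞) ≤ (r : ℕ∞) by exact_mod_cast h)) (by omega)

/-- A minimal surjection from a free module. -/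
theorem exists_minimal (M : Type u) [AddCommGroup M] [Module R M] [Module.Finite R M] :
    ∃ (b : ℕ) (f : (Fin b → R) →ₗ[R] M), Function.Surjective f ∧
      ∀ c ∈ LinearMap.ker f, ∀ i, c i ∈ maximalIdeal R := by
  classical
  have hex : ∃ b, ∃ f : (Fin b → R) →ₗ[R] M, Function.Surjective f := exists_surjective_fin R M
  obtain ⟨f, hf⟩ := Nat.find_spec hex
  refine ⟨_, f, hf, fun c hc i => ?_⟩
  by_contra hi
  rw [IsLocalRing.notMem_maximalIdeal] at hi
  obtain ⟨u, hu⟩ := hi.exists_right_inv
  have hmin := fun k => Nat.find_min' hex (m := k)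
  generalize Nat.find hex = b at f hf c hc i hu hmin
  obtain ⟨k, rfl⟩ : ∃ k, b = k + 1 := ⟨b - 1, by have := i.pos; omega⟩
  refine absurd (hmin k ⟨Fintype.linearCombination R fun j => f (Pi.single (i.succAbove j) 1), fun y => ?_⟩)
    (by omega)
  obtain ⟨v, rfl⟩ := hf y
  let v' := v - (v i * u) • c
  have hv'i : v' i = 0 := by
    simp only [v', Pi.sub_apply, Pi.smul_apply, smul_eq_mul]
    rw [mul_assoc, mul_comm u, hu, mul_one, sub_self]
  refine ⟨fun j => v' (i.succAbove j), ?_⟩
  have h1 : f v' = f v := by simp [v', LinearMap.mem_ker.1 hc]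
  rw [← h1, Fintype.linearCombination_apply]
  conv_rhs => rw [← (Pi.basisFun R (Fin (k + 1))).sum_repr v', map_sum, Fin.sum_univ_succAbove _ i]
  simp only [map_smul, Pi.basisFun_repr, Pi.basisFun_apply, hv'i, zero_smul, map_zero, zero_add]

/-- The Auslander–Buchsbaum formula. -/
theorem auslander_buchsbaum : ∀ (e : ℕ) (M : Type u) [AddCommGroup M] [Module R M] [Module.Finite R M]
    [Nontrivial M], PdLT R M (e + 1) → ¬ PdLT R M e → LocCoh.depth R R = e + LocCoh.depth R M
  | 0, M, _, _, _, _, h, _ => by
    have : Module.Projective R M := PdLT.one_iff.1 h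
    have : Module.Free R M := Module.free_of_flat_of_isLocalRing
    obtain ⟨k, hk⟩ := Nat.exists_eq_succ_of_ne_zero (fun h0 : Module.finrank R M = 0 => by
      have := (Module.finBasisOfFinrankEq R M h0).equivFun.toEquiv.subsingleton
      exact not_subsingleton M this)
    let e := (Module.finBasisOfFinrankEq R M hk).equivFun
    rw [Nat.cast_zero, zero_add, ← depth_pi k]
    exact (idealDepth_congr e).symm
  | 1, M, _, _, _, _, h, h' => by
    obtain ⟨b, f, hf, hmin⟩ := exists_minimal (R := R) M
    have hK : PdLT R (LinearMap.ker f) 1 := (PdLT.ker_iff f hf 0).1 h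
    have : Module.Projective R (LinearMap.ker f) := PdLT.one_iff.1 hK
    have : Module.Free R (LinearMap.ker f) := Module.free_of_flat_of_isLocalRing
    let β := Module.finBasis R (LinearMap.ker f)
    let C : Fin b → Fin (Module.finrank R (LinearMap.ker f)) → R := fun i j => (β j : Fin b → R) i
    have hC : mv C R = (LinearMap.ker f).subtype.comp β.equivFun.symm.toLinearMap := by
      refine LinearMap.ext fun v => funext fun i => ?_
      simp [mv_apply, C, Module.Basis.equivFun_symm_apply, mul_comm]
    have hrange : LinearMap.range (mv C R) = LinearMap.ker f := by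
      rw [hC, LinearMap.range_comp, LinearEquiv.range, Submodule.map_top, Submodule.range_subtype]
    have ha : 0 < Module.finrank R (LinearMap.ker f) := by
      by_contra hle
      refine h' (PdLT.one_iff.2 ?_)
      have : IsEmpty (Fin (Module.finrank R (LinearMap.ker f))) := ⟨fun j => absurd j.2 (by omega)⟩
      have hbot : LinearMap.ker f = ⊥ := by
        rw [← hrange, LinearMap.range_eq_bot]
        exact LinearMap.ext fun v => funext fun i => by simp [mv_apply]
      exact Module.Projective.of_equiv (LinearEquiv.ofBijective f ⟨LinearMap.ker_eq_bot.1 hbot, hf⟩)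
    obtain ⟨r, hr⟩ := exists_depth_eq (R := R) R
    have h1 := depth_coker_add_one r R hr C (fun i j => hmin _ (β j).2 i) ha (by
      rw [hC]; exact Subtype.val_injective.comp β.equivFun.symm.injective)
    rw [show LocCoh.depth R ((Fin b → R) ⧸ LinearMap.range (mv C R)) = LocCoh.depth R M from
      idealDepth_congr ((Submodule.quotEquivOfEq _ _ hrange).trans (f.quotKerEquivOfSurjective hf))] at h1
    rw [hr, ← h1, Nat.cast_one, add_comm]
  | e + 2, M, _, _, _, _, h, h' => by
    obtain ⟨k, f, hf⟩ := exists_surjective_fin R M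
    have hK : PdLT R (LinearMap.ker f) (e + 2) := (PdLT.ker_iff f hf (e + 1)).1 h
    have hK' : ¬ PdLT R (LinearMap.ker f) (e + 1) := fun hk => h' ((PdLT.ker_iff f hf e).2 hk)
    have : Nontrivial (LinearMap.ker f) := by
      rw [← not_subsingleton_iff_nontrivial]
      exact fun hs => hK' ((PdLT.zero_iff.2 hs).mono (Nat.zero_le _))
    have hIH := auslander_buchsbaum (e + 1) (LinearMap.ker f) hK hK'
    obtain ⟨k, rfl⟩ : ∃ k', k = k' + 1 := by
      refine Nat.exists_eq_succ_of_ne_zero fun hk => ?_
      subst hk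
      obtain ⟨z, hz⟩ := exists_ne (0 : M)
      obtain ⟨v, rfl⟩ := hf z
      exact hz (by rw [Subsingleton.elim v 0, map_zero])
    obtain ⟨-, h2, h3⟩ := idealDepth_shortExact (maximalIdeal R) (LinearMap.ker f).subtype f
      (Submodule.subtype_injective _) hf (LinearMap.exact_subtype_ker_map f)
    change min (LocCoh.depth R (Fin (k + 1) → R)) (LocCoh.depth R (LinearMap.ker f) - 1) ≤ LocCoh.depth R M at h2
    change min (LocCoh.depth R (Fin (k + 1) → R)) (LocCoh.depth R M + 1) ≤ LocCoh.depth R (LinearMap.ker f) at h3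
    rw [depth_pi] at h2 h3
    obtain ⟨r, hr⟩ := exists_depth_eq (R := R) R
    obtain ⟨κ, hκ⟩ := exists_depth_eq (R := R) (LinearMap.ker f)
    obtain ⟨μ, hμ⟩ := exists_depth_eq (R := R) M
    rw [hr, hκ] at hIH
    rw [hr, hκ, hμ] at h2 h3
    rw [hr, hμ]
    rw [← Nat.cast_add, Nat.cast_inj] at hIH
    rw [← Nat.cast_add, Nat.cast_inj]
    have h2' : r ≤ μ ∨ κ - 1 ≤ μ := by
      rcases min_le_iff.1 h2 with h | h
      · exact Or.inl (Nat.cast_le.1 h)
      · exact Or.inr (Nat.cast_le.1 (show ((κ - 1 : ℕ) : ℕ∞) ≤ (μ : ℕ∞) by rw [ENat.natCast_sub, Nat.cast_one]; exact h))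
    have h3' : r ≤ κ ∨ μ + 1 ≤ κ := by
      rcases min_le_iff.1 h3 with h | h
      · exact Or.inl (Nat.cast_le.1 h)
      · exact Or.inr (Nat.cast_le.1 (show ((μ + 1 : ℕ) : ℕ∞) ≤ (κ : ℕ∞) by exact_mod_cast h))
    omega

end Groth.FrobLCI
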