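import Groth.Agent.FrobLCI.AusBuch
import Groth.Agent.Ega4Algebra1.RegularParams
import Mathlib.RingTheory.KrullDimension.Module

/-!
Projective dimension of the cokernels in a complex of free modules, with depth consequences.
-/

universe u

open IsLocalRing CategoryTheory
open Groth.Ega4Algebra1 Groth.LocCohBase

namespace Groth.FrobLCI

variable {R : Type u} [CommRing R]

/-- One step of dimension shifting along a complex of projective modules. -/
theorem pdLT_coker_step {F₂ F₁ F₀ : Type u} [AddCommGroup F₂] [Module R F₂] [AddCommGroup F₁] [Module R F₁]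
    [AddCommGroup F₀] [Module R F₀] [Module.Projective R F₀] (d₂ : F₂ →ₗ[R] F₁) (d₁ : F₁ →ₗ[R] F₀)
    (hex : LinearMap.ker d₁ = LinearMap.range d₂) (n : ℕ) :
    PdLT R (F₀ ⧸ LinearMap.range d₁) (n + 2) ↔ PdLT R (F₁ ⧸ LinearMap.range d₂) (n + 1) := by
  rw [PdLT.ker_iff (LinearMap.range d₁).mkQ (Submodule.mkQ_surjective _) n]
  let e : (F₁ ⧸ LinearMap.range d₂) ≃ₗ[R] LinearMap.ker (LinearMap.range d₁).mkQ :=
    (Submodule.quotEquivOfEq _ _ hex.symm).trans (d₁.quotKerEquivRange.trans
      (LinearEquiv.ofEq _ _ (Submodule.ker_mkQ _).symm))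
  exact ⟨fun h => h.of_equiv e.symm, fun h => h.of_equiv e⟩

variable [IsLocalRing R] [IsNoetherianRing R]

/-- A minimal map with projective cokernel is zero. -/
theorem eq_zero_of_projective_coker {F₁ F₀ : Type u} [AddCommGroup F₁] [Module R F₁] [Module.Finite R F₁]
    [AddCommGroup F₀] [Module R F₀] (d₁ : F₁ →ₗ[R] F₀)
    (hmin : LinearMap.range d₁ ≤ maximalIdeal R • ⊤) [Module.Projective R (F₀ ⧸ LinearMap.range d₁)] : d₁ = 0 := by
  obtain ⟨s, hs⟩ := Module.projective_lifting_property (LinearMap.range d₁).mkQ LinearMap.id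
    (Submodule.mkQ_surjective _)
  let r : F₀ →ₗ[R] F₀ := LinearMap.id - s.comp (LinearMap.range d₁).mkQ
  have hr : LinearMap.range r ≤ LinearMap.range d₁ := by
    rintro _ ⟨v, rfl⟩
    rw [← Submodule.Quotient.mk_eq_zero, ← Submodule.mkQ_apply, LinearMap.sub_apply, LinearMap.id_apply,
      LinearMap.comp_apply, map_sub, ← LinearMap.comp_apply, hs, LinearMap.id_apply, sub_self]
  have hr' : ∀ v ∈ LinearMap.range d₁, r v = v := fun v hv => by
    rw [LinearMap.sub_apply, LinearMap.id_apply, LinearMap.comp_apply, Submodule.mkQ_apply,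
      (Submodule.Quotient.mk_eq_zero _).2 hv, map_zero, sub_zero]
  rw [← LinearMap.range_eq_bot]
  refine Submodule.eq_bot_of_le_smul_of_le_jacobson_bot (maximalIdeal R) _ (Module.Finite.iff_fg.1 inferInstance) ?_
    (maximalIdeal_le_jacobson _)
  intro v hv
  have h1 : r v ∈ Submodule.map r (maximalIdeal R • ⊤) := Submodule.mem_map_of_mem (hmin hv)
  rw [Submodule.map_smul'', Submodule.map_top, hr' v hv] at h1
  exact Submodule.smul_mono le_rfl hr h1

/-- Auslander–Buchsbaum with an upper bound on the projective dimension. -/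
theorem exists_depth_eq_add {M : Type u} [AddCommGroup M] [Module R M] [Module.Finite R M] [Nontrivial M]
    (n : ℕ) (h : PdLT R M (n + 1)) : ∃ e ≤ n, LocCoh.depth R R = e + LocCoh.depth R M ∧
      PdLT R M (e + 1) ∧ ¬ PdLT R M e := by
  classical
  have hex : ∃ e, PdLT R M (e + 1) := ⟨n, h⟩
  have hne : ¬ PdLT R M (Nat.find hex) := fun hlt => by
    rcases Nat.eq_zero_or_pos (Nat.find hex) with h0 | h0
    · rw [h0] at hlt
      exact not_subsingleton M (PdLT.zero_iff.1 hlt)
    · refine Nat.find_min hex (Nat.sub_lt h0 one_pos) ?_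
      rwa [show Nat.find hex - 1 + 1 = Nat.find hex by omega]
  exact ⟨_, Nat.find_min' hex h, auslander_buchsbaum _ M (Nat.find_spec hex) hne, Nat.find_spec hex, hne⟩

/-- A module with a nonzero submodule of finite length has depth zero. -/
theorem depth_eq_zero_of_finiteLength_le {M : Type u} [AddCommGroup M] [Module R M] [Module.Finite R M]
    (K : Submodule R M) (hK : IsFiniteLength R K) (hne : K ≠ ⊥) : LocCoh.depth R M = 0 := by
  have : Nontrivial K := Submodule.nontrivial_iff_ne_bot.2 hne
  obtain ⟨_, _⟩ := isFiniteLength_iff_isNoetherian_isArtinian.1 hK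
  obtain ⟨q, hq⟩ := associatedPrimes.nonempty R K
  obtain ⟨hqp, z, hz⟩ := isAssociatedPrime_iff.1 hq
  have hz0 : z ≠ 0 := fun h0 => hqp.ne_top (by rw [hz, h0]; simp)
  have : Nontrivial M := ⟨z, 0, fun h => hz0 (Subtype.ext h)⟩
  refine depth_eq_zero_of_socle (z : M) (fun h => hz0 (Subtype.ext h)) fun c hc => ?_
  have hmax : q = maximalIdeal R := by
    have : IsArtinian R (R ⧸ q) := by
      refine isArtinian_of_injective (Submodule.liftQ q (LinearMap.toSpanSingleton R K z) (fun a ha => ?_)) ?_
      · rw [hz, Submodule.mem_colon_singleton, Submodule.mem_bot] at ha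
        simpa using ha
      · rw [← LinearMap.ker_eq_bot, Submodule.ker_liftQ_eq_bot']
        ext a
        rw [hz, Submodule.mem_colon_singleton, Submodule.mem_bot]
        simp
    have : IsArtinianRing (R ⧸ q) := isArtinian_of_tower R this
    exact IsLocalRing.eq_maximalIdeal (Ideal.Quotient.maximal_of_isField q (IsArtinianRing.isField_of_isDomain _))
  have h1 : c ∈ q := hmax ▸ hc
  rw [hz, Submodule.mem_colon_singleton, Submodule.mem_bot] at h1
  exact congrArg Subtype.val h1

/-- The depth of a regular local ring is its dimension. -/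
theorem depth_eq_of_isRegularLocalRing (S : Type u) [CommRing S] [IsRegularLocalRing S] {d : ℕ}
    (hd : ringKrullDim S = d) : LocCoh.depth S S = d := by
  refine le_antisymm ?_ ?_
  · have h := depth_le_supportDim (R := S) S
    rw [Module.supportDim_self_eq_ringKrullDim, hd] at h
    exact_mod_cast h
  · have hfr := spanFinrank_eq_of_ringKrullDim (R := S) (d := d) hd
    obtain ⟨x, hx⟩ := exists_span_eq_maximalIdeal hfr
    refine (le_idealDepth_iff_exists (R := S) (maximalIdeal S)
      (smul_maximalIdeal_ne_top S (maximalIdeal.isMaximal S).ne_top) d).mpr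
      ⟨List.ofFn x, List.length_ofFn, isWeaklyRegular_of_span_eq d S hfr x hx, fun r hr => ?_⟩
    obtain ⟨i, rfl⟩ := List.mem_ofFn.mp hr
    exact hx ▸ Ideal.subset_span ⟨i, rfl⟩

end Groth.FrobLCI
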