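import Groth.Agent.FrobLCI.PerfectMap
import Groth.Agent.HTopHyper.HTor.BaseChange
import Groth.Agent.SGA7.TorSeq

/-! Perfect rings of characteristic `p` are Tor-independent. -/

set_option autoImplicit false

universe u

open CategoryTheory TensorProduct

namespace Groth.FrobLCI.PerfectTor

open Groth.HTorLib

variable (p : ℕ) [Fact p.Prime]

/-- `p = 0` and the `p`-th power is bijective. -/
structure Perf (R : Type u) [CommRing R] : Prop where
  cast : (p : R) = 0
  bij : Function.Bijective fun x : R => x ^ p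

variable {p}
variable {R : Type u} [CommRing R]

theorem Perf.add_pow (h : Perf p R) (x y : R) : (x + y) ^ p = x ^ p + y ^ p := by
  obtain ⟨r, hr⟩ := exists_add_pow_prime_eq (Fact.out : p.Prime) x y
  rw [hr, h.cast]; ring

/-- Frobenius as an automorphism. -/
noncomputable def Perf.fr (h : Perf p R) : R ≃+* R :=
  RingEquiv.ofBijective
    ({ toFun := fun x => x ^ p
       map_one' := one_pow p
       map_mul' := fun x y => mul_pow x y p
       map_zero' := zero_pow (Fact.out : p.Prime).ne_zero
       map_add' := h.add_pow } : R →+* R) h.bij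

theorem Perf.fr_apply (h : Perf p R) (x : R) : h.fr x = x ^ p := rfl

theorem Perf.rt_pow (h : Perf p R) (x : R) : h.fr.symm (x ^ p) = x := h.fr.symm_apply_apply x

theorem Perf.pow_rt (h : Perf p R) (x : R) : h.fr.symm x ^ p = x := h.fr.apply_symm_apply x

theorem Perf.charP [Nontrivial R] (h : Perf p R) : CharP R p :=
  ringChar.of_eq (CharP.ringChar_of_prime_eq_zero Fact.out h.cast)

theorem Perf.iterate_rt_pow (h : Perf p R) (m : ℕ) (a : R) : (h.fr.symm^[m] a) ^ p ^ m = a := by
  induction m with
  | zero => simp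
  | succ m ih => rw [Function.iterate_succ_apply', pow_succ', pow_mul, h.pow_rt, ih]

theorem Perf.isReduced (h : Perf p R) : IsReduced R := by
  refine (isReduced_iff_pow_one_lt p (Fact.out : p.Prime).one_lt).2 fun x hx => h.bij.1 ?_
  show x ^ p = (0 : R) ^ p
  rw [hx, zero_pow (Fact.out : p.Prime).ne_zero]

theorem Perf.quotient (h : Perf p R) {J : Ideal R} (hJ : J.IsRadical) : Perf p (R ⧸ J) := by
  refine ⟨by rw [← map_natCast (Ideal.Quotient.mk J), h.cast, map_zero], fun a b hab => ?_, fun a => ?_⟩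
  · obtain ⟨x, rfl⟩ := Ideal.Quotient.mk_surjective a
    obtain ⟨y, rfl⟩ := Ideal.Quotient.mk_surjective b
    rw [Ideal.Quotient.eq]
    refine hJ ⟨p, ?_⟩
    have h1 : x ^ p - y ^ p ∈ J := by
      rw [← Ideal.Quotient.eq, map_pow, map_pow]; exact hab
    rw [← h.fr_apply, map_sub]
    exact h1
  · obtain ⟨x, rfl⟩ := Ideal.Quotient.mk_surjective a
    exact ⟨Ideal.Quotient.mk J (h.fr.symm x), by
      show _ ^ p = _
      rw [← map_pow, h.pow_rt]⟩

section Tensor

variable {A B C : Type u} [CommRing A] [CommRing B] [CommRing C] [Algebra A B] [Algebra A C]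

theorem Perf.tensor (hA : Perf p A) (hB : Perf p B) (hC : Perf p C) : Perf p (B ⊗[A] C) := by
  have hc : (p : B ⊗[A] C) = 0 := by
    rw [← map_natCast (algebraMap A (B ⊗[A] C)), hA.cast, map_zero]
  have hadd : ∀ x y : B ⊗[A] C, (x + y) ^ p = x ^ p + y ^ p := fun x y => by
    obtain ⟨r, hr⟩ := exists_add_pow_prime_eq (Fact.out : p.Prime) x y
    rw [hr, hc]; ring
  let f : B →+ C →+ B ⊗[A] C :=
    { toFun := fun b =>
        { toFun := fun c => hB.fr.symm b ⊗ₜ[A] hC.fr.symm c
          map_zero' := by rw [map_zero, tmul_zero]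
          map_add' := fun x y => by rw [map_add, tmul_add] }
      map_zero' := by
        refine AddMonoidHom.ext fun c => ?_
        show hB.fr.symm 0 ⊗ₜ[A] hC.fr.symm c = (0 : B ⊗[A] C)
        rw [map_zero, zero_tmul]
      map_add' := fun x y => by
        refine AddMonoidHom.ext fun c => ?_
        show hB.fr.symm (x + y) ⊗ₜ[A] hC.fr.symm c = _
        rw [map_add, add_tmul]
        rfl }
  have hbal : ∀ (r : A) (b : B) (c : C), f (r • b) c = f b (r • c) := fun r b c => by
    show hB.fr.symm (r • b) ⊗ₜ[A] hC.fr.symm c = hB.fr.symm b ⊗ₜ[A] hC.fr.symm (r • c)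
    have e1 : hB.fr.symm (r • b) = hA.fr.symm r • hB.fr.symm b := by
      apply hB.fr.injective
      rw [RingEquiv.apply_symm_apply, hB.fr_apply, smul_pow, hA.pow_rt, hB.pow_rt]
    have e2 : hC.fr.symm (r • c) = hA.fr.symm r • hC.fr.symm c := by
      apply hC.fr.injective
      rw [RingEquiv.apply_symm_apply, hC.fr_apply, smul_pow, hA.pow_rt, hC.pow_rt]
    rw [e1, e2, smul_tmul]
  let g := TensorProduct.liftAddHom f hbal
  have hg : ∀ z, g (z ^ p) = z := fun z => by
    induction z using TensorProduct.induction_on with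
    | zero => rw [zero_pow (Fact.out : p.Prime).ne_zero, map_zero]
    | tmul b c =>
      rw [Algebra.TensorProduct.tmul_pow]
      show hB.fr.symm (b ^ p) ⊗ₜ[A] hC.fr.symm (c ^ p) = _
      rw [hB.rt_pow, hC.rt_pow]
    | add x y hx hy => rw [hadd, map_add, hx, hy]
  refine ⟨hc, fun a b hab => by rw [← hg a, ← hg b]; exact congrArg g hab, fun z => ?_⟩
  induction z using TensorProduct.induction_on with
  | zero => exact ⟨0, zero_pow (Fact.out : p.Prime).ne_zero⟩
  | tmul b c =>
    refine ⟨hB.fr.symm b ⊗ₜ hC.fr.symm c, ?_⟩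
    show (_ : B ⊗[A] C) ^ p = _
    rw [Algebra.TensorProduct.tmul_pow, hB.pow_rt, hC.pow_rt]
  | add x y hx hy =>
    obtain ⟨a, ha⟩ := hx
    obtain ⟨b, hb⟩ := hy
    exact ⟨a + b, by show (a + b) ^ p = _; rw [hadd]; exact congrArg₂ (· + ·) ha hb⟩

end Tensor

theorem subsingleton_of_flat (M N : Type u) [AddCommGroup M] [Module R M] [Module.Flat R M]
    [AddCommGroup N] [Module R N] (q : ℕ) (hq : 0 < q) : Subsingleton (DRing.Tor R q M N) :=
  ModuleCat.subsingleton_of_isZero (Groth.SGA7.TorSeq.isZero_tor_of_flat (ModuleCat.of R M) _ q hq)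

theorem torCongr {M M' : Type u} [AddCommGroup M] [Module R M] [AddCommGroup M'] [Module R M']
    (e : M ≃ₗ[R] M') (N : Type u) [AddCommGroup N] [Module R N] (q : ℕ)
    (h : Subsingleton (DRing.Tor R q N M)) : Subsingleton (DRing.Tor R q N M') := by
  exact (((CategoryTheory.Tor (ModuleCat.{u} R) q).obj (ModuleCat.of R N)).mapIso
    e.toModuleIso).toLinearEquiv.symm.injective.subsingleton

/-- The principal case. -/
theorem principal {C : Type u} [CommRing C] [Algebra R C] (hR : Perf p R) (hC : Perf p C) (f : R)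
    (q : ℕ) (hq : 0 < q) : Subsingleton (DRing.Tor R q C (R ⧸ (Ideal.span {f}).radical)) := by
  rcases subsingleton_or_nontrivial R with hs | hn
  · exact Module.subsingleton R _
  have hp := (Fact.out : p.Prime)
  have : CharP R p := hR.charP
  have : PerfectRing R p := ⟨hR.bij⟩
  have : IsReduced C := hC.isReduced
  set I := (Ideal.span {f}).radical
  have hflat : Module.Flat R I := PerfectMap.flat_radical_span_singleton p R f
  obtain ⟨_ | _ | m, rfl⟩ : ∃ m, q = m := ⟨q, rfl⟩
  · exact absurd hq (lt_irrefl 0)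
  · -- degree one
    let g : ℕ → R := fun n => hR.fr.symm^[n] f
    have hg' : ∀ n, g (n + 1) ^ p = g n := fun n => by
      show (hR.fr.symm^[n + 1] f) ^ p = _
      rw [Function.iterate_succ_apply', hR.pow_rt]
    have hg : ∀ n, g n ^ p ^ n = f := fun n => by
      induction n with
      | zero => simp [g]
      | succ n ih => rw [pow_succ', pow_mul, hg', ih]
    have hmem : ∀ n, g n ∈ I := fun n => ⟨p ^ n, by rw [hg]; exact Ideal.mem_span_singleton_self f⟩
    let γ : ℕ → I := fun n => ⟨g n, hmem n⟩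
    have hstep : ∀ (c : C) (n : ℕ), c ⊗ₜ[R] γ n = (g (n + 1) ^ (p - 1) • c) ⊗ₜ[R] γ (n + 1) := fun c n => by
      rw [smul_tmul]
      congr 1
      apply Subtype.ext
      show g n = g (n + 1) ^ (p - 1) * g (n + 1)
      rw [← pow_succ, show p - 1 + 1 = p by have := hp.one_le; omega, hg']
    have hlift : ∀ (k : ℕ) (c : C) (n : ℕ), ∃ c' : C, c ⊗ₜ[R] γ n = c' ⊗ₜ[R] γ (n + k) := fun k => by
      induction k with
      | zero => exact fun c n => ⟨c, rfl⟩
      | succ k ih =>
        intro c n
        obtain ⟨c', hc'⟩ := ih c n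
        exact ⟨_, hc'.trans (hstep c' (n + k))⟩
    have hcol : ∀ z : C ⊗[R] I, ∃ (c : C) (n : ℕ), z = c ⊗ₜ[R] γ n := fun z => by
      induction z using TensorProduct.induction_on with
      | zero => exact ⟨0, 0, (zero_tmul _ _).symm⟩
      | tmul c x =>
        obtain ⟨m, hm⟩ := x.2
        have hk : m ≤ p ^ m := (Nat.lt_pow_self hp.one_lt).le
        obtain ⟨a, ha⟩ := Ideal.mem_span_singleton'.mp (Ideal.pow_mem_of_pow_mem _ hm hk)
        refine ⟨hR.fr.symm^[m] a • c, m, ?_⟩
        rw [smul_tmul]
        congr 1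
        apply Subtype.ext
        show (x : R) = hR.fr.symm^[m] a * g m
        apply (iterateFrobeniusEquiv R p m).injective
        rw [iterateFrobeniusEquiv_def, iterateFrobeniusEquiv_def, mul_pow, hg, hR.iterate_rt_pow, ha]
      | add x y hx hy =>
        obtain ⟨a, n, rfl⟩ := hx
        obtain ⟨b, m, rfl⟩ := hy
        obtain ⟨a', ha⟩ := hlift m a n
        obtain ⟨b', hb⟩ := hlift n b m
        refine ⟨a' + b', n + m, ?_⟩
        rw [ha, hb, add_comm m n, add_tmul]
    let S := (Syz.free (ModuleCat.of R I)).cons (ModuleCat.of R (R ⧸ I)) (ModuleCat.of R R) I.subtype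
      (Submodule.mkQ I) Subtype.val_injective (Submodule.mkQ_surjective I)
      (LinearMap.exact_subtype_mkQ I)
    obtain ⟨e⟩ := S.tor_succ (ModuleCat.of R C) 0
    suffices h : LinearMap.ker ((Submodule.subtype I).lTensor C) = ⊥ from
      @Function.Injective.subsingleton _ _ _ e.injective (Submodule.subsingleton_iff_eq_bot.2 h)
    rw [Submodule.eq_bot_iff]
    intro z hz
    obtain ⟨c, n, rfl⟩ := hcol z
    have h0 : g n • c = 0 := by
      have h1 := congrArg (TensorProduct.rid R C) (LinearMap.mem_ker.mp hz)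
      rw [map_zero, LinearMap.lTensor_tmul, TensorProduct.rid_tmul] at h1
      exact h1
    have h2 : g (n + 1) • c = 0 := by
      apply IsReduced.eq_zero _
      refine ⟨p, ?_⟩
      rw [smul_pow, hg', show p = p - 1 + 1 by have := hp.one_le; omega, pow_succ',
        ← smul_mul_assoc, h0, zero_mul]
    rw [hstep, show p - 1 = p - 2 + 1 by have := hp.two_le; omega, pow_succ, mul_smul, h2, smul_zero,
      zero_tmul]
  · obtain ⟨e₀⟩ := tor_symm (A := R) (m + 2) C (R ⧸ I)
    obtain ⟨e⟩ := tor_shift_left (M := R ⧸ I) (v := Submodule.subtype I) (ρ := Submodule.mkQ I)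
      Subtype.val_injective (Submodule.mkQ_surjective I) (LinearMap.exact_subtype_mkQ I) C m
    have := subsingleton_of_flat (R := R) I C (m + 1) m.succ_pos
    exact (e₀.trans e).injective.subsingleton

variable {A C : Type u} [CommRing A] [CommRing C] [Algebra A C]

/-- Finitely generated radical ideals. -/
theorem finite_gen (hA : Perf p A) (hC : Perf p C) (s : Finset A) :
    ∀ q : ℕ, 0 < q → Subsingleton (DRing.Tor A q (A ⧸ (Ideal.span (s : Set A)).radical) C) := by
  classical
  induction s using Finset.induction with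
  | empty =>
    intro q hq
    have : IsReduced A := hA.isReduced
    have hb : (Ideal.span ((∅ : Finset A) : Set A)).radical = ⊥ := by
      rw [Finset.coe_empty, Ideal.span_empty]
      exact nilradical_eq_zero A
    have : Module.Flat A (A ⧸ (Ideal.span ((∅ : Finset A) : Set A)).radical) :=
      Module.Flat.of_linearEquiv (Submodule.quotEquivOfEqBot _ hb)
    exact subsingleton_of_flat _ _ q hq
  | insert f s _ ih =>
    intro q hq
    set J := (Ideal.span (s : Set A)).radical
    set I := (Ideal.span (↑(insert f s) : Set A)).radical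
    have hAJ : ∀ k, 0 < k → Subsingleton (DRing.Tor A k C (A ⧸ J)) := fun k hk => by
      obtain ⟨e⟩ := tor_symm (A := A) k C (A ⧸ J)
      have := ih k hk
      exact e.injective.subsingleton
    have hRp : Perf p (A ⧸ J) := hA.quotient (Ideal.radical_isRadical _)
    have hJI : J ≤ I := Ideal.radical_mono (Ideal.span_mono (by simp))
    have hIbar : I.map (Ideal.Quotient.mk J) = (Ideal.span {Ideal.Quotient.mk J f}).radical := by
      have h1 : I = ((Ideal.span {Ideal.Quotient.mk J f}).radical).comap (Ideal.Quotient.mk J) := by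
        rw [Ideal.comap_radical, ← Set.image_singleton, ← Ideal.map_span,
          Ideal.comap_map_of_surjective _ Ideal.Quotient.mk_surjective, ← RingHom.ker_eq_comap_bot,
          Ideal.mk_ker, Ideal.radical_sup]
        show _ = (((Ideal.span {f}).radical) ⊔ (Ideal.span (s : Set A)).radical.radical).radical
        rw [Ideal.radical_idem, ← Ideal.radical_sup, ← Ideal.span_union]
        show (Ideal.span _).radical = _
        rw [Finset.coe_insert, Set.insert_eq]
      rw [h1, Ideal.map_comap_of_surjective _ Ideal.Quotient.mk_surjective]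
    have hTp : Perf p ((A ⧸ J) ⊗[A] C) := hA.tensor hRp hC
    obtain ⟨φ, hφ⟩ := tor_baseChange_acyclic (A := A) (A' := A ⧸ J) C
      ((A ⧸ J) ⧸ I.map (Ideal.Quotient.mk J)) hAJ q
    have := torCongr (Submodule.quotEquivOfEq _ _ hIbar).symm ((A ⧸ J) ⊗[A] C) q
      (principal hRp hTp (Ideal.Quotient.mk J f) q hq)
    have h3 := hφ.1.subsingleton
    have h4 := torCongr (DoubleQuot.quotQuotEquivQuotOfLEₐ A hJI).toLinearEquiv C q h3
    obtain ⟨e⟩ := tor_symm (A := A) q (A ⧸ I) C
    exact e.injective.subsingleton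

theorem comap_smul_le_iff {N F : Type u} [AddCommGroup N] [Module A N] [AddCommGroup F] [Module A F]
    (u : N →ₗ[A] F) (I : Ideal A) :
    LinearMap.ker (u.lTensor (A ⧸ I)) = ⊥ ↔ (I • ⊤ : Submodule A F).comap u ≤ I • ⊤ := by
  have key : ∀ (M : Type u) [AddCommGroup M] [Module A M] (x : M),
      (1 : A ⧸ I) ⊗ₜ[A] x = 0 ↔ x ∈ (I • ⊤ : Submodule A M) := fun M _ _ x => by
    rw [← TensorProduct.quotTensorEquivQuotSMul_symm_mk, LinearEquiv.map_eq_zero_iff,
      Submodule.Quotient.mk_eq_zero]
  constructor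
  · intro h x hx
    rw [← key]
    refine (Submodule.eq_bot_iff _).1 h _ ?_
    rw [LinearMap.mem_ker, LinearMap.lTensor_tmul, key]
    exact hx
  · intro h
    rw [Submodule.eq_bot_iff]
    intro z hz
    obtain ⟨x, rfl⟩ : ∃ x : N, (1 : A ⧸ I) ⊗ₜ[A] x = z := by
      obtain ⟨y, rfl⟩ := (TensorProduct.quotTensorEquivQuotSMul N I).symm.surjective z
      obtain ⟨x, rfl⟩ := Submodule.Quotient.mk_surjective _ y
      exact ⟨x, (TensorProduct.quotTensorEquivQuotSMul_symm_mk I x).symm⟩
    rw [key]
    rw [LinearMap.mem_ker, LinearMap.lTensor_tmul, key] at hz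
    exact h hz

/-- All radical ideals. -/
theorem radical (hA : Perf p A) (hC : Perf p C) (I : Ideal A) (hI : I.IsRadical) (q : ℕ) (hq : 0 < q) :
    Subsingleton (DRing.Tor A q (A ⧸ I) C) := by
  classical
  obtain ⟨m, rfl⟩ := Nat.exists_eq_succ_of_ne_zero hq.ne'
  let S := Syz.free (ModuleCat.of A C)
  obtain ⟨e⟩ := S.tor_succ (ModuleCat.of A (A ⧸ I)) m
  suffices h : LinearMap.ker ((S.u m).lTensor (A ⧸ I)) = ⊥ from
    @Function.Injective.subsingleton _ _ _ e.injective (Submodule.subsingleton_iff_eq_bot.2 h)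
  rw [comap_smul_le_iff]
  intro x hx
  obtain ⟨s, hs, hxs⟩ : ∃ s : Finset A, ↑s ⊆ (I : Set A) ∧
      S.u m x ∈ (Ideal.span (s : Set A)) • (⊤ : Submodule A (S.P m)) := by
    refine Submodule.smul_induction_on (p := fun y => ∃ s : Finset A, ↑s ⊆ (I : Set A) ∧
      y ∈ (Ideal.span (s : Set A)) • (⊤ : Submodule A (S.P m))) (Submodule.mem_comap.mp hx) ?_ ?_
    · intro r hr y _
      exact ⟨{r}, by simpa using hr,
        Submodule.smul_mem_smul (Ideal.subset_span (by simp)) Submodule.mem_top⟩
    · rintro y z ⟨s, hs, hy⟩ ⟨t, ht, hz⟩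
      refine ⟨s ∪ t, by simp [hs, ht], add_mem ?_ ?_⟩
      · exact Submodule.smul_mono_left (Ideal.span_mono (by simp)) hy
      · exact Submodule.smul_mono_left (Ideal.span_mono (by simp)) hz
  set J := (Ideal.span (s : Set A)).radical
  obtain ⟨eJ⟩ := S.tor_succ (ModuleCat.of A (A ⧸ J)) m
  have := finite_gen hA hC s (m + 1) m.succ_pos
  have h0 : LinearMap.ker ((S.u m).lTensor (A ⧸ J)) = ⊥ :=
    Submodule.subsingleton_iff_eq_bot.1 (@Function.Injective.subsingleton _ _ _ eJ.symm.injective this)
  have h1 := (comap_smul_le_iff (S.u m) J).1 h0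
    (Submodule.mem_comap.mpr (Submodule.smul_mono_left Ideal.le_radical hxs))
  exact Submodule.smul_mono_left
    ((Ideal.radical_mono (Ideal.span_le.2 hs)).trans hI) h1

/-- Surjections of perfect rings. -/
theorem of_surjective {B : Type u} [CommRing B] [Algebra A B]
    (hA : Perf p A) (hB : Perf p B) (hC : Perf p C)
    (h : Function.Surjective (algebraMap A B)) (q : ℕ) (hq : 0 < q) :
    Subsingleton (DRing.Tor A q C B) := by
  have : IsReduced B := hB.isReduced
  have hI : (RingHom.ker (algebraMap A B)).IsRadical := fun x ⟨k, hk⟩ => by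
    rw [RingHom.mem_ker] at hk ⊢
    rw [map_pow] at hk
    exact IsReduced.eq_zero _ ⟨k, hk⟩
  obtain ⟨e⟩ := tor_symm (A := A) q C (A ⧸ RingHom.ker (algebraMap A B))
  have := radical hA hC _ hI q hq
  exact torCongr (Ideal.quotientKerAlgEquivOfSurjective (f := Algebra.ofId A B) h).toLinearEquiv C q
    e.injective.subsingleton

/-- The theorem. -/
theorem main {B : Type u} [CommRing B] [Algebra A B] [CharP A p]
    (hA : Perf p A) (hB : Perf p B) (hC : Perf p C) (q : ℕ) (hq : 0 < q) :
    Subsingleton (DRing.Tor A q B C) := by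
  rcases subsingleton_or_nontrivial B with hs | hn
  · exact subsingleton_of_flat B C q hq
  have hp := (Fact.out : p.Prime)
  have : PerfectRing A p := ⟨hA.bij⟩
  have : CharP B p := hB.charP
  have : PerfectRing B p := ⟨hB.bij⟩
  have : CharP (MvPolynomial B A) p := charP_of_injective_algebraMap (MvPolynomial.C_injective B A) p
  let P := PerfectClosure (MvPolynomial B A) p
  let _ : Algebra A P := ((PerfectClosure.of (MvPolynomial B A) p).comp (algebraMap A (MvPolynomial B A))).toAlgebra
  have hflat : Module.Flat A P := by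
    rw [← RingHom.flat_algebraMap_iff]
    exact PerfectMap.flat p (algebraMap A (MvPolynomial B A)) (RingHom.flat_algebraMap_iff.2 inferInstance)
      (RingHom.id A) (PerfectClosure.of (MvPolynomial B A) p) (algebraMap A P) (RingHom.comp_id _)
  let ψ : P →+* B := PerfectClosure.lift (MvPolynomial B A) p B
    (MvPolynomial.aeval (id : B → B)).toRingHom
  have hψ : ∀ x, ψ (PerfectClosure.of _ p x) = MvPolynomial.aeval (id : B → B) x := fun x => rfl
  let _ : Algebra P B := ψ.toAlgebra
  have : IsScalarTower A P B := .of_algebraMap_eq fun a => by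
    show _ = ψ (PerfectClosure.of _ p (algebraMap A (MvPolynomial B A) a))
    rw [hψ, AlgHom.commutes]
  have hP : Perf p P := ⟨CharP.cast_eq_zero P p, PerfectRing.bijective_frobenius⟩
  have hac : ∀ k, 0 < k → Subsingleton (DRing.Tor A k C P) := fun k hk => by
    obtain ⟨e⟩ := tor_symm (A := A) k C P
    have := subsingleton_of_flat (R := A) P C k hk
    exact e.injective.subsingleton
  obtain ⟨φ, hφ⟩ := tor_baseChange_acyclic (A := A) (A' := P) C B hac q
  have := of_surjective (B := B) hP hB (hA.tensor (B := P) hP hC)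
    (fun b => ⟨PerfectClosure.of _ p (MvPolynomial.X b), by
      show ψ _ = b
      rw [hψ, MvPolynomial.aeval_X]; rfl⟩) q hq
  have h3 := hφ.1.subsingleton
  obtain ⟨e⟩ := tor_symm (A := A) q B C
  exact e.injective.subsingleton

end Groth.FrobLCI.PerfectTor
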