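import Groth.Agent.Misc8.QuietSyntomic
import Mathlib.RingTheory.Flat.FaithfullyFlat.Basic
import Mathlib.RingTheory.RingHom.FaithfullyFlat

/-!
The map `T_i ↦ T_i ^ p` of polynomial rings is syntomic and faithfully flat.
-/

universe u

open MvPolynomial

namespace Groth.FrobLCI.FrobPoly

theorem qs (p : ℕ) [Fact p.Prime] (A : Type u) [CommRing A] (m : ℕ) (S : Type u) [CommRing S] [Algebra A S]
    [Algebra (MvPolynomial (Fin m) A) S] [IsScalarTower A (MvPolynomial (Fin m) A) S]
    (e : MvPolynomial (Fin m) A ≃ₐ[A] S)
    (he : ∀ i, algebraMap (MvPolynomial (Fin m) A) S (X i) = e (X i) ^ p) :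
    Groth.Misc8.QuietSyntomic.QS (MvPolynomial (Fin m) A) S ∧
      Module.FaithfullyFlat (MvPolynomial (Fin m) A) S := by
  classical
  have hp := (Fact.out : p.Prime)
  let P := MvPolynomial (Fin m) A
  -- the monomial basis
  let r : (Fin m → Fin p) → (Fin m →₀ ℕ) := fun k => Finsupp.equivFunOnFinite.symm fun i => (k i : ℕ)
  have hmon : ∀ (d : Fin m →₀ ℕ) (a : A), algebraMap P S (monomial d a) = e (monomial (p • d) a) := by
    intro d a
    have hh : (IsScalarTower.toAlgHom A P S) = e.toAlgHom.comp (MvPolynomial.expand p) :=
      MvPolynomial.algHom_ext fun i => by simp [he, P]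
    rw [← MvPolynomial.expand_monomial]
    exact AlgHom.congr_fun hh _
  let b : (Fin m → Fin p) → S := fun k => e (monomial (r k) 1)
  let L := Fintype.linearCombination P b
  have hcoeff : ∀ (c : P) (k : Fin m → Fin p) (k' : Fin m → Fin p) (d : Fin m →₀ ℕ),
      coeff (p • d + r k) (e.symm (c • b k')) = if k = k' then coeff d c else 0 := by
    intro c k k' d
    induction c using MvPolynomial.induction_on' with
    | monomial d' a =>
      rw [Algebra.smul_def, hmon, map_mul, AlgEquiv.symm_apply_apply, AlgEquiv.symm_apply_apply, monomial_mul,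
        mul_one, coeff_monomial, coeff_monomial]
      by_cases h : p • d' + r k' = p • d + r k
      · have hi : ∀ i, d' i = d i ∧ (k' i : ℕ) = k i := fun i => by
          have := DFunLike.congr_fun h i
          simp only [Finsupp.add_apply, Finsupp.smul_apply, smul_eq_mul, r, Finsupp.equivFunOnFinite_symm_apply_apply]
            at this
          constructor
          · have h1 := congrArg (· / p) this
            simpa [Nat.mul_add_div hp.pos, Nat.div_eq_of_lt (k' i).isLt, Nat.div_eq_of_lt (k i).isLt] using h1
          · have h1 := congrArg (· % p) this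
            simpa [Nat.mod_eq_of_lt (k' i).isLt, Nat.mod_eq_of_lt (k i).isLt] using h1
        rw [if_pos h, if_pos (funext fun i => Fin.ext (hi i).2.symm), if_pos (Finsupp.ext fun i => (hi i).1)]
      · rw [if_neg h]
        split_ifs with h1 h2
        · exact absurd (by rw [h1, h2]) h
        · rfl
        · rfl
    | add c c' hc hc' =>
      rw [add_smul, map_add, coeff_add, hc, hc', coeff_add]
      split_ifs <;> simp
  have hL : Function.Bijective L := by
    constructor
    · rw [injective_iff_map_eq_zero]
      intro c hc
      funext k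
      ext d
      have h1 := congrArg (fun s => coeff (p • d + r k) (e.symm s)) hc
      simp only [L, Fintype.linearCombination_apply, map_sum, coeff_sum, hcoeff, Finset.sum_ite_eq,
        Finset.mem_univ, if_true, map_zero, coeff_zero] at h1
      simpa using h1
    · intro s
      obtain ⟨f, rfl⟩ := e.surjective s
      induction f using MvPolynomial.induction_on' with
      | monomial d a =>
        refine ⟨Pi.single (fun i => ⟨d i % p, Nat.mod_lt _ hp.pos⟩)
          (monomial (Finsupp.equivFunOnFinite.symm fun i => d i / p) a), ?_⟩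
        simp only [L, Fintype.linearCombination_apply_single]
        rw [Algebra.smul_def, hmon, ← map_mul, monomial_mul, mul_one]
        refine congrArg e (congrArg (fun d => monomial d a) (Finsupp.ext fun i => ?_))
        simp only [r, Finsupp.add_apply, Finsupp.smul_apply, smul_eq_mul, Finsupp.equivFunOnFinite_symm_apply_apply]
        exact Nat.div_add_mod _ _
      | add f g hf hg =>
        obtain ⟨c, hc⟩ := hf
        obtain ⟨c', hc'⟩ := hg
        exact ⟨c + c', by rw [map_add, hc, hc', map_add]⟩
  let B := LinearEquiv.ofBijective L hL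
  have hfin : Module.Finite P S := Module.Finite.equiv B
  have hflat : Module.Flat P S := Module.Flat.of_linearEquiv B.symm
  have hff : Module.FaithfullyFlat P S := by
    have : Nonempty (Fin m → Fin p) := ⟨fun _ => ⟨0, hp.pos⟩⟩
    exact Module.FaithfullyFlat.of_linearEquiv _ _ (B.symm.trans (Finsupp.linearEquivFunOnFinite P P _).symm)
  -- the presentation
  let v : Fin m → MvPolynomial (Fin m) P := fun i => X i ^ p - C (X i)
  let Ψ : MvPolynomial (Fin m) P →ₐ[P] S := aeval fun i => e (X i)
  have hv : ∀ g ∈ Ideal.span (Set.range v), Ψ g = 0 := fun g hg => by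
    refine (Ideal.span_le (I := RingHom.ker Ψ.toRingHom)).mpr ?_ hg
    rintro _ ⟨i, rfl⟩
    show Ψ (v i) = 0
    simp [Ψ, v, he, P]
  let Φ := Ideal.Quotient.liftₐ _ Ψ hv
  let G : S →ₐ[A] (MvPolynomial (Fin m) P ⧸ Ideal.span (Set.range v)) :=
    (aeval fun i => Ideal.Quotient.mk (Ideal.span (Set.range v)) (X i)).comp e.symm.toAlgHom
  have hGe : ∀ i, G (e (X i)) = Ideal.Quotient.mk (Ideal.span (Set.range v)) (X i) := fun i => by simp [G]
  have hΦ : Function.Bijective Φ := by
    have hG : ∀ y, G (Φ y) = y := by
      intro y
      obtain ⟨g, rfl⟩ := Ideal.Quotient.mk_surjective y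
      show G (Ψ g) = _
      induction g using MvPolynomial.induction_on with
      | C c =>
        rw [show Ψ (C c) = algebraMap P S c from aeval_C _ _]
        induction c using MvPolynomial.induction_on with
        | C a =>
          rw [show algebraMap P S (C a) = algebraMap A S a from (IsScalarTower.algebraMap_apply A P S a).symm,
            AlgHom.commutes]
          rfl
        | add c c' hc hc' => rw [map_add, map_add, hc, hc', C_add, map_add]
        | mul_X c i hc =>
          rw [map_mul, map_mul, hc, he, map_pow, hGe, ← map_pow, ← map_mul, map_mul C]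
          rw [Ideal.Quotient.eq, ← mul_sub]
          exact Ideal.mul_mem_left _ _ (Ideal.subset_span ⟨i, rfl⟩)
      | add g g' hg hg' => simp only [map_add, hg, hg']
      | mul_X g i hg => rw [map_mul, map_mul, hg, show Ψ (X i) = e (X i) from aeval_X _ _, hGe, map_mul]
    refine ⟨fun y y' h => by rw [← hG y, h, hG], fun s => ?_⟩
    obtain ⟨f, rfl⟩ := e.surjective s
    induction f using MvPolynomial.induction_on with
    | C a => exact ⟨algebraMap A _ a, by
        rw [IsScalarTower.algebraMap_apply A P, AlgHom.commutes, ← IsScalarTower.algebraMap_apply]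
        exact (e.commutes a).symm⟩
    | add f g hf hg =>
      obtain ⟨a, ha⟩ := hf
      obtain ⟨b, hb⟩ := hg
      exact ⟨a + b, by rw [map_add, ha, hb, map_add]⟩
    | mul_X f i hf =>
      obtain ⟨a, ha⟩ := hf
      exact ⟨a * Ideal.Quotient.mk _ (X i), by
        rw [map_mul, ha, map_mul]; exact congrArg _ (aeval_X _ _)⟩
  have : Algebra.FinitePresentation P (MvPolynomial (Fin m) P ⧸ Ideal.span (Set.range v)) :=
    Algebra.FinitePresentation.quotient (Submodule.fg_span (Set.finite_range v))
  let eΦ := AlgEquiv.ofBijective Φ hΦ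
  have hfp : Algebra.FinitePresentation P S := Algebra.FinitePresentation.equiv (A := MvPolynomial (Fin m) P ⧸ Ideal.span (Set.range v)) eΦ
  exact ⟨⟨hflat, hfp, inferInstance, m,
    ⟨(Algebra.Presentation.naive (v := v)).ofAlgEquiv (AlgEquiv.ofBijective Φ hΦ)⟩⟩, hff⟩

end Groth.FrobLCI.FrobPoly
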