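import Groth.Agent.FrobLCI.Lech.Ineq
import Groth.Agent.Ega41Dim.SystemParams
import Groth.Agent.Calg1.MiracleFlatness
import Groth.Agent.DualCore.Representing
import Mathlib.Analysis.Polynomial.Basic

/-!
# Kunz's theorem for local rings

Independence in the sense of Lech, the length formula for powers of independent elements, and the two
directions of Kunz's theorem.
-/

set_option autoImplicit false
set_option linter.style.haveILetI false
universe u

open IsLocalRing Filter Topology Groth.Lech
open Groth.KEuler (Good)

namespace Groth.Kunz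

section Indep

variable {R : Type u} [CommRing R] {n : ℕ}

/-- independence in the sense of Lech -/
def Indep (y : Fin n → R) : Prop := ∀ c : Fin n → R, ∑ i, c i * y i = 0 → ∀ i, c i ∈ Ideal.span (Set.range y)

theorem sum_update [DecidableEq (Fin n)] (g y : Fin n → R) (j : Fin n) (t : R) :
    ∑ i, g i * Function.update y j t i = g j * t + ∑ i ∈ Finset.univ.erase j, g i * y i := by
  rw [← Finset.add_sum_erase _ _ (Finset.mem_univ j), Function.update_self]
  congr 1
  refine Finset.sum_congr rfl fun i hi => ?_
  rw [Function.update_of_ne (Finset.ne_of_mem_erase hi)]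

theorem span_update_mul_le (y : Fin n → R) (j : Fin n) (a b : R) :
    Ideal.span (Set.range (Function.update y j (a * b))) ≤ Ideal.span (Set.range (Function.update y j a)) := by
  rw [Ideal.span_le]
  rintro _ ⟨i, rfl⟩
  rcases eq_or_ne i j with rfl | h
  · rw [Function.update_self]
    exact Ideal.mul_mem_right _ _ (Ideal.subset_span ⟨i, Function.update_self ..⟩)
  · rw [Function.update_of_ne h]
    exact Ideal.subset_span ⟨i, Function.update_of_ne h ..⟩

theorem indep_left {y : Fin n → R} {j : Fin n} {a b : R} (h : Indep (Function.update y j (a * b))) :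
    Indep (Function.update y j a) := by
  classical
  intro c hc
  rw [sum_update] at hc
  have h1 := h (Function.update (fun i => b * c i) j (c j)) (by
    rw [sum_update, Function.update_self]
    rw [Finset.sum_congr rfl fun i hi => by rw [Function.update_of_ne (Finset.ne_of_mem_erase hi), mul_assoc],
      ← Finset.mul_sum]
    linear_combination b * hc) j
  rw [Function.update_self] at h1
  obtain ⟨e, he⟩ := Ideal.mem_span_range_iff_exists_fun.1 h1
  rw [sum_update] at he
  have h2 := h (Function.update (fun i => c i + e i * a) j (e j * a)) (by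
    rw [sum_update, Function.update_self]
    rw [Finset.sum_congr rfl fun i hi => by
      rw [Function.update_of_ne (Finset.ne_of_mem_erase hi), add_mul, mul_right_comm], Finset.sum_add_distrib,
      ← Finset.sum_mul]
    linear_combination hc + a * he)
  intro i
  rcases eq_or_ne i j with rfl | hi
  · exact span_update_mul_le y i a b h1
  · have h3 := span_update_mul_le y j a b (h2 i)
    rw [Function.update_of_ne hi] at h3
    have h4 : e i * a ∈ Ideal.span (Set.range (Function.update y j a)) :=
      Ideal.mul_mem_left _ _ (Ideal.subset_span ⟨j, Function.update_self ..⟩)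
    exact (Ideal.add_mem_iff_left _ h4).1 h3

variable [IsLocalRing R] [IsNoetherianRing R]

theorem len_mul {y : Fin n → R} {j : Fin n} {a b : R} (h : Indep (Function.update y j (a * b)))
    (hp : Prim (Ideal.span (Set.range (Function.update y j (a * b))))) :
    len (Ideal.span (Set.range (Function.update y j (a * b)))) =
      len (Ideal.span (Set.range (Function.update y j a))) + len (Ideal.span (Set.range (Function.update y j b))) := by
  classical
  set I := Ideal.span (Set.range (Function.update y j (a * b))) with hI
  have hIb : I ≤ Ideal.span (Set.range (Function.update y j b)) := by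
    rw [hI, mul_comm]; exact span_update_mul_le y j b a
  have hcol : col I a = Ideal.span (Set.range (Function.update y j b)) := by
    refine le_antisymm (fun c hc => ?_) (Ideal.span_le.2 ?_)
    · rw [mem_col] at hc
      obtain ⟨e, he⟩ := Ideal.mem_span_range_iff_exists_fun.1 hc
      rw [sum_update] at he
      have h1 := h (Function.update (fun i => -(b * e i)) j (c - e j * b)) (by
        rw [sum_update, Function.update_self]
        rw [Finset.sum_congr rfl fun i hi => by
          rw [Function.update_of_ne (Finset.ne_of_mem_erase hi), neg_mul, mul_assoc], Finset.sum_neg_distrib,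
          ← Finset.mul_sum]
        linear_combination -b * he) j
      rw [Function.update_self] at h1
      have h4 : e j * b ∈ Ideal.span (Set.range (Function.update y j b)) :=
        Ideal.mul_mem_left _ _ (Ideal.subset_span ⟨j, Function.update_self ..⟩)
      exact (Submodule.sub_mem_iff_left _ h4).1 (hIb h1)
    · rintro _ ⟨i, rfl⟩
      rw [SetLike.mem_coe, mem_col]
      rcases eq_or_ne i j with rfl | hi
      · rw [Function.update_self]
        exact Ideal.subset_span ⟨i, Function.update_self ..⟩
      · rw [Function.update_of_ne hi]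
        exact Ideal.mul_mem_left _ _ (Ideal.subset_span ⟨i, Function.update_of_ne hi ..⟩)
  have hsup : I ⊔ Ideal.span {a} = Ideal.span (Set.range (Function.update y j a)) := by
    refine le_antisymm (sup_le (span_update_mul_le y j a b) ?_) (Ideal.span_le.2 ?_)
    · rw [Ideal.span_singleton_le_iff_mem]
      exact Ideal.subset_span ⟨j, Function.update_self ..⟩
    · rintro _ ⟨i, rfl⟩
      rcases eq_or_ne i j with rfl | hi
      · rw [Function.update_self]
        exact Ideal.mem_sup_right (Ideal.mem_span_singleton_self a)
      · rw [Function.update_of_ne hi]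
        exact Ideal.mem_sup_left (Ideal.subset_span ⟨i, Function.update_of_ne hi ..⟩)
  rw [len_step hp a, hcol, hsup, add_comm]

theorem prim_powers (x : Fin n → R) (hx : Ideal.span (Set.range x) = maximalIdeal R) (m : Fin n → ℕ) :
    Prim (Ideal.span (Set.range fun i => x i ^ m i)) := by
  refine Ideal.exists_pow_le_of_le_radical_of_fg_radical ?_ (IsNoetherian.noetherian _)
  rw [← hx, Ideal.span_le]
  rintro _ ⟨i, rfl⟩
  exact ⟨m i, Ideal.subset_span ⟨i, rfl⟩⟩

omit [IsLocalRing R] [IsNoetherianRing R] in
theorem update_pow (x : Fin n → R) (m : Fin n → ℕ) (j : Fin n) (t : ℕ) :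
    (fun i => x i ^ Function.update m j t i) = Function.update (fun i => x i ^ m i) j (x j ^ t) := by
  funext i
  rcases eq_or_ne i j with rfl | h
  · rw [Function.update_self, Function.update_self]
  · rw [Function.update_of_ne h, Function.update_of_ne h]

theorem prod_update (m : Fin n → ℕ) (j : Fin n) (t : ℕ) :
    ∏ i, Function.update m j t i = t * ∏ i ∈ Finset.univ.erase j, m i := by
  classical
  rw [← Finset.mul_prod_erase _ _ (Finset.mem_univ j), Function.update_self]
  congr 1
  exact Finset.prod_congr rfl fun i hi => Function.update_of_ne (Finset.ne_of_mem_erase hi) ..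

theorem len_powers (x : Fin n → R) (hx : Ideal.span (Set.range x) = maximalIdeal R) :
    ∀ (k : ℕ) (m : Fin n → ℕ), ∑ i, m i = k → (∀ i, 1 ≤ m i) → Indep (fun i => x i ^ m i) →
      len (Ideal.span (Set.range fun i => x i ^ m i)) = ∏ i, m i := by
  classical
  intro k
  induction k using Nat.strong_induction_on with
  | _ k ih =>
    intro m hk hm hind
    by_cases hall : ∀ i, m i = 1
    · have e : (fun i => x i ^ m i) = x := funext fun i => by rw [hall i, pow_one]
      rw [e, hx, Finset.prod_congr rfl fun i _ => hall i, Finset.prod_const_one, len]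
      haveI : IsSimpleModule R (R ⧸ maximalIdeal R) :=
        isSimpleModule_iff_quot_maximal.2 ⟨maximalIdeal R, inferInstance, ⟨LinearEquiv.refl R _⟩⟩
      rw [Module.length_eq_one R, ENat.toNat_one]
    obtain ⟨j, hj⟩ := not_forall.1 hall
    have hj2 : 2 ≤ m j := by have := hm j; omega
    have e : (fun i => x i ^ m i) = Function.update (fun i => x i ^ m i) j (x j ^ (m j - 1) * x j ^ 1) := by
      rw [← pow_add, Nat.sub_add_cancel (hm j), Function.update_eq_self]
    have hind' : Indep (Function.update (fun i => x i ^ m i) j (x j ^ 1 * x j ^ (m j - 1))) := by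
      rw [mul_comm, ← e]; exact hind
    have hlt : ∀ t, t < m j → ∑ i, Function.update m j t i < k := fun t ht => by
      rw [← hk]
      refine Finset.sum_lt_sum (fun i _ => ?_) ⟨j, Finset.mem_univ j, by rwa [Function.update_self]⟩
      rcases eq_or_ne i j with rfl | h
      · rw [Function.update_self]; exact ht.le
      · rw [Function.update_of_ne h]
    have hge : ∀ t, 1 ≤ t → ∀ i, 1 ≤ Function.update m j t i := fun t ht i => by
      rcases eq_or_ne i j with rfl | h
      · rwa [Function.update_self]
      · rw [Function.update_of_ne h]; exact hm i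
    have h1 := ih _ (hlt (m j - 1) (by omega)) _ rfl (hge _ (by omega))
      (by rw [update_pow]; exact indep_left (e ▸ hind))
    have h2 := ih _ (hlt 1 (by omega)) _ rfl (hge _ le_rfl) (by rw [update_pow]; exact indep_left hind')
    rw [update_pow, prod_update] at h1 h2
    rw [e, len_mul (e ▸ hind) (e ▸ prim_powers x hx m), h1, h2, ← add_mul, Nat.sub_add_cancel (hm j),
      Finset.mul_prod_erase _ _ (Finset.mem_univ j)]

omit [IsLocalRing R] [IsNoetherianRing R] in
theorem pow_le_span_pow (x : Fin n → R) (q : ℕ) :
    Ideal.span (Set.range x) ^ (n * q + 1) ≤ Ideal.span (Set.range fun i => x i ^ q) := by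
  classical
  suffices h : ∀ s : Finset (Fin n),
      Ideal.span (x '' (s : Set (Fin n))) ^ (s.card * q + 1) ≤ Ideal.span ((fun i => x i ^ q) '' (s : Set (Fin n))) by
    have := h Finset.univ
    rwa [Finset.coe_univ, Set.image_univ, Set.image_univ, Finset.card_univ, Fintype.card_fin] at this
  intro s
  induction s using Finset.induction_on with
  | empty => simp
  | insert j s hjs ih =>
    rw [Finset.coe_insert, Set.image_insert_eq, Set.image_insert_eq, Ideal.span_insert, Ideal.span_insert,
      Finset.card_insert_of_notMem hjs, add_mul, one_mul, add_comm (s.card * q), add_assoc]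
    refine Ideal.sup_pow_add_le_pow_sup_pow.trans (sup_le ?_ ?_)
    · rw [Ideal.span_singleton_pow]
      exact le_sup_left
    · exact ih.trans le_sup_right

end Indep

section Kunz

variable {R : Type u} [CommRing R] [IsLocalRing R] [IsNoetherianRing R] (p : ℕ) [Fact p.Prime] [CharP R p]

omit [IsNoetherianRing R] in
/-- minimal generators of the maximal ideal only have relations with coefficients in it -/
theorem relation_mem {n : ℕ} (x : Fin n → R) (hx : Ideal.span (Set.range x) = maximalIdeal R)
    (hn : (maximalIdeal R).spanFinrank = n) (a : Fin n → R) (ha : ∑ i, x i * a i = 0) (i : Fin n) :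
    a i ∈ maximalIdeal R := by
  classical
  by_contra hu
  rw [IsLocalRing.mem_maximalIdeal, mem_nonunits_iff, not_not] at hu
  have hsp : Ideal.span (x '' ((Finset.univ.erase i : Finset (Fin n)) : Set (Fin n))) = maximalIdeal R := by
    refine le_antisymm ((Ideal.span_mono (Set.image_subset_range _ _)).trans hx.le) ?_
    rw [← hx, Ideal.span_le]
    rintro _ ⟨l, rfl⟩
    rcases eq_or_ne l i with rfl | h
    · rw [SetLike.mem_coe, ← Ideal.mul_unit_mem_iff_mem _ hu]
      rw [← Finset.add_sum_erase _ _ (Finset.mem_univ l), add_eq_zero_iff_eq_neg] at ha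
      rw [ha]
      exact neg_mem (Ideal.sum_mem _ fun l' hl' => Ideal.mul_mem_right _ _
        (Ideal.subset_span ⟨l', hl', rfl⟩))
    · exact Ideal.subset_span ⟨l, Finset.mem_erase.2 ⟨h, Finset.mem_univ _⟩, rfl⟩
  have h1 := Submodule.spanFinrank_span_le_ncard_of_finite (R := R)
    ((Finset.univ.erase i).finite_toSet.image x)
  rw [show Submodule.span R (x '' ((Finset.univ.erase i : Finset (Fin n)) : Set (Fin n))) = maximalIdeal R from hsp,
    hn] at h1
  have h2 : (x '' ((Finset.univ.erase i : Finset (Fin n)) : Set (Fin n))).ncard ≤ n - 1 := by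
    refine (Set.ncard_image_le (Finset.univ.erase i).finite_toSet).trans ?_
    rw [Set.ncard_coe_finset, Finset.card_erase_of_mem (Finset.mem_univ i), Finset.card_univ, Fintype.card_fin]
  have := i.pos
  omega

omit [IsLocalRing R] [IsNoetherianRing R] in
theorem flat_iterate (hflat : (frobenius R p).Flat) : ∀ e, (iterateFrobenius R p e).Flat
  | 0 => by rw [iterateFrobenius_zero]; exact RingHom.Flat.id R
  | e + 1 => by
    rw [iterateFrobenius_add, iterateFrobenius_one]
    exact RingHom.Flat.comp hflat (flat_iterate hflat e)

omit [IsNoetherianRing R] in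
theorem indep_pow (hflat : (frobenius R p).Flat) {n : ℕ} (x : Fin n → R)
    (hx : Ideal.span (Set.range x) = maximalIdeal R) (hn : (maximalIdeal R).spanFinrank = n) (e : ℕ) :
    Indep (fun i => x i ^ p ^ e) := by
  intro c hc i
  have h := flat_iterate p hflat e
  letI := (iterateFrobenius R p e).toAlgebra
  obtain ⟨k, a, z, hcz, ha⟩ := (@Module.Flat.iff_forall_isTrivialRelation R R _ _ (iterateFrobenius R p e).toAlgebra.toModule).1 h
    (f := x) (x := c) (by
      rw [← hc]
      refine Finset.sum_congr rfl fun l _ => ?_
      show iterateFrobenius R p e (x l) * c l = _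
      rw [iterateFrobenius_def, mul_comm])
  rw [hcz i]
  refine Ideal.sum_mem _ fun j _ => ?_
  show iterateFrobenius R p e (a i j) * z j ∈ _
  refine Ideal.mul_mem_right _ _ ?_
  have hm := relation_mem x hx hn (fun l => a l j) (ha j) i
  have hmap : (maximalIdeal R).map (iterateFrobenius R p e) ≤ Ideal.span (Set.range fun l => x l ^ p ^ e) := by
    rw [← hx, Ideal.map_span, Ideal.span_le]
    rintro _ ⟨_, ⟨l, rfl⟩, rfl⟩
    exact Ideal.subset_span ⟨l, (iterateFrobenius_def ..).symm⟩
  exact hmap (Ideal.mem_map_of_mem _ hm)

/-- **Kunz**: a local ring with flat Frobenius is regular. -/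
theorem isRegularLocalRing_of_flat (hflat : (frobenius R p).Flat) : IsRegularLocalRing R := by
  classical
  have hfg : (maximalIdeal R).FG := IsNoetherian.noetherian _
  have hfin := Submodule.FG.finite_generators hfg
  set n := (maximalIdeal R).spanFinrank with hn
  have hcard : hfin.toFinset.card = n := by
    rw [hn, ← Submodule.FG.generators_ncard hfg, Set.ncard_eq_toFinset_card _ hfin]
  let x : Fin n → R := fun i => (hfin.toFinset.equivFin.symm (Fin.cast hcard.symm i)).1
  have hx : Ideal.span (Set.range x) = maximalIdeal R := by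
    have hr : Set.range x = Submodule.generators (maximalIdeal R) := by
      ext y
      constructor
      · rintro ⟨i, rfl⟩
        exact hfin.mem_toFinset.1 (hfin.toFinset.equivFin.symm _).2
      · intro hy
        exact ⟨Fin.cast hcard (hfin.toFinset.equivFin ⟨y, hfin.mem_toFinset.2 hy⟩), by simp [x]⟩
    rw [hr]
    exact Submodule.span_generators _
  obtain ⟨d, hd⟩ : ∃ d : ℕ, ringKrullDim R = d :=
    ⟨(maximalIdeal R).height.toNat, by
      rw [← IsLocalRing.maximalIdeal_height_eq_ringKrullDim, ← ENat.natCast_toNat (Ideal.height_ne_top Ideal.IsPrime.ne_top')]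
      rfl⟩
  refine IsRegularLocalRing.of_spanFinrank_maximalIdeal_le R ?_
  rw [hd, ← hn, Nat.cast_le]
  by_contra hlt
  rw [not_le] at hlt
  -- a system of parameters
  haveI := isArtinian_max (O := R)
  obtain ⟨v, hv, hvfl⟩ := Groth.Ega41Dim.exists_finiteLength_quot_of_supportDim_le (maximalIdeal R)
    (fun q hq hle => (IsLocalRing.maximalIdeal.isMaximal R).eq_of_le hq.ne_top hle ▸
      IsLocalRing.maximalIdeal.isMaximal R) (by rw [IsLocalRing.jacobson_eq_maximalIdeal ⊥ bot_ne_top]) d R
    (by rw [Module.supportDim_self_eq_ringKrullDim, hd])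
  have hM : Good (List.ofFn v) R := Groth.KEuler.good_ofFn hvfl
  obtain ⟨P, hP⟩ := Groth.KEuler.exists_hsPoly v hM
  have hdeg := Groth.KEuler.natDegree_le_of_good v hv hM hP
  set Q := Ideal.span (Set.range v) with hQ
  have hQprim : Prim Q := by
    have h : IsFiniteLength R (R ⧸ Q) := by
      have e := (Submodule.quotEquivOfEq (Q • (⊤ : Submodule R R)) Q (Ideal.mul_top Q))
      exact e.isFiniteLength hvfl
    obtain ⟨N, hN⟩ := Groth.DualCore.exists_pow_killed h
    exact ⟨N, fun a ha => Ideal.Quotient.eq_zero_iff_mem.1 (by
      have := hN a ha (Ideal.Quotient.mk Q 1)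
      rwa [Algebra.smul_def, map_one, mul_one] at this)⟩
  -- lengths
  have key : ∀ᶠ e : ℕ in atTop, ((p ^ e : ℕ) : ℚ) ^ n ≤ P.eval ((n * p ^ e + 1 : ℕ) : ℚ) := by
    have ht : Tendsto (fun e : ℕ => n * p ^ e + 1) atTop atTop :=
      (tendsto_add_atTop_nat 1).comp <| (tendsto_id.const_mul_atTop' (by omega : 0 < n)).comp
        (tendsto_pow_atTop_atTop_of_one_lt (Fact.out : p.Prime).one_lt)
    filter_upwards [ht.eventually hP] with e he
    rw [← he, hs_eq_len, ← Nat.cast_pow, Nat.cast_le]
    have h := len_powers x hx _ (fun _ => p ^ e) rfl (fun _ => Nat.one_le_pow _ _ (Fact.out : p.Prime).pos)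
      (indep_pow p hflat x hx hn.symm e)
    rw [Finset.prod_const, Finset.card_univ, Fintype.card_fin] at h
    rw [← h]
    refine len_anti (hQprim.pow _) ((Ideal.pow_right_mono ?_ _).trans (pow_le_span_pow x _))
    rw [hx, Ideal.span_le]
    exact Set.range_subset_iff.2 hv
  set P' := P.comp (Polynomial.C (n : ℚ) * Polynomial.X + 1) with hP'
  have hP'deg : P'.degree < (Polynomial.X ^ n : Polynomial ℚ).degree := by
    rw [Polynomial.degree_X_pow]
    refine lt_of_le_of_lt Polynomial.degree_le_natDegree ?_
    rw [Nat.cast_lt, hP', Polynomial.natDegree_comp]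
    calc P.natDegree * (Polynomial.C (n : ℚ) * Polynomial.X + 1).natDegree ≤ P.natDegree * 1 :=
          Nat.mul_le_mul_left _ ((Polynomial.natDegree_add_le _ _).trans (max_le
            ((Polynomial.natDegree_C_mul_le _ _).trans Polynomial.natDegree_X_le) (by simp)))
      _ < n := by omega
  have h0 := (Polynomial.div_tendsto_atTop_zero_of_degree_lt P' (Polynomial.X ^ n) hP'deg).comp
    (tendsto_natCast_atTop_atTop.comp (tendsto_pow_atTop_atTop_of_one_lt (Fact.out : p.Prime).one_lt))
  have h1 : ∀ᶠ e : ℕ in atTop, (1 : ℚ) ≤ P'.eval ((p ^ e : ℕ) : ℚ) / (Polynomial.X ^ n).eval ((p ^ e : ℕ) : ℚ) := by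
    filter_upwards [key] with e he
    have hpe : (0 : ℚ) < ((p ^ e : ℕ) : ℚ) := by exact_mod_cast pow_pos (Fact.out : p.Prime).pos e
    rw [Polynomial.eval_pow, Polynomial.eval_X, le_div_iff₀ (pow_pos hpe n), one_mul, hP', Polynomial.eval_comp,
      Polynomial.eval_add, Polynomial.eval_one, Polynomial.eval_mul, Polynomial.eval_C, Polynomial.eval_X]
    push_cast at he ⊢
    exact he
  exact absurd (ge_of_tendsto h0 h1) (by norm_num)

end Kunz

/-- The Frobenius of a regular local ring is flat. -/
theorem flat_frobenius_of_isRegularLocalRing {R : Type u} [CommRing R] [IsRegularLocalRing R] (p : ℕ)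
    [Fact p.Prime] [CharP R p] : (frobenius R p).Flat := by
  haveI : LocCoh.IsCohenMacaulayLocalRing R :=
    ⟨Groth.Calg6.isCohenMacaulayModule_of_isRegularLocalRing R⟩
  letI := (frobenius R p).toAlgebra
  haveI : IsLocalHom (algebraMap R R) := ⟨fun a ha => by
    have h : IsUnit (a ^ p) := ha
    exact (isUnit_pow_iff (Fact.out : p.Prime).ne_zero).1 h⟩
  refine Groth.Calg1.flat_of_isRegularLocalRing_of_isCohenMacaulay R R ?_
  set J := (maximalIdeal R).map (algebraMap R R) with hJ
  have hJle : J ≤ maximalIdeal R := by
    rw [hJ, Ideal.map_le_iff_le_comap]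
    intro a ha
    show a ^ p ∈ maximalIdeal R
    exact Ideal.pow_mem_of_mem _ ha p (Fact.out : p.Prime).pos
  have h0 : ringKrullDim (R ⧸ J) = 0 := by
    haveI : Nontrivial (R ⧸ J) := Ideal.Quotient.nontrivial_iff.2 fun h =>
      (IsLocalRing.maximalIdeal.isMaximal R).ne_top (top_unique (h ▸ hJle))
    haveI : IsArtinianRing (R ⧸ J) := Groth.Ega41Dim.isArtinianRing_quotient_of_forall_isMaximal _ fun q hq hle => by
      have : maximalIdeal R ≤ q := fun a ha => hq.mem_of_pow_mem p (hle (Ideal.mem_map_of_mem _ ha))
      exact (IsLocalRing.maximalIdeal.isMaximal R).eq_of_le hq.ne_top this ▸ IsLocalRing.maximalIdeal.isMaximal R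
    exact ringKrullDimZero_iff_ringKrullDim_eq_zero.1 inferInstance
  rw [h0, add_zero]

end Groth.Kunz
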