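import Groth.Agent.FrobLCI.Kunz
import Groth.Agent.Matlis.Duality
import Mathlib.LinearAlgebra.DirectSum.Finsupp
import Mathlib.LinearAlgebra.TensorProduct.Pi
import Mathlib.RingTheory.TensorProduct.Quotient

/-!
Torsion of base changes along flat maps and socles of quotients by powers of independent elements.
-/

set_option autoImplicit false
set_option linter.style.haveILetI false
universe u

open IsLocalRing TensorProduct Groth.Lech

namespace Groth.Kunz

section Socle

variable {R : Type u} [CommRing R] [IsLocalRing R] [IsNoetherianRing R] {n : ℕ}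

theorem col_update {y : Fin n → R} {j : Fin n} {a b : R} (h : Indep (Function.update y j (a * b))) :
    col (Ideal.span (Set.range (Function.update y j (a * b)))) a =
      Ideal.span (Set.range (Function.update y j b)) := by
  classical
  refine le_antisymm (fun c hc => ?_) (Ideal.span_le.2 ?_)
  · rw [mem_col] at hc
    obtain ⟨e, he⟩ := Ideal.mem_span_range_iff_exists_fun.1 hc
    rw [sum_update] at he
    have h1 := h (Function.update (fun i => -(b * e i)) j (c - e j * b)) (by
      rw [sum_update, Function.update_self]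
      rw [Finset.sum_congr rfl fun i hi => by
        rw [Function.update_of_ne (Finset.ne_of_mem_erase hi), neg_mul, mul_assoc], Finset.sum_neg_distrib,
        ← Finset.mul_sum]
      linear_combination -b * he) j
    rw [Function.update_self, mul_comm a b] at h1
    have h4 : e j * b ∈ Ideal.span (Set.range (Function.update y j b)) :=
      Ideal.mul_mem_left _ _ (Ideal.subset_span ⟨j, Function.update_self ..⟩)
    exact (Submodule.sub_mem_iff_left _ h4).1 (span_update_mul_le y j b a h1)
  · rintro _ ⟨i, rfl⟩
    rw [SetLike.mem_coe, mem_col]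
    rcases eq_or_ne i j with rfl | hi
    · rw [Function.update_self]
      exact Ideal.subset_span ⟨i, Function.update_self ..⟩
    · rw [Function.update_of_ne hi]
      exact Ideal.mul_mem_left _ _ (Ideal.subset_span ⟨i, Function.update_of_ne hi ..⟩)

/-- exponents `q`, lowered to `1` on `S` -/
def expo (q : ℕ) (S : Finset (Fin n)) (i : Fin n) : ℕ := if i ∈ S then 1 else q

variable (x : Fin n → R) (q : ℕ)

/-- the corresponding ideal -/
noncomputable def pIdeal (S : Finset (Fin n)) : Ideal R := Ideal.span (Set.range fun i => x i ^ expo q S i)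

/-- partial socle monomial -/
noncomputable def uS (S : Finset (Fin n)) : R := ∏ i ∈ S, x i ^ (q - 1)

variable {x q}

omit [IsLocalRing R] [IsNoetherianRing R] in
theorem pow_fun_insert (S : Finset (Fin n)) {l : Fin n} (hl : l ∉ S) :
    (fun i => x i ^ expo q S i) = Function.update (fun i => x i ^ expo q S i) l (x l ^ q) ∧
    (fun i => x i ^ expo q (insert l S) i) = Function.update (fun i => x i ^ expo q S i) l (x l ^ 1) := by
  constructor <;> funext i <;> rcases eq_or_ne i l with rfl | h
  · rw [Function.update_self, expo, if_neg hl]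
  · rw [Function.update_of_ne h]
  · rw [Function.update_self, expo, if_pos (Finset.mem_insert_self _ _)]
  · rw [Function.update_of_ne h, expo, expo]
    congr 1
    simp only [Finset.mem_insert, h, false_or]

variable (hq : 1 ≤ q) (hind : Indep (fun i => x i ^ q))

omit [IsLocalRing R] [IsNoetherianRing R] in
include hq hind in
theorem indep_pIdeal : ∀ S : Finset (Fin n), Indep (fun i => x i ^ expo q S i) := by
  intro S
  induction S using Finset.induction_on with
  | empty => simpa [expo] using hind
  | insert l S hl ih =>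
    obtain ⟨e1, e2⟩ := pow_fun_insert (x := x) (q := q) S hl
    rw [e2]
    refine indep_left (b := x l ^ (q - 1)) ?_
    rwa [← pow_add, Nat.add_sub_cancel' hq, ← e1]

include hq hind in
theorem col_uS : ∀ S : Finset (Fin n), col (pIdeal x q ∅) (uS x q S) = pIdeal x q S := by
  intro S
  induction S using Finset.induction_on with
  | empty =>
    ext a
    rw [mem_col, uS, Finset.prod_empty, one_mul]
  | insert l S hl ih =>
    obtain ⟨e1, e2⟩ := pow_fun_insert (x := x) (q := q) S hl
    have h := indep_pIdeal hq hind S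
    rw [e1, ← Nat.sub_add_cancel hq, pow_add] at h
    have hc := col_update (a := x l ^ (q - 1)) (b := x l ^ 1) h
    rw [← pow_add, Nat.sub_add_cancel hq, ← e1, ← e2] at hc
    ext a
    rw [mem_col, uS, Finset.prod_insert hl, mul_comm (x l ^ (q - 1)), mul_assoc, ← mem_col]
    show x l ^ (q - 1) * a ∈ col (pIdeal x q ∅) (uS x q S) ↔ _
    rw [ih, ← mem_col, pIdeal, hc]
    rfl

include hq hind in
/-- the socle of `R/(x_i^q)` is generated by `∏ x_i^(q-1)` -/
theorem mem_socle {c : R} (hc : ∀ i, c * x i ∈ pIdeal x q ∅) :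
    c ∈ pIdeal x q ∅ ⊔ Ideal.span {uS x q Finset.univ} := by
  suffices h : ∀ S : Finset (Fin n), c ∈ pIdeal x q ∅ ⊔ Ideal.span {uS x q S} from h _
  intro S
  induction S using Finset.induction_on with
  | empty => exact Ideal.mem_sup_right (by simp [uS])
  | insert l S hl ih =>
    obtain ⟨i₀, hi₀, a', ha', rfl⟩ := Submodule.mem_sup.1 ih
    obtain ⟨a, rfl⟩ := Ideal.mem_span_singleton'.1 ha'
    have h1 : a * x l ∈ pIdeal x q S := by
      rw [← col_uS hq hind S, mem_col]
      have h := (pIdeal x q ∅).sub_mem (hc l) (Ideal.mul_mem_right (x l) _ hi₀)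
      convert h using 1
      ring
    obtain ⟨e1, e2⟩ := pow_fun_insert (x := x) (q := q) S hl
    have h := indep_pIdeal hq hind S
    rw [e1, ← Nat.sub_add_cancel hq, add_comm (q - 1), pow_add] at h
    have hcol := col_update (a := x l ^ 1) (b := x l ^ (q - 1)) h
    rw [← pow_add, add_comm 1, Nat.sub_add_cancel hq, ← e1] at hcol
    have h2 : a ∈ col (pIdeal x q S) (x l ^ 1) := by rw [mem_col, pow_one, mul_comm]; exact h1
    rw [pIdeal, hcol] at h2
    obtain ⟨e, he⟩ := Ideal.mem_span_range_iff_exists_fun.1 h2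
    rw [sum_update] at he
    refine Submodule.mem_sup.2 ⟨i₀ + (∑ i ∈ Finset.univ.erase l, e i * x i ^ expo q S i) * uS x q S, ?_,
      e l * uS x q (insert l S), Ideal.mem_span_singleton'.2 ⟨e l, rfl⟩, ?_⟩
    · refine Ideal.add_mem _ hi₀ ?_
      have h3 : (∑ i ∈ Finset.univ.erase l, e i * x i ^ expo q S i) ∈ pIdeal x q S :=
        Ideal.sum_mem _ fun i _ => Ideal.mul_mem_left _ _ (Ideal.subset_span ⟨i, rfl⟩)
      rw [← col_uS hq hind S, mem_col, mul_comm] at h3
      exact h3
    · rw [← he, uS, uS, Finset.prod_insert hl]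
      ring

end Socle

section Hull

variable {R : Type u} [CommRing R] [IsLocalRing R] [IsNoetherianRing R]
variable {E : Type u} [AddCommGroup E] [Module R E] {f : ResidueField R →ₗ[R] E}

/-- `R/(x_i^q)` is the torsion of the hull -/
theorem nonempty_quot_equiv_torsion (hf : InjHull.IsInjectiveHull f) {n : ℕ} (x : Fin n → R)
    (hx : Ideal.span (Set.range x) = maximalIdeal R) {q : ℕ} (hq : 1 ≤ q) (hind : Indep (fun i => x i ^ q)) :
    Nonempty ((R ⧸ pIdeal x q ∅) ≃ₗ[R] LocCoh.torsionBy (pIdeal x q ∅) E) := by
  classical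
  set I := pIdeal x q ∅ with hI
  have hprim : Prim I := prim_powers x hx _
  have hfl : IsFiniteLength R (R ⧸ I) := Module.length_ne_top_iff.1 hprim.length_ne_top
  have hu : uS x q Finset.univ ∉ I := by
    intro h
    have h1 : (1 : R) ∈ col I (uS x q Finset.univ) := by rwa [mem_col, mul_one]
    rw [col_uS hq hind] at h1
    have hle : pIdeal x q Finset.univ ≤ maximalIdeal R := by
      rw [← hx, pIdeal]
      refine Ideal.span_mono ?_
      rintro _ ⟨i, rfl⟩
      exact ⟨i, by simp [expo]⟩
    exact (IsLocalRing.maximalIdeal.isMaximal R).ne_top ((Ideal.eq_top_iff_one _).2 (hle h1))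
  set ū : R ⧸ I := Submodule.Quotient.mk (uS x q Finset.univ) with hū
  have hker : LinearMap.ker (LinearMap.toSpanSingleton R (R ⧸ I) ū) = maximalIdeal R := by
    refine ((IsLocalRing.maximalIdeal.isMaximal R).eq_of_le ?_ ?_).symm
    · intro h
      have h1 : (1 : R) ∈ LinearMap.ker (LinearMap.toSpanSingleton R (R ⧸ I) ū) := h ▸ Submodule.mem_top
      rw [LinearMap.mem_ker, LinearMap.toSpanSingleton_apply, one_smul, hū, Submodule.Quotient.mk_eq_zero] at h1
      exact hu h1
    · rw [← hx, Ideal.span_le]
      rintro _ ⟨i, rfl⟩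
      rw [SetLike.mem_coe, LinearMap.mem_ker, LinearMap.toSpanSingleton_apply, hū, ← Submodule.Quotient.mk_smul,
        Submodule.Quotient.mk_eq_zero, smul_eq_mul, mul_comm, ← mem_col, col_uS hq hind, pIdeal]
      exact Ideal.subset_span ⟨i, by simp [expo]⟩
  let i : (R ⧸ maximalIdeal R) →ₗ[R] R ⧸ I :=
    (maximalIdeal R).liftQ (LinearMap.toSpanSingleton R (R ⧸ I) ū) hker.ge
  have hi : Function.Injective i := by
    rw [← LinearMap.ker_eq_bot]
    exact Submodule.ker_liftQ_eq_bot _ _ _ hker.le
  let e : (R ⧸ maximalIdeal R) →ₗ[R] ResidueField R := LinearEquiv.refl R (R ⧸ maximalIdeal R) |>.toLinearMap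
  obtain ⟨θ, hθ⟩ := hf.isInjective.out i hi (f ∘ₗ e)
  have hθu : θ ū ≠ 0 := by
    have h1 := hθ (Submodule.Quotient.mk (1 : R))
    rw [show i (Submodule.Quotient.mk (1 : R)) = ū from one_smul R ū] at h1
    rw [h1, LinearMap.comp_apply]
    intro h
    exact one_ne_zero (hf.injective (show f (1 : ResidueField R) = f 0 by
      rw [map_zero]; exact h))
  have hinj : Function.Injective θ := by
    rw [← LinearMap.ker_eq_bot, Submodule.eq_bot_iff]
    intro y hy
    by_contra hy0
    obtain ⟨N, hN⟩ := hprim
    obtain ⟨r, hr0, hr⟩ := GrothMatlis.exists_smul_torsion (I := maximalIdeal R) N hy0 (fun a ha => by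
      obtain ⟨z, rfl⟩ := Submodule.Quotient.mk_surjective _ y
      rw [← Submodule.Quotient.mk_smul, Submodule.Quotient.mk_eq_zero]
      exact Ideal.mul_mem_right _ _ (hN ha))
    obtain ⟨z, hz⟩ := Submodule.Quotient.mk_surjective _ (r • y)
    have hmem : z ∈ I ⊔ Ideal.span {uS x q Finset.univ} := mem_socle hq hind fun l => by
      have := hr (x l) (hx ▸ Ideal.subset_span ⟨l, rfl⟩)
      rwa [← hz, ← Submodule.Quotient.mk_smul, Submodule.Quotient.mk_eq_zero, smul_eq_mul, mul_comm] at this
    obtain ⟨i₀, hi₀, a', ha', rfl⟩ := Submodule.mem_sup.1 hmem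
    obtain ⟨a, rfl⟩ := Ideal.mem_span_singleton'.1 ha'
    have hz' : r • y = a • ū := by
      rw [← hz, hū, ← Submodule.Quotient.mk_smul, Submodule.Quotient.eq, smul_eq_mul]
      simpa using hi₀
    have h0 : a • θ ū = 0 := by
      rw [← map_smul, ← hz', map_smul, LinearMap.mem_ker.1 hy, smul_zero]
    by_cases ha : a ∈ maximalIdeal R
    · apply hr0
      rw [hz']
      rw [← hker, LinearMap.mem_ker, LinearMap.toSpanSingleton_apply] at ha
      exact ha
    · obtain ⟨v, hv⟩ := notMem_maximalIdeal.1 ha
      exact hθu ((smul_eq_zero_iff_eq (v : Rˣ)).1 (by rw [Units.smul_def, hv]; exact h0))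
  let θ' : (R ⧸ I) →ₗ[R] LocCoh.torsionBy I E := θ.codRestrict _ fun y => by
    rw [Submodule.mem_torsionBySet_iff]
    intro a
    rw [← map_smul]
    obtain ⟨z, rfl⟩ := Submodule.Quotient.mk_surjective _ y
    rw [← Submodule.Quotient.mk_smul, smul_eq_mul, (Submodule.Quotient.mk_eq_zero I).2 (Ideal.mul_mem_right _ _ a.2), map_zero]
  have hθ' : Function.Injective θ' := fun a b h => hinj (congrArg Subtype.val h)
  refine ⟨LinearEquiv.ofBijective θ' ⟨hθ', GrothMatlis.surjective_of_length_le hθ' ?_ ?_⟩⟩
  · rw [GrothMatlis.length_torsion hf hfl]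
  · rw [GrothMatlis.length_torsion hf hfl]
    exact hprim.length_ne_top

end Hull

section Flat

variable {R S : Type u} [CommRing R] [CommRing S] [Algebra R S] [Module.Flat R S]

/-- torsion commutes with flat base change -/
theorem nonempty_torsion_baseChange {n : ℕ} (x : Fin n → R) (M : Type u) [AddCommGroup M] [Module R M] {ι : Type u}
    (e : LocCoh.torsionBy (Ideal.span (Set.range x)) M ≃ₗ[R] ι →₀ R ⧸ Ideal.span (Set.range x)) :
    Nonempty (LocCoh.torsionBy (Ideal.span (Set.range fun i => algebraMap R S (x i))) (S ⊗[R] M) ≃ₗ[S]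
      ι →₀ S ⧸ Ideal.span (Set.range fun i => algebraMap R S (x i))) := by
  classical
  set I := Ideal.span (Set.range x) with hI
  let g : M →ₗ[R] (Fin n → M) := LinearMap.pi fun i => x i • LinearMap.id
  let T := LocCoh.torsionBy I M
  have hex : Function.Exact T.subtype g := by
    intro m
    constructor
    · intro hm
      refine ⟨⟨m, (Submodule.mem_torsionBySet_iff _ _).2 fun ⟨a, ha⟩ => ?_⟩, rfl⟩
      show a • m = 0
      induction ha using Submodule.span_induction with
      | mem a ha => obtain ⟨i, rfl⟩ := ha; exact congrFun hm i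
      | zero => exact zero_smul R m
      | add a b _ _ h1 h2 => rw [add_smul, h1, h2, add_zero]
      | smul c a _ h1 => rw [smul_eq_mul, mul_smul, h1, smul_zero]
    · rintro ⟨⟨m, hm⟩, rfl⟩
      funext i
      exact (Submodule.mem_torsionBySet_iff _ _).1 hm ⟨x i, Ideal.subset_span ⟨i, rfl⟩⟩
  have hex' := Module.Flat.lTensor_exact (R := R) S hex
  let j : S ⊗[R] T →ₗ[S] S ⊗[R] M := T.subtype.baseChange S
  have hj : Function.Injective j := Module.Flat.lTensor_preserves_injective_linearMap _ T.injective_subtype
  have hrange : LinearMap.range j = LocCoh.torsionBy (Ideal.span (Set.range fun i => algebraMap R S (x i))) (S ⊗[R] M) := by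
    ext z
    have hz : z ∈ LinearMap.range j ↔ TensorProduct.piRight R S S (fun _ : Fin n => M) (g.baseChange S z) = 0 := by
      rw [LinearEquiv.map_eq_zero_iff]
      exact (hex' z).symm
    have hpi : ∀ w, TensorProduct.piRight R S S (fun _ : Fin n => M) (g.baseChange S w) =
        fun i => algebraMap R S (x i) • w := by
      intro w
      induction w using TensorProduct.induction_on with
      | zero => funext i; simp
      | tmul s m =>
        funext i
        simp [g, algebraMap_smul, TensorProduct.smul_tmul']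
      | add a b ha hb => rw [map_add, map_add, ha, hb]; funext i; simp [smul_add]
    rw [hz, hpi, Submodule.mem_torsionBySet_iff]
    constructor
    · rintro h ⟨a, ha⟩
      show a • z = 0
      induction ha using Submodule.span_induction with
      | mem a ha => obtain ⟨i, rfl⟩ := ha; exact congrFun h i
      | zero => exact zero_smul S z
      | add a b _ _ h1 h2 => rw [add_smul, h1, h2, add_zero]
      | smul c a _ h1 => rw [smul_eq_mul, mul_smul, h1, smul_zero]
    · intro h
      funext i
      exact h ⟨_, Ideal.subset_span ⟨i, rfl⟩⟩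
  have hmap : I.map (algebraMap R S) = Ideal.span (Set.range fun i => algebraMap R S (x i)) := by
    rw [hI, Ideal.map_span, ← Set.range_comp]
    rfl
  let q : S ⊗[R] (R ⧸ I) ≃ₗ[S] S ⧸ Ideal.span (Set.range fun i => algebraMap R S (x i)) :=
    (Algebra.TensorProduct.quotIdealMapEquivTensorQuot S I).toLinearEquiv.symm ≪≫ₗ
      Submodule.quotEquivOfEq _ _ hmap
  exact ⟨(LinearEquiv.ofEq _ _ hrange.symm) ≪≫ₗ (LinearEquiv.ofInjective j hj).symm ≪≫ₗ
    (e.baseChange R S _ _) ≪≫ₗ (TensorProduct.finsuppRight R S S (R ⧸ I) ι) ≪≫ₗ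
    Finsupp.mapRange.linearEquiv q⟩

end Flat

end Groth.Kunz
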