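import Mathlib.FieldTheory.Relrank
import Mathlib.FieldTheory.IntermediateField.Adjoin.Basic
import Mathlib.RingTheory.AlgebraicIndependent.Basic
import Mathlib.RingTheory.AlgebraicIndependent.TranscendenceBasis
import Mathlib.Algebra.CharP.Lemmas
import Mathlib.Algebra.CharP.Algebra
import Mathlib.LinearAlgebra.Dimension.Constructions
import Mathlib.RingTheory.MvPolynomial.Expand

/-!
The degree of a finitely generated field extension over its subfield of `p`-th powers, given a basis
of the base field over its `p`-th powers.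
-/

set_option autoImplicit false
set_option linter.style.haveILetI false
universe u v w

open MvPolynomial IntermediateField

namespace Groth.PDegree

variable {k : Type u} {K : Type v} [Field k] [Field K] [Algebra k K] {p : ℕ} [Fact p.Prime] [CharP K p]
  {ι : Type w} [Fintype ι] {b : ι → k} {r : ℕ} {s : Fin r → K}

/-- the candidate basis -/
def gen (b : ι → k) (s : Fin r → K) (j : ι × (Fin r → Fin p)) : K :=
  algebraMap k K (b j.1) * ∏ i, s i ^ (j.2 i : ℕ)

omit [CharP K p] in
theorem coeff_pow_mul_monomial [CharP k p] (P : MvPolynomial (Fin r) k) (a c : Fin r → Fin p) (x : k)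
    (m : Fin r →₀ ℕ) :
    coeff (p • m + Finsupp.equivFunOnFinite.symm fun i => (a i : ℕ))
        (P ^ p * monomial (Finsupp.equivFunOnFinite.symm fun i => (c i : ℕ)) x) =
      if c = a then coeff m P ^ p * x else 0 := by
  classical
  have hp0 : p ≠ 0 := (Fact.out : p.Prime).ne_zero
  split_ifs with h
  · subst h
    rw [coeff_mul_monomial, ← map_frobenius_expand (p := p), coeff_map, coeff_expand_smul p hp0, frobenius_def]
  · rw [coeff_mul_monomial']
    split_ifs with hle'
    · rw [P.as_sum, sum_pow_char, coeff_sum, Finset.sum_eq_zero, zero_mul]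
      intro m' _
      rw [monomial_pow, coeff_monomial, if_neg]
      intro hm'
      refine h (funext fun i => Fin.ext ?_)
      have := DFunLike.congr_fun hm' i
      simp only [Finsupp.coe_smul, Pi.smul_apply, smul_eq_mul, Finsupp.tsub_apply, Finsupp.add_apply] at this
      have h3 := hle' i
      simp only [Finsupp.add_apply, Finsupp.coe_smul, Pi.smul_apply, smul_eq_mul] at h3
      change p * m' i = p * m i + (a i : ℕ) - (c i : ℕ) at this
      change (c i : ℕ) ≤ p * m i + (a i : ℕ) at h3
      have h4 : p * m i + (a i : ℕ) = p * m' i + (c i : ℕ) := by omega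
      have h5 := congrArg (fun z => z % p) h4
      simp only [Nat.mul_add_mod, Nat.mod_eq_of_lt (a i).isLt, Nat.mod_eq_of_lt (c i).isLt] at h5
      exact h5.symm
    · rfl

/-- `[L : L^p] = n * p ^ r` for `L = k(s)` purely transcendental, `[k : k^p] = n`. -/
theorem relfinrank_map_adjoin (hb : ∀ c : k, ∃! d : ι → k, ∑ i, d i ^ p * b i = c)
    (hs : AlgebraicIndependent k s) :
    Subfield.relfinrank ((adjoin k (Set.range s)).toSubfield.map (frobenius K p))
      (adjoin k (Set.range s)).toSubfield = Fintype.card ι * p ^ r := by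
  classical
  have hp0 : 0 < p := (Fact.out : p.Prime).pos
  haveI : CharP k p := (Algebra.charP_iff k K p).2 inferInstance
  set L := adjoin k (Set.range s) with hL
  set F := frobenius K p with hF
  set Lq := L.toSubfield.map F with hLq
  have hle : Lq ≤ L.toSubfield := by
    rintro _ ⟨x, hx, rfl⟩
    show F x ∈ L
    rw [hF, frobenius_def]
    exact pow_mem hx _
  have haev : ∀ P : MvPolynomial (Fin r) k, aeval s P ∈ L := fun P =>
    (mem_adjoin_range_iff k s _).2 ⟨P, 1, by simp⟩
  have hC : ∀ c : k, algebraMap k K (c ^ p) ∈ Lq := fun c =>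
    ⟨algebraMap k K c, L.algebraMap_mem c, by rw [hF, frobenius_def, map_pow]⟩
  have hmon : ∀ j, gen (p := p) b s j ∈ L := fun j =>
    mul_mem (L.algebraMap_mem _) (prod_mem fun i _ => pow_mem (subset_adjoin k _ (Set.mem_range_self i)) _)
  -- independence
  have hind : LinearIndependent Lq (fun j => gen (p := p) b s j) := by
    rw [Fintype.linearIndependent_iff]
    intro g hg j₀
    have hex : ∀ j, ∃ P Q : MvPolynomial (Fin r) k, aeval s Q ≠ 0 ∧
        (g j : K) = F (aeval s P / aeval s Q) := fun j => by
      obtain ⟨x, hx, hxg⟩ := (g j).2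
      obtain ⟨P, Q, rfl⟩ := (mem_adjoin_range_iff k s x).1 hx
      rcases eq_or_ne (aeval s Q) 0 with hQ | hQ
      · exact ⟨0, 1, by simp, by rw [← hxg, hQ]; simp⟩
      · exact ⟨P, Q, hQ, hxg.symm⟩
    choose P Q hQ hgPQ using hex
    set P' := fun j => P j * ∏ c ∈ Finset.univ.erase j, Q c with hP'
    have hrel : ∑ j, F (aeval s (P' j)) * gen (p := p) b s j = 0 := by
      have : F (aeval s (∏ c, Q c)) * ∑ j, g j • gen (p := p) b s j = 0 := by rw [hg, mul_zero]
      rw [Finset.mul_sum] at this
      rw [← this]
      refine Finset.sum_congr rfl fun j _ => ?_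
      rw [Subfield.smul_def, smul_eq_mul, ← mul_assoc, hgPQ, ← map_mul, ← Finset.mul_prod_erase _ _ (Finset.mem_univ j)]
      congr 2
      simp only [hP', map_mul]
      field_simp [hQ j]
    have hpoly : ∑ j : ι × (Fin r → Fin p),
        P' j ^ p * monomial (Finsupp.equivFunOnFinite.symm fun i => (j.2 i : ℕ)) (b j.1) = 0 := by
      refine hs.eq_zero_of_aeval_eq_zero _ ?_
      rw [map_sum, ← hrel]
      refine Finset.sum_congr rfl fun j _ => ?_
      rw [map_mul, map_pow, aeval_monomial, Finsupp.prod_fintype _ _ (fun i => pow_zero _), hF, frobenius_def]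
      rfl
    have hPzero : P' j₀ = 0 := by
      ext m
      rw [coeff_zero]
      have h := congrArg (coeff (p • m + Finsupp.equivFunOnFinite.symm fun i => (j₀.2 i : ℕ))) hpoly
      rw [coeff_sum, coeff_zero] at h
      simp only [coeff_pow_mul_monomial] at h
      rw [Fintype.sum_prod_type] at h
      simp only [Finset.sum_ite_eq', Finset.mem_univ, if_true] at h
      obtain ⟨d, -, huniq⟩ := hb 0
      have e1 := huniq (fun i => coeff m (P' (i, j₀.2))) h
      have e2 := huniq (fun _ => 0) (by simp [zero_pow hp0.ne'])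
      exact congrFun (e1.trans e2.symm) j₀.1
    apply Subtype.ext
    rw [hgPQ]
    have : aeval s (P j₀) = 0 := by
      have h0 : aeval s (P' j₀) = 0 := by rw [hPzero, map_zero]
      simp only [hP', map_mul, map_prod] at h0
      exact (mul_eq_zero.1 h0).resolve_right (Finset.prod_ne_zero_iff.2 fun c _ => hQ c)
    rw [this, zero_div, map_zero, ZeroMemClass.coe_zero]
  -- spanning
  set M := Submodule.span Lq (Set.range fun j => gen (p := p) b s j) with hM
  have hconst : ∀ c : k, algebraMap k K c ∈ M := fun c => by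
    obtain ⟨d, hd, -⟩ := hb c
    rw [← hd, map_sum]
    refine M.sum_mem fun i _ => ?_
    rw [map_mul]
    have h := M.smul_mem (⟨_, hC (d i)⟩ : Lq)
      (Submodule.subset_span ⟨(i, fun _ => ⟨0, hp0⟩), rfl⟩)
    rw [Subfield.smul_def, smul_eq_mul] at h
    simpa [gen] using h
  have hmulX : ∀ i, ∀ x ∈ M, x * s i ∈ M := by
    intro i x hx
    induction hx using Submodule.span_induction with
    | mem x h =>
      obtain ⟨⟨i₀, a⟩, rfl⟩ := h
      show gen (p := p) b s (i₀, a) * s i ∈ M
      have hsplit : ∀ c : Fin r → Fin p, gen (p := p) b s (i₀, c) =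
          algebraMap k K (b i₀) * (s i ^ (c i : ℕ) * ∏ j ∈ Finset.univ.erase i, s j ^ (c j : ℕ)) :=
        fun c => congrArg (algebraMap k K (b i₀) * ·) (Finset.mul_prod_erase _ (fun j => s j ^ (c j : ℕ)) (Finset.mem_univ i)).symm
      have hrest : ∀ c : Fin p, ∏ j ∈ Finset.univ.erase i, s j ^ ((Function.update a i c) j : ℕ) =
          ∏ j ∈ Finset.univ.erase i, s j ^ (a j : ℕ) := fun c =>
        Finset.prod_congr rfl fun j hj => by rw [Function.update_of_ne (Finset.ne_of_mem_erase hj)]
      by_cases hlt : (a i : ℕ) + 1 < p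
      · refine Submodule.subset_span ⟨(i₀, Function.update a i ⟨(a i : ℕ) + 1, hlt⟩), ?_⟩
        show gen (p := p) b s (i₀, Function.update a i _) = _
        rw [hsplit, hsplit a, hrest, Function.update_self, pow_succ]
        ring
      · have he : (a i : ℕ) + 1 = p := by have := (a i).isLt; omega
        have hsq : s i ^ p ∈ Lq := ⟨s i, subset_adjoin k _ (Set.mem_range_self i), by
          rw [hF, frobenius_def]⟩
        have hb := M.smul_mem (⟨s i ^ p, hsq⟩ : Lq)
          (Submodule.subset_span ⟨(i₀, Function.update a i ⟨0, hp0⟩), rfl⟩)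
        rw [Subfield.smul_def] at hb
        convert hb using 1
        dsimp only [smul_eq_mul]
        rw [hsplit a, hsplit (Function.update a i _), hrest, Function.update_self,
          show s i ^ p = s i ^ (a i : ℕ) * s i by rw [← pow_succ, he]]
        simp only [pow_zero]
        ring
    | zero => rw [zero_mul]; exact M.zero_mem
    | add x y _ _ hx hy => rw [add_mul]; exact M.add_mem hx hy
    | smul c x _ hx => rw [smul_mul_assoc]; exact M.smul_mem c hx
  have hpolyM : ∀ P : MvPolynomial (Fin r) k, aeval s P ∈ M := fun P => by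
    induction P using MvPolynomial.induction_on with
    | C c => rw [aeval_C]; exact hconst c
    | add P Q hP hQ => rw [map_add]; exact M.add_mem hP hQ
    | mul_X P i hP => rw [map_mul, aeval_X]; exact hmulX i _ hP
  have hspan : M = Subalgebra.toSubmodule (Subfield.extendScalars hle).toSubalgebra := by
    refine le_antisymm (Submodule.span_le.2 ?_) fun x hx => ?_
    · rintro _ ⟨j, rfl⟩
      exact hmon j
    · obtain ⟨P, Q, rfl⟩ := (mem_adjoin_range_iff k s x).1 hx
      rcases eq_or_ne (aeval s Q) 0 with hQ | hQ
      · rw [hQ, div_zero]; exact M.zero_mem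
      · have hinv : ((aeval s Q) ^ p)⁻¹ ∈ Lq := inv_mem ⟨_, haev Q, by rw [hF, frobenius_def]⟩
        have h := M.smul_mem (⟨_, hinv⟩ : Lq) (hpolyM (P * Q ^ (p - 1)))
        rw [Subfield.smul_def, smul_eq_mul, map_mul, map_pow] at h
        convert h using 1
        show aeval s P / aeval s Q = ((aeval s Q) ^ p)⁻¹ * (aeval s P * aeval s Q ^ (p - 1))
        rw [eq_inv_mul_iff_mul_eq₀ (pow_ne_zero _ hQ), show p = (p - 1) + 1 by omega, pow_succ]
        field_simp
        rw [show p - 1 + 1 - 1 = p - 1 by omega]
        ring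
  rw [Subfield.relfinrank_eq_finrank_of_le hle]
  have h := finrank_span_eq_card hind
  rw [show Submodule.span Lq (Set.range fun j => gen (p := p) b s j) = M from rfl, hspan, Fintype.card_prod,
    Fintype.card_fun, Fintype.card_fin, Fintype.card_fin] at h
  exact h

/-- `[K : K^p] = n * p ^ r`. -/
theorem finrank_fieldRange (hb : ∀ c : k, ∃! d : ι → k, ∑ i, d i ^ p * b i = c)
    (hs : IsTranscendenceBasis k s) (hfg : (⊤ : IntermediateField k K).FG) :
    Module.finrank (frobenius K p).fieldRange K = Fintype.card ι * p ^ r := by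
  set L := adjoin k (Set.range s) with hL
  haveI : Algebra.IsAlgebraic L K := hs.isAlgebraic_field
  haveI : Module.Finite L K := by
    obtain ⟨t, ht⟩ := hfg
    haveI : FiniteDimensional L (adjoin L (t : Set K)) :=
      finiteDimensional_adjoin fun x _ => (Algebra.IsAlgebraic.isAlgebraic x).isIntegral
    have htop : adjoin L (t : Set K) = ⊤ := by
      refine eq_top_iff.2 fun x _ => ?_
      have hx : x ∈ adjoin k (t : Set K) := by rw [ht]; trivial
      exact (adjoin_le_iff.2 (fun y hy => (subset_adjoin L _ hy : y ∈ (adjoin L (t : Set K)).restrictScalars k))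
        : adjoin k (t : Set K) ≤ (adjoin L (t : Set K)).restrictScalars k) hx
    rw [htop] at this
    exact Module.Finite.equiv IntermediateField.topEquiv.toLinearEquiv
  set F := frobenius K p with hF
  have h1 := Subfield.relfinrank_mul_relfinrank (A := L.toSubfield.map F) (B := L.toSubfield) (C := ⊤)
    (by rintro _ ⟨x, hx, rfl⟩; show F x ∈ L; rw [hF, frobenius_def]; exact pow_mem hx _) le_top
  have h2 := Subfield.relfinrank_mul_relfinrank (A := L.toSubfield.map F) (B := F.fieldRange) (C := ⊤)
    (by rintro _ ⟨x, _, rfl⟩; exact ⟨x, rfl⟩) le_top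
  rw [relfinrank_map_adjoin hb hs.1] at h1
  rw [RingHom.fieldRange_eq_map, Subfield.relfinrank_map_map, ← h1, ← RingHom.fieldRange_eq_map, mul_comm] at h2
  rw [← Subfield.relfinrank_top_right]
  refine Nat.eq_of_mul_eq_mul_right ?_ h2
  rw [Subfield.relfinrank_top_right]
  exact Module.finrank_pos (R := L) (M := K)

end Groth.PDegree
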