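import Groth.Agent.FrobLCI.RelFrobEtale

/-!
Etale algebras over perfect rings, and perfect closures of etale algebras.
-/

universe u

open TensorProduct

namespace Groth.FrobLCI.PerfectEtale

/-- An etale algebra over a perfect ring is perfect. -/
theorem perfectRing_of_etale (p : ℕ) [Fact p.Prime] (A C : Type u) [CommRing A] [CommRing C] [CharP A p]
    [CharP C p] [PerfectRing A p] [Algebra A C] [Algebra.Etale A C] : PerfectRing C p := by
  have hb := Groth.FrobLCI.RelFrobEtale.relFrob_bijective_of_etale p A C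
  have he : Function.Bijective (algebraMap A (FrobAlg.Twist p A)) :=
    (FrobAlg.toTwist p A).bijective.comp (PerfectRing.bijective_frobenius (R := A) (p := p))
  let e : A ≃ₐ[A] FrobAlg.Twist p A := AlgEquiv.ofBijective (Algebra.ofId A _) he
  let g : C ≃ₐ[A] FrobAlg.BaseChange p A C :=
    (Algebra.TensorProduct.rid A A C).symm.trans (Algebra.TensorProduct.congr AlgEquiv.refl e)
  have hg : ∀ c, FrobAlg.relFrob p A C (g c) = c ^ p := fun c => by
    have : g c = c ⊗ₜ (1 : FrobAlg.Twist p A) := by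
      simp [g, e]
    rw [this, Groth.FrobLCI.RelFrob.relFrob_tmul, map_one, map_one, mul_one]
  refine ⟨?_⟩
  rw [show (fun x : C => x ^ p) = FrobAlg.relFrob p A C ∘ g from funext fun c => (hg c).symm]
  exact hb.comp g.bijective

/-- Powers in a base change. -/
theorem exists_pow_mem_range (p : ℕ) [Fact p.Prime] (A A' B : Type u) [CommRing A] [CommRing A'] [CommRing B]
    [Algebra A A'] [Algebra A B] [CharP (A' ⊗[A] B) p] [IsPRadical (algebraMap A A') p] (z : A' ⊗[A] B) :
    ∃ (n : ℕ) (b : B), (1 : A') ⊗ₜ[A] b = z ^ p ^ n := by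
  have hp := (Fact.out : p.Prime)
  induction z using TensorProduct.induction_on with
  | zero => exact ⟨0, 0, by simp⟩
  | tmul a b =>
    obtain ⟨n, x, hx⟩ := IsPRadical.pow_mem (algebraMap A A') p a
    refine ⟨n, x • b ^ p ^ n, ?_⟩
    rw [Algebra.TensorProduct.tmul_pow, ← hx, TensorProduct.tmul_smul, TensorProduct.smul_tmul',
      Algebra.algebraMap_eq_smul_one]
  | add y z hy hz =>
    obtain ⟨n, b, hb⟩ := hy
    obtain ⟨m, c, hc⟩ := hz
    refine ⟨n + m, b ^ p ^ m + c ^ p ^ n, ?_⟩
    rw [tmul_add, add_pow_char_pow, pow_add, pow_mul y, ← hb, mul_comm (p ^ n) (p ^ m), pow_mul z, ← hc,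
      Algebra.TensorProduct.tmul_pow, Algebra.TensorProduct.tmul_pow, one_pow, one_pow]

end Groth.FrobLCI.PerfectEtale
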