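import Mathlib

/-!
Maps of perfect closures.
-/

universe u

namespace Groth.FrobLCI.PerfectMap

variable (p : ℕ) [Fact p.Prime]

/-- Finitely many elements have `p^n`-th powers in the image for all large `n`. -/
theorem exists_forall_pow_mem {K L : Type u} [CommRing K] [CommRing L] (i : K →+* L) [IsPRadical i p]
    {ι : Type*} [Fintype ι] (x : ι → L) :
    ∃ N : ℕ, ∀ n, N ≤ n → ∃ y : ι → K, ∀ k, i (y k) = x k ^ p ^ n := by
  choose m z hz using fun k => IsPRadical.pow_mem i p (x k)
  refine ⟨Finset.univ.sup m, fun n hn => ⟨fun k => z k ^ p ^ (n - m k), fun k => ?_⟩⟩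
  have hk : m k ≤ n := (Finset.le_sup (Finset.mem_univ k)).trans hn
  rw [map_pow, hz, ← pow_mul, ← pow_add, Nat.add_sub_cancel' hk]

/-- The map of perfect closures of a flat map is flat. -/
theorem flat {A B A' B' : Type u} [CommRing A] [CommRing B] [CommRing A'] [CommRing B']
    [CharP A p] [CharP B p] [CharP A' p] [CharP B' p] [PerfectRing A' p] [PerfectRing B' p]
    (φ : A →+* B) (hflat : φ.Flat) (i : A →+* A') (j : B →+* B') [IsPerfectClosure i p] [IsPerfectClosure j p]
    (φ' : A' →+* B') (hφ : φ'.comp i = j.comp φ) : φ'.Flat := by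
  letI := φ.toAlgebra
  letI := φ'.toAlgebra
  have : Module.Flat A B := hflat
  show Module.Flat A' B'
  rw [Module.Flat.iff_forall_isTrivialRelation]
  intro l f x hfx
  obtain ⟨N, hN⟩ := exists_forall_pow_mem p i f
  obtain ⟨M, hM⟩ := exists_forall_pow_mem p j x
  obtain ⟨α, hα⟩ := hN (N + M) (Nat.le_add_right _ _)
  obtain ⟨β, hβ⟩ := hM (N + M) (Nat.le_add_left _ _)
  have h0 : j (∑ k, φ (α k) * β k) = 0 := by
    have h1 := congrArg (iterateFrobenius B' p (N + M)) hfx
    rw [map_sum, map_zero] at h1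
    rw [map_sum, ← h1]
    refine Finset.sum_congr rfl fun k _ => ?_
    rw [map_mul, ← RingHom.comp_apply j, ← hφ, RingHom.comp_apply, hα, hβ, Algebra.smul_def,
      RingHom.algebraMap_toAlgebra, iterateFrobenius_def, mul_pow, map_pow]
  obtain ⟨m, hm⟩ := mem_pNilradical.mp (IsPRadical.ker_le j p (RingHom.mem_ker.mpr h0))
  have h2 : ∑ k, (α k ^ p ^ m) • (β k ^ p ^ m) = (0 : B) := by
    rw [← hm, sum_pow_char_pow]
    refine Finset.sum_congr rfl fun k _ => ?_
    rw [Algebra.smul_def, RingHom.algebraMap_toAlgebra, map_pow, mul_pow]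
  obtain ⟨K, c, z, hz, hc⟩ := (Module.Flat.iff_forall_isTrivialRelation (R := A) (M := B)).mp inferInstance h2
  set n := N + M + m with hn
  let rA := (iterateFrobeniusEquiv A' p n).symm
  let rB := (iterateFrobeniusEquiv B' p n).symm
  refine ⟨K, fun k q => rA (i (c k q)), fun q => rB (j (z q)), fun k => ?_, fun q => ?_⟩
  · apply (iterateFrobeniusEquiv B' p n).injective
    rw [map_sum, iterateFrobeniusEquiv_def, hn, pow_add, pow_mul, ← hβ, ← map_pow,
      show β k ^ p ^ m = _ from hz k, map_sum]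
    simp only
    refine Finset.sum_congr rfl fun q _ => ?_
    rw [Algebra.smul_def, map_mul, Algebra.smul_def, map_mul, RingEquiv.apply_symm_apply,
      RingHom.algebraMap_toAlgebra, RingHom.algebraMap_toAlgebra, ← RingHom.comp_apply j, ← hφ, RingHom.comp_apply,
      iterateFrobeniusEquiv_def, ← map_pow]
    congr 2
    exact ((iterateFrobeniusEquiv A' p n).apply_symm_apply _).symm
  · apply (iterateFrobeniusEquiv A' p n).injective
    rw [map_sum, map_zero, ← map_zero i, ← hc q, map_sum]
    refine Finset.sum_congr rfl fun k _ => ?_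
    rw [map_mul, map_mul, RingEquiv.apply_symm_apply, iterateFrobeniusEquiv_def, hn, pow_add, pow_mul, ← hα,
      map_pow]

/-- The map of perfect closures of an integral map. -/
theorem isIntegral_iff {A B A' B' : Type u} [CommRing A] [CommRing B] [CommRing A'] [CommRing B']
    (φ : A →+* B) (i : A →+* A') (j : B →+* B') [IsPRadical i p] [IsPRadical j p]
    (φ' : A' →+* B') (hφ : φ'.comp i = j.comp φ) : φ.IsIntegral ↔ φ'.IsIntegral := by
  have hp := (Fact.out : p.Prime)
  have hrad : ∀ {K L : Type u} [CommRing K] [CommRing L] (f : K →+* L) [IsPRadical f p], f.IsIntegral := by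
    intro K L _ _ f _ x
    obtain ⟨n, y, hy⟩ := IsPRadical.pow_mem f p x
    exact ⟨Polynomial.X ^ p ^ n - Polynomial.C y,
      Polynomial.monic_X_pow_sub_C _ (pow_ne_zero n hp.ne_zero),
      by rw [Polynomial.eval₂_sub, Polynomial.eval₂_X_pow, Polynomial.eval₂_C, hy, sub_self]⟩
  refine ⟨fun h => ?_, fun h b => ?_⟩
  · exact RingHom.IsIntegral.tower_top i φ' (hφ ▸ h.trans _ _ (hrad j))
  · have hb : (j.comp φ).IsIntegralElem (j b) := hφ ▸ (RingHom.IsIntegral.trans _ _ (hrad i) h) (j b)
    obtain ⟨P, hP, hPb⟩ := hb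
    rw [← Polynomial.hom_eval₂] at hPb
    obtain ⟨m, hm⟩ := mem_pNilradical.mp (IsPRadical.ker_le j p (RingHom.mem_ker.mpr hPb))
    exact ⟨P ^ p ^ m, hP.pow _, by rw [Polynomial.eval₂_pow, hm]⟩

/-- Ideals `√(f)` of a perfect ring are flat. -/
theorem flat_radical_span_singleton (A : Type u) [CommRing A] [CharP A p] [PerfectRing A p] (f : A) :
    Module.Flat A ((Ideal.span {f}).radical) := by
  have hp := (Fact.out : p.Prime)
  have : IsReduced A := ⟨fun x ⟨k, hk⟩ => (bijective_iterateFrobenius A p k).1 (by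
    rw [map_zero, iterateFrobenius_def]
    exact pow_eq_zero_of_le (Nat.lt_pow_self hp.one_lt).le hk)⟩
  let g : ℕ → A := fun n => (iterateFrobeniusEquiv A p n).symm f
  have hg : ∀ n, g n ^ p ^ n = f := fun n => (iterateFrobeniusEquiv A p n).apply_symm_apply f
  have hg' : ∀ n, g (n + 1) ^ p = g n := fun n => (iterateFrobeniusEquiv A p n).injective (by
    rw [iterateFrobeniusEquiv_def, iterateFrobeniusEquiv_def, ← pow_mul, mul_comm, ← pow_succ, hg, hg])
  have hmem : ∀ n, g n ∈ (Ideal.span {f}).radical := fun n =>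
    ⟨p ^ n, by rw [hg]; exact Ideal.mem_span_singleton_self f⟩
  rw [Module.Flat.iff_forall_isTrivialRelation]
  intro l a x hax
  choose m hm using fun k => (x k).2
  set n := Finset.univ.sup m
  have hx : ∀ k, ∃ c, (x k : A) = c * g n := fun k => by
    have hk : m k ≤ p ^ n := le_trans (Finset.le_sup (Finset.mem_univ k)) (Nat.lt_pow_self hp.one_lt).le
    obtain ⟨c, hc⟩ := Ideal.mem_span_singleton'.mp (Ideal.pow_mem_of_pow_mem _ (hm k) hk)
    refine ⟨(iterateFrobeniusEquiv A p n).symm c, (iterateFrobeniusEquiv A p n).injective ?_⟩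
    rw [map_mul, RingEquiv.apply_symm_apply, iterateFrobeniusEquiv_def, iterateFrobeniusEquiv_def, hg, hc]
  choose c hc using hx
  have hs : (∑ k, a k * c k) * g (n + 1) = 0 := by
    apply IsReduced.eq_zero _
    refine ⟨p, ?_⟩
    have h0 : (∑ k, a k * c k) * g n = 0 := by
      have h1 : ((∑ k, a k • x k : (Ideal.span {f}).radical) : A) = 0 := by rw [hax]; rfl
      rw [Finset.sum_mul, ← h1, Submodule.coe_sum]
      refine Finset.sum_congr rfl fun k _ => ?_
      rw [Submodule.coe_smul, smul_eq_mul, hc, mul_assoc]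
    obtain ⟨q, hq⟩ : ∃ q, p = q + 1 := ⟨p - 1, by have := hp.one_le; omega⟩
    rw [mul_pow, hg']
    calc (∑ k, a k * c k) ^ p * g n = (∑ k, a k * c k) ^ q * ((∑ k, a k * c k) * g n) := by rw [hq]; ring
      _ = 0 := by rw [h0, mul_zero]
  refine ⟨1, fun k _ => c k * g (n + 1) ^ (p - 1), fun _ => ⟨g (n + 1), hmem _⟩, fun k => ?_, fun _ => ?_⟩
  · apply Subtype.ext
    rw [Fin.sum_univ_one, Submodule.coe_smul, smul_eq_mul, hc, mul_assoc, ← pow_succ,
      show p - 1 + 1 = p by have := hp.one_le; omega, hg']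
  · calc (∑ k, a k * (c k * g (n + 1) ^ (p - 1))) = (∑ k, a k * c k) * g (n + 1) * g (n + 1) ^ (p - 2) := by
          rw [Finset.sum_mul, Finset.sum_mul]
          refine Finset.sum_congr rfl fun k _ => ?_
          rw [show p - 1 = p - 2 + 1 by have := hp.two_le; omega]
          ring
      _ = 0 := by rw [hs, zero_mul]

end Groth.FrobLCI.PerfectMap
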