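import Groth.Prelude.Def_FrobAlg
import Mathlib.Algebra.CharP.Lemmas
import Mathlib.Algebra.CharP.Basic
import Mathlib.RingTheory.Ideal.Quotient.Operations

/-!
The relative Frobenius: formulas.
-/

set_option autoImplicit false
set_option linter.unusedSectionVars false

universe u v w

namespace Groth.FrobLCI.RelFrob

open TensorProduct FrobAlg

variable (p : ℕ) [Fact p.Prime] (A : Type u) [CommRing A] [CharP A p]
  (B : Type v) [CommRing B] [Algebra A B] [CharP B p]

/-- The untwisting map. -/
def untwist : Twist p A →+* A := ((toTwist p A).symm : Twist p A →+* A)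

theorem relFrob_tmul (b : B) (t : Twist p A) :
    relFrob p A B (b ⊗ₜ t) = b ^ p * algebraMap A B (untwist p A t) := by
  rw [relFrob, RingHom.comp_apply]
  change (toTarget p A B).symm (Algebra.TensorProduct.lift (frobHom p A B) (inclHom p A B)
    (fun _ _ => Commute.all _ _) (b ⊗ₜ t)) = _
  rw [Algebra.TensorProduct.lift_tmul, map_mul]
  rfl

theorem natCast_baseChange : (p : BaseChange p A B) = 0 := by
  rw [← map_natCast (algebraMap A (BaseChange p A B)), CharP.cast_eq_zero, map_zero]

theorem twist_algebraMap (a : A) :
    untwist p A (algebraMap A (Twist p A) a) = a ^ p := by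
  rw [algebraMap_twist]; exact RingEquiv.symm_apply_apply _ _

theorem tmul_pow_eq (x : BaseChange p A B) :
    x ^ p = (Algebra.TensorProduct.includeLeft (S := A) : B →ₐ[A] BaseChange p A B) (relFrob p A B x) := by
  have hp := (Fact.out : p.Prime)
  induction x using TensorProduct.induction_on with
  | zero => rw [map_zero, map_zero, zero_pow hp.ne_zero]
  | tmul b t =>
    rw [relFrob_tmul, Algebra.TensorProduct.tmul_pow, Algebra.TensorProduct.includeLeft_apply,
      mul_comm (b ^ p), ← Algebra.smul_def, TensorProduct.smul_tmul]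
    congr 1
    rw [Algebra.smul_def, mul_one, algebraMap_twist]
    rfl
  | add x y hx hy =>
    rcases subsingleton_or_nontrivial (BaseChange p A B) with h | h
    · exact Subsingleton.elim _ _
    have : CharP (BaseChange p A B) p :=
      (CharP.charP_iff_prime_eq_zero hp).mpr (natCast_baseChange p A B)
    rw [add_pow_char, hx, hy, map_add, map_add]

variable {p A B}

/-- Two ring maps congruent modulo a square zero ideal agree on `p`-th powers in characteristic `p`. -/
theorem pow_eq_pow_of_sub_mem {C : Type w} [CommRing C] (hC : (p : C) = 0) {I : Ideal C}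
    (hI : I ^ 2 = ⊥) {x y : C} (h : x - y ∈ I) : x ^ p = y ^ p := by
  obtain ⟨r, hr⟩ := exists_add_pow_prime_eq (Fact.out : p.Prime) y (x - y)
  rw [add_sub_cancel] at hr
  have h2 : (x - y) ^ p = 0 := by
    have : (x - y) ^ 2 = 0 := by
      rw [← Submodule.mem_bot C, ← hI]
      exact Ideal.pow_mem_pow h 2
    exact pow_eq_zero_of_le (Fact.out : p.Prime).two_le this
  rw [hr, h2, hC, zero_mul, zero_mul, zero_mul, add_zero, add_zero]

/-- Two algebra maps congruent modulo a square zero ideal agree on the image of the relative Frobenius. -/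
theorem eq_on_range {C : Type w} [CommRing C] [Algebra A C] {I : Ideal C} (hI : I ^ 2 = ⊥)
    (g₁ g₂ : B →ₐ[A] C) (h : ∀ b, g₁ b - g₂ b ∈ I) (z : BaseChange p A B) :
    g₁ (relFrob p A B z) = g₂ (relFrob p A B z) := by
  have hC : (p : C) = 0 := by rw [← map_natCast (algebraMap A C), CharP.cast_eq_zero, map_zero]
  induction z using TensorProduct.induction_on with
  | zero => rw [map_zero, map_zero, map_zero]
  | tmul b t =>
    rw [relFrob_tmul, map_mul, map_mul, map_pow, map_pow, AlgHom.commutes, AlgHom.commutes,
      pow_eq_pow_of_sub_mem hC hI (h b)]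
  | add x y hx hy => simp only [map_add, hx, hy]

end Groth.FrobLCI.RelFrob
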