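import Groth.Agent.FrobLCI.RelFrob
import Mathlib

/-!
The relative Frobenius of an etale algebra is bijective.
-/

universe u

open TensorProduct

namespace Groth.FrobLCI.RelFrobEtale

/-- An etale map with nil kernel through which all `p`-th powers factor is bijective in characteristic `p`. -/
theorem bijective_of_etale (p : ℕ) [Fact p.Prime] (R S : Type u) [CommRing R] [CommRing S] [Algebra R S]
    [Algebra.Etale R S] (hS : (p : S) = 0) (hker : ∀ x : R, algebraMap R S x = 0 → IsNilpotent x)
    (hrange : ∀ s : S, ∃ r : R, algebraMap R S r = s ^ p) : Function.Bijective (algebraMap R S) := by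
  have hp := (Fact.out : p.Prime)
  have hint : Algebra.IsIntegral R S := ⟨fun s => by
    obtain ⟨r, hr⟩ := hrange s
    exact ⟨Polynomial.X ^ p - Polynomial.C r, Polynomial.monic_X_pow_sub_C _ hp.ne_zero, by
      rw [Polynomial.eval₂_sub, Polynomial.eval₂_X_pow, Polynomial.eval₂_C, hr, sub_self]⟩⟩
  have hsurj : Function.Surjective (PrimeSpectrum.comap (algebraMap R S)) := by
    have hcl := PrimeSpectrum.isClosedMap_comap_of_isIntegral (algebraMap R S)
      (algebraMap_isIntegral_iff.mpr hint)
    have hd : DenseRange (PrimeSpectrum.comap (algebraMap R S)) :=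
      (PrimeSpectrum.denseRange_comap_iff_ker_le_nilRadical (algebraMap R S)).mpr fun x hx => hker x hx
    rw [← Set.range_eq_univ]
    exact hcl.isClosed_range.closure_eq.symm.trans hd.closure_range
  have : Module.FaithfullyFlat R S := Module.FaithfullyFlat.of_comap_surjective hsurj
  have hnil : KaehlerDifferential.ideal R S ≤ nilradical (S ⊗[R] S) := by
    rw [← KaehlerDifferential.span_range_eq_ideal, Ideal.span_le]
    rintro _ ⟨s, rfl⟩
    refine ⟨p, ?_⟩
    rcases subsingleton_or_nontrivial (S ⊗[R] S) with h | h
    · exact Subsingleton.elim _ _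
    have : CharP (S ⊗[R] S) p := (CharP.charP_iff_prime_eq_zero hp).mpr (by
      rw [← map_natCast (algebraMap S (S ⊗[R] S)), hS, map_zero])
    obtain ⟨r, hr⟩ := hrange s
    rw [sub_pow_char, Algebra.TensorProduct.tmul_pow, Algebra.TensorProduct.tmul_pow, one_pow, ← hr,
      Algebra.algebraMap_eq_smul_one, TensorProduct.smul_tmul, sub_self]
    exact Submodule.zero_mem _
  obtain ⟨e, he, hsp⟩ : ∃ e, IsIdempotentElem e ∧ KaehlerDifferential.ideal R S = S ⊗[R] S ∙ e :=
    (Ideal.isIdempotentElem_iff_of_fg _ (KaehlerDifferential.ideal_fg R S)).mp <|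
      (Ideal.cotangent_subsingleton_iff _).mp <| inferInstanceAs <| Subsingleton Ω[S⁄R]
  have he0 : e = 0 := by
    have hen : IsNilpotent e := hnil (hsp ▸ Submodule.mem_span_singleton_self e)
    exact IsIdempotentElem.eq_zero_of_isNilpotent he hen
  have hmul : Function.Injective (Algebra.TensorProduct.lmul' R (S := S)) := by
    rw [injective_iff_map_eq_zero]
    intro x hx
    have hxI : x ∈ KaehlerDifferential.ideal R S := hx
    rw [hsp, he0, Submodule.span_zero_singleton] at hxI
    exact hxI
  have hl : Function.Bijective ((Algebra.linearMap R S).lTensor S) := by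
    have hcomp : ∀ z, Algebra.TensorProduct.lmul' R ((Algebra.linearMap R S).lTensor S z) =
        TensorProduct.rid R S z := fun z => by
      induction z using TensorProduct.induction_on with
      | zero => simp
      | add a b ha hb => simp only [map_add, ha, hb]
      | tmul s r => simp [Algebra.smul_def, mul_comm]
    refine ⟨fun a b hab => ?_, fun z => ?_⟩
    · apply (TensorProduct.rid R S).injective
      rw [← hcomp, ← hcomp, hab]
    · refine ⟨(TensorProduct.rid R S).symm (Algebra.TensorProduct.lmul' R z), hmul ?_⟩
      rw [hcomp, LinearEquiv.apply_symm_apply]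
  exact (Module.FaithfullyFlat.lTensor_bijective_iff_bijective (f := Algebra.linearMap R S) (M := S)).mp hl

open FrobAlg Groth.FrobLCI.RelFrob

/-- Cancellation for etale maps. -/
theorem etale_of_comp {T P B : Type u} [CommRing T] [CommRing P] [CommRing B] (g : T →+* P) (f : P →+* B)
    (hg : g.Etale) (hfg : (f.comp g).Etale) : f.Etale := by
  algebraize [g, f, f.comp g]
  exact Algebra.Etale.of_restrictScalars T P B

/-- The relative Frobenius of an etale algebra is bijective. -/
theorem relFrob_bijective_of_etale (p : ℕ) [Fact p.Prime] (A : Type u) [CommRing A] [CharP A p]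
    (B : Type u) [CommRing B] [Algebra A B] [CharP B p] [Algebra.Etale A B] :
    Function.Bijective (relFrob p A B) := by
  have hBC : Algebra.Etale (Twist p A) (BaseChange p A B) := Algebra.Etale.of_equiv
    (AlgEquiv.ofRingEquiv (f := (Algebra.TensorProduct.comm A (Twist p A) B).toRingEquiv) fun t => by
      show Algebra.TensorProduct.comm A (Twist p A) B (t ⊗ₜ 1) = 1 ⊗ₜ t
      simp)
  have hcomp : (relFrob p A B).comp (algebraMap (Twist p A) (BaseChange p A B)) =
      (algebraMap A B).comp (untwist p A) := RingHom.ext fun t => by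
    show relFrob p A B (1 ⊗ₜ t) = algebraMap A B (untwist p A t)
    rw [relFrob_tmul, one_pow, one_mul]
  have hunt : (untwist p A).Etale := RingHom.Etale.of_bijective (toTwist p A).symm.bijective
  have hA : (algebraMap A B).Etale := RingHom.etale_algebraMap.mpr inferInstance
  have hf : (relFrob p A B).Etale := etale_of_comp _ _ (RingHom.etale_algebraMap.mpr hBC)
    (hcomp ▸ RingHom.Etale.stableUnderComposition _ _ hunt hA)
  letI : Algebra (BaseChange p A B) B := (relFrob p A B).toAlgebra
  have : Algebra.Etale (BaseChange p A B) B := hf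
  have hB0 : (p : B) = 0 := by rw [← map_natCast (algebraMap A B), CharP.cast_eq_zero, map_zero]
  exact bijective_of_etale p (BaseChange p A B) B hB0
    (fun x hx => ⟨p, by rw [tmul_pow_eq, show relFrob p A B x = 0 from hx, map_zero]⟩)
    (fun s => ⟨s ⊗ₜ 1, by
      show relFrob p A B (s ⊗ₜ 1) = s ^ p
      rw [relFrob_tmul, map_one, map_one, mul_one]⟩)

end Groth.FrobLCI.RelFrobEtale
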