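import Mathlib.Algebra.Module.Projective
import Mathlib.LinearAlgebra.DirectSum.Finsupp
import Mathlib.RingTheory.Finiteness.Projective
import Mathlib.LinearAlgebra.TensorProduct.Tower

/-!
Injectivity and surjectivity of `M ⊗ lim → lim (M ⊗ -)` for projective `M`.
-/

set_option autoImplicit false

universe u v w x

namespace Groth.FrobLCI.TensorPi

open TensorProduct

variable {R : Type u} [CommRing R] {V : Type v} [AddCommGroup V] [Module R V]
  {κ : Type w} {P : κ → Type x} [∀ i, AddCommGroup (P i)] [∀ i, Module R (P i)]
  (π : ∀ i, V →ₗ[R] P i)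

theorem finsuppScalarLeft_lTensor {Q : Type*} [AddCommGroup Q] [Module R Q] {W : Type*}
    [AddCommGroup W] [Module R W] (f : W →ₗ[R] Q) {ι : Type*} [DecidableEq ι] (z : (ι →₀ R) ⊗[R] W) (j : ι) :
    finsuppScalarLeft R Q ι (LinearMap.lTensor (ι →₀ R) f z) j = f (finsuppScalarLeft R W ι z j) := by
  induction z using TensorProduct.induction_on with
  | zero => simp
  | tmul a b => simp
  | add a b ha hb => simp only [map_add, Finsupp.add_apply, ha, hb]

theorem injective_pi_lTensor (M : Type*) [AddCommGroup M] [Module R M] [Module.Projective R M]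
    (hπ : ∀ v, (∀ i, π i v = 0) → v = 0) :
    Function.Injective (LinearMap.pi fun i => LinearMap.lTensor M (π i)) := by
  classical
  rw [injective_iff_map_eq_zero]
  intro z hz
  obtain ⟨s, hs⟩ := (Module.projective_def' (R := R) (P := M)).1 inferInstance
  let e := Finsupp.linearCombination R (id : M → M)
  have h0 : LinearMap.rTensor V s z = 0 := by
    apply (finsuppScalarLeft R V M).injective
    rw [map_zero]
    refine Finsupp.ext fun j => hπ _ fun i => ?_
    rw [← finsuppScalarLeft_lTensor, ← LinearMap.comp_apply, LinearMap.lTensor_comp_rTensor,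
      ← LinearMap.rTensor_comp_lTensor, LinearMap.comp_apply]
    have : LinearMap.lTensor M (π i) z = 0 := congrFun hz i
    rw [this, map_zero, map_zero, Finsupp.zero_apply]
  have : LinearMap.rTensor V e (LinearMap.rTensor V s z) = z := by
    rw [← LinearMap.comp_apply, ← LinearMap.rTensor_comp]
    change LinearMap.rTensor V ((Finsupp.linearCombination R id) ∘ₗ s) z = z
    rw [hs, LinearMap.rTensor_id, LinearMap.id_apply]
  rw [← this, h0, map_zero]

theorem exists_eq_of_components (M : Type*) [AddCommGroup M] [Module R M] [Module.Finite R M]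
    [Module.Projective R M] (y : ∀ i, M ⊗[R] P i)
    (hy : ∀ f : M →ₗ[R] R, ∃ v, ∀ i, π i v = TensorProduct.lid R (P i) (LinearMap.rTensor (P i) f (y i))) :
    ∃ z, ∀ i, LinearMap.lTensor M (π i) z = y i := by
  classical
  obtain ⟨n, g, s, -, -, hgs⟩ := Module.Finite.exists_comp_eq_id_of_projective R M
  choose v hv using fun j : Fin n => hy ((LinearMap.proj j).comp s)
  refine ⟨∑ j, g (Pi.single j 1) ⊗ₜ v j, fun i => ?_⟩
  rw [map_sum]
  simp only [LinearMap.lTensor_tmul, hv]
  generalize y i = w
  induction w using TensorProduct.induction_on with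
  | zero => simp
  | tmul m a =>
    simp only [LinearMap.rTensor_tmul, TensorProduct.lid_tmul, LinearMap.comp_apply, LinearMap.proj_apply]
    rw [Finset.sum_congr rfl fun j _ => (TensorProduct.smul_tmul (s m j) (g (Pi.single j 1)) a).symm,
      ← TensorProduct.sum_tmul]
    congr 1
    conv_rhs => rw [← LinearMap.id_apply (R := R) m, ← hgs, LinearMap.comp_apply, pi_eq_sum_univ' (s m)]
    rw [map_sum]
    simp
  | add a b ha hb => simp only [map_add, TensorProduct.tmul_add, Finset.sum_add_distrib, ha, hb]

end Groth.FrobLCI.TensorPi
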