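import Groth.Agent.Ega4Algebra1.PdBasic
import Groth.Agent.Ega4Algebra1.RegularLocal
import Mathlib.RingTheory.Regular.RegularSequence
import Mathlib.RingTheory.Ideal.Cotangent
import Mathlib.RingTheory.Ideal.AssociatedPrime.Finiteness
import Mathlib.Tactic

/-!
Vasconcelos' theorem: an ideal of finite projective dimension in a Noetherian local ring whose
conormal module has a free summand of rank `r` contains a regular sequence of length `r` lifting
the summand.
-/

universe u

open Groth.Ega4Algebra1 TensorProduct IsLocalRing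

namespace Groth.FrobLCI.Vasconcelos

variable {R : Type u} [CommRing R] [IsNoetherianRing R]

theorem exists_socle (q : Ideal R) [q.IsPrime] (hq : q ∈ associatedPrimes R R) :
    ∃ x : R, (∀ i ∈ q, x * i = 0) ∧ algebraMap R (Localization.AtPrime q) x ≠ 0 ∧
      ∀ y ∈ maximalIdeal (Localization.AtPrime q), algebraMap R (Localization.AtPrime q) x * y = 0 := by
  obtain ⟨-, x, hx⟩ := isAssociatedPrime_iff.1 hq
  have hmem : ∀ i, i ∈ q ↔ i * x = 0 := fun i => by
    rw [hx, Submodule.mem_colon_singleton, Submodule.mem_bot, smul_eq_mul]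
  have hxi : ∀ i ∈ q, x * i = 0 := fun i hi => by rw [mul_comm, (hmem i).1 hi]
  refine ⟨x, hxi, fun h => ?_, fun y hy => ?_⟩
  · obtain ⟨s, hs⟩ := (IsLocalization.map_eq_zero_iff q.primeCompl _ x).1 h
    exact s.2 ((hmem s).2 hs)
  · rw [← IsLocalization.AtPrime.map_eq_maximalIdeal q (Localization.AtPrime q)] at hy
    have : q.map (algebraMap R (Localization.AtPrime q)) ≤
        LinearMap.ker (LinearMap.mulLeft (Localization.AtPrime q) (algebraMap R (Localization.AtPrime q) x)) :=
      Ideal.map_le_iff_le_comap.2 fun i hi => by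
        show algebraMap R (Localization.AtPrime q) x * algebraMap R (Localization.AtPrime q) i = 0
        rw [← map_mul, hxi i hi, map_zero]
    exact this hy

theorem free_of_mem_associatedPrimes (q : Ideal R) [q.IsPrime] (hq : q ∈ associatedPrimes R R) (n : ℕ)
    (M : Type u) [AddCommGroup M] [Module R M] [Module.Finite R M] (h : PdLT R M n) :
    Module.Free (Localization.AtPrime q) (Localization.AtPrime q ⊗[R] M) := by
  obtain ⟨x, -, hx0, hxm⟩ := exists_socle q hq
  have := projective_of_pdLT_of_socle hx0 hxm n _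
    (PdLT.baseChange (Localization.AtPrime q) (n + 1) (h.mono n.le_succ))
  exact Module.free_of_flat_of_isLocalRing

/-- Over a local ring, the rank at an associated prime of a module of finite projective dimension
does not depend on the prime. -/
theorem rank_eq [IsLocalRing R] (n : ℕ) (M : Type u) [AddCommGroup M] [Module R M] [Module.Finite R M]
    (h : PdLT R M n) (q q' : Ideal R) [q.IsPrime] [q'.IsPrime] (hq : q ∈ associatedPrimes R R)
    (hq' : q' ∈ associatedPrimes R R) :
    Module.finrank (Localization.AtPrime q) (Localization.AtPrime q ⊗[R] M) =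
      Module.finrank (Localization.AtPrime q') (Localization.AtPrime q' ⊗[R] M) := by
  induction n generalizing M with
  | zero =>
    have := PdLT.zero_iff.1 h
    have : Module.Free R M := Module.Free.of_subsingleton R M
    rw [Module.finrank_baseChange, Module.finrank_baseChange]
  | succ n ih =>
    cases n with
    | zero =>
      have := PdLT.one_iff.1 h
      have : Module.Free R M := Module.free_of_flat_of_isLocalRing
      rw [Module.finrank_baseChange, Module.finrank_baseChange]
    | succ n =>
      obtain ⟨k, f, hf⟩ := exists_surjective_fin R M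
      have hK := (PdLT.ker_iff f hf n).1 h
      have key : ∀ (Q : Ideal R) [Q.IsPrime], Q ∈ associatedPrimes R R →
          Module.finrank (Localization.AtPrime Q) (Localization.AtPrime Q ⊗[R] LinearMap.ker f) +
            Module.finrank (Localization.AtPrime Q) (Localization.AtPrime Q ⊗[R] M) = k := by
        intro Q _ hQ
        let B := Localization.AtPrime Q
        have h1 := free_of_mem_associatedPrimes Q hQ _ M h
        have h2 := free_of_mem_associatedPrimes Q hQ _ _ hK
        let g := f.baseChange B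
        have hg : Function.Surjective g := LinearMap.lTensor_surjective B hf
        obtain ⟨s, hs⟩ := Module.projective_lifting_property g (LinearMap.id : B ⊗[R] M →ₗ[B] B ⊗[R] M) hg
        have hs' : ∀ m, g (s m) = m := LinearMap.congr_fun hs
        obtain ⟨e⟩ := exists_equiv_ker_baseChange B f
        have : Module.Free B (LinearMap.ker g) := Module.Free.of_equiv e
        let φ : (LinearMap.ker g × (B ⊗[R] M)) ≃ₗ[B] B ⊗[R] (Fin k → R) :=
          { toFun := fun z => (z.1 : B ⊗[R] (Fin k → R)) + s z.2
            invFun := fun z => (⟨z - s (g z), by rw [LinearMap.mem_ker, map_sub, hs', sub_self]⟩, g z)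
            map_add' := fun a b => by
              simp only [Prod.fst_add, Prod.snd_add, Submodule.coe_add, map_add]; abel
            map_smul' := fun c a => by
              simp only [Prod.smul_fst, Prod.smul_snd, Submodule.coe_smul, map_smul, smul_add, RingHom.id_apply]
            left_inv := fun z => by
              have hz : g (z.1 : B ⊗[R] (Fin k → R)) = 0 := z.1.2
              refine Prod.ext (Subtype.ext ?_) ?_
              · simp only [map_add, hz, zero_add, hs', add_sub_cancel_right]
              · simp only [map_add, hz, zero_add, hs']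
            right_inv := fun z => sub_add_cancel _ _ }
        have := φ.finrank_eq
        rw [Module.finrank_prod, ← e.finrank_eq, Module.finrank_baseChange (M' := Fin k → R), Module.finrank_fin_fun] at this
        exact this
      have := ih (LinearMap.ker f) hK
      have := key q hq
      have := key q' hq'
      omega

/-- A nonzero proper ideal of finite projective dimension contains a nonzerodivisor. -/
theorem exists_mem_nonZeroDivisors [IsLocalRing R] (I : Ideal R) (hI : I ≠ ⊥) (n : ℕ) (h : PdLT R I n) :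
    ∃ x ∈ I, x ∈ nonZeroDivisors R := by
  by_contra! hcon
  have hsub : (I : Set R) ⊆ ⋃ p ∈ associatedPrimes R R, (id p : Ideal R) := fun x hx => by
    have := hcon x hx
    rw [show (⋃ p ∈ associatedPrimes R R, ((id p : Ideal R) : Set R)) = ((nonZeroDivisors R : Submonoid R) : Set R)ᶜ
      from biUnion_associatedPrimes_eq_compl_nonZeroDivisors R]
    exact this
  obtain ⟨p, hp, hIp⟩ := (I.subset_union_prime_finite (associatedPrimes.finite R R) (f := id) 0 0
    fun _ h _ _ => h.1).1 hsub
  have := hp.1
  obtain ⟨x, hxi, hx0, -⟩ := exists_socle p hp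
  have hfreep := free_of_mem_associatedPrimes p hp n I h
  have h0 : Subsingleton (Localization.AtPrime p ⊗[R] I) := by
    by_contra hns
    rw [not_subsingleton_iff_nontrivial] at hns
    have : algebraMap R (Localization.AtPrime p) x ∈
        Module.annihilator (Localization.AtPrime p) (Localization.AtPrime p ⊗[R] I) :=
      Module.mem_annihilator.2 fun z => by
        induction z using TensorProduct.induction_on with
        | zero => exact smul_zero _
        | tmul b i =>
          have : x • i = 0 := Subtype.ext (hxi i.1 (hIp i.2))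
          rw [algebraMap_smul, ← TensorProduct.tmul_smul, this, TensorProduct.tmul_zero]
        | add a b ha hb => rw [smul_add, ha, hb, add_zero]
    rw [Module.annihilator_eq_bot.mpr inferInstance, Submodule.mem_bot] at this
    exact hx0 this
  refine hI ((Submodule.eq_bot_iff _).2 fun i hi => by_contra fun hi0 => ?_)
  obtain ⟨q, hq, hle⟩ := exists_le_isAssociatedPrime_of_isNoetherianRing R i hi0
  have := hq.1
  have hfreeq := free_of_mem_associatedPrimes q hq n I h
  have hr := rank_eq n I h q p hq hp
  rw [Module.finrank_zero_of_subsingleton (M := Localization.AtPrime p ⊗[R] I)] at hr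
  have : Subsingleton (Localization.AtPrime q ⊗[R] I) := by
    let b := Module.Free.chooseBasis (Localization.AtPrime q) (Localization.AtPrime q ⊗[R] I)
    rw [Module.finrank_eq_card_chooseBasisIndex, Fintype.card_eq_zero_iff] at hr
    exact b.repr.toEquiv.subsingleton
  obtain ⟨s, hs⟩ := (IsLocalizedModule.eq_zero_iff q.primeCompl
    (TensorProduct.mk R (Localization.AtPrime q) I 1)).1
      (Subsingleton.elim (TensorProduct.mk R (Localization.AtPrime q) I 1 ⟨i, hi⟩) 0)
  refine s.2 (hle ?_)
  rw [Submodule.mem_colon_singleton, Submodule.mem_bot]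
  exact congrArg Subtype.val hs

omit [IsNoetherianRing R] in
/-- Prime avoidance for the coset `y + J`. -/
theorem exists_add_notMem {S : Set (Ideal R)} (hS : S.Finite) (hprime : ∀ p ∈ S, p.IsPrime) (y : R)
    (J : Ideal R) (hJ : ∀ p ∈ S, ¬ J ≤ p) : ∃ z ∈ J, ∀ p ∈ S, y + z ∉ p := by
  classical
  let A : Set (Ideal R) := {p | Maximal (· ∈ S) p ∧ y ∈ p}
  let Bs : Finset (Ideal R) := hS.toFinset.filter fun p => Maximal (· ∈ S) p ∧ y ∉ p
  have hA : A.Finite := hS.subset fun p hp => hp.1.1
  have hK : ¬ ((J * ∏ q ∈ Bs, q : Ideal R) : Set R) ⊆ ⋃ p ∈ A, (id p : Ideal R) := fun hsub => by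
    obtain ⟨p, hp, hle⟩ := (Ideal.subset_union_prime_finite hA (f := id) 0 0
      fun p hp _ _ => hprime p hp.1.1).1 hsub
    rcases (hprime p hp.1.1).mul_le.1 hle with h | h
    · exact hJ p hp.1.1 h
    · obtain ⟨q, hq, hqp⟩ := (hprime p hp.1.1).prod_le.1 h
      obtain ⟨-, hqmax, hyq⟩ := Finset.mem_filter.1 hq
      have heq : q = p := hqmax.eq_of_le hp.1.1 hqp
      rw [heq] at hyq
      exact hyq hp.2
  obtain ⟨z, hz, hzA⟩ := Set.not_subset.1 hK
  refine ⟨z, Ideal.mul_le_left hz, fun p hp hmem => ?_⟩
  obtain ⟨p', hpp', hp'⟩ := hS.exists_le_maximal hp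
  have hmem' := hpp' hmem
  by_cases hy : y ∈ p'
  · refine hzA (Set.mem_biUnion (show p' ∈ A from ⟨hp', hy⟩) ?_)
    exact (Ideal.add_mem_iff_right p' hy).1 hmem'
  · have hzp : z ∈ p' := by
      have h1 : (∏ q ∈ Bs, q) ≤ p' := (hprime p' hp'.1).prod_le.2
        ⟨p', Finset.mem_filter.2 ⟨hS.mem_toFinset.2 hp'.1, hp', hy⟩, le_rfl⟩
      exact h1 (Ideal.mul_le_right hz)
    exact hy ((Ideal.add_mem_iff_left p' hzp).1 hmem')

/-- A nonzero proper ideal of finite projective dimension: every coset of `I ^ 2` in `I` contains a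
nonzerodivisor. -/
theorem exists_add_mem_nonZeroDivisors [IsLocalRing R] (I : Ideal R) (hI : I ≠ ⊥) (n : ℕ)
    (h : PdLT R I n) (y : R) : ∃ z ∈ I ^ 2, y + z ∈ nonZeroDivisors R := by
  obtain ⟨w, hwI, hw⟩ := exists_mem_nonZeroDivisors I hI n h
  have hunion := biUnion_associatedPrimes_eq_compl_nonZeroDivisors R
  have hJ : ∀ p ∈ associatedPrimes R R, ¬ I ^ 2 ≤ p := fun p hp hle => by
    have h2 : w ^ 2 ∈ ((nonZeroDivisors R : Submonoid R) : Set R)ᶜ :=
      hunion ▸ Set.mem_biUnion hp (hle (Ideal.pow_mem_pow hwI 2))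
    exact h2 (pow_mem hw 2)
  obtain ⟨z, hz, hzp⟩ := exists_add_notMem (associatedPrimes.finite R R) (fun p hp => hp.1) y _ hJ
  refine ⟨z, hz, by_contra fun hn => ?_⟩
  have h3 : y + z ∈ ((nonZeroDivisors R : Submonoid R) : Set R)ᶜ := hn
  rw [← hunion] at h3
  obtain ⟨p, hp, hmem⟩ := Set.mem_iUnion₂.1 h3
  exact hzp p hp hmem

/-- Vasconcelos: if the classes of `y i` span a free direct summand of `I / I ^ 2`, some `x i`
congruent to `y i` modulo `I ^ 2` form a weakly regular sequence. -/
theorem exists_isWeaklyRegular (r : ℕ) : ∀ (R : Type u) [CommRing R] [IsNoetherianRing R] [IsLocalRing R]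
    (I : Ideal R), I ≠ ⊤ → ∀ (n : ℕ), PdLT R I n → ∀ (y : Fin r → I) (φ : I →ₗ[R] (Fin r → R ⧸ I)),
      (∀ i, φ (y i) = Pi.single i 1) →
      ∃ x : Fin r → R, (∀ i, x i - y i ∈ I ^ 2) ∧ RingTheory.Sequence.IsWeaklyRegular R (List.ofFn x) := by
  induction r with
  | zero =>
    intro R _ _ _ I _ n _ y φ _
    exact ⟨Fin.elim0, fun i => i.elim0, by simpa using RingTheory.Sequence.IsWeaklyRegular.nil R R⟩
  | succ r ih =>
    intro R _ _ _ I hI n hpd y φ hφ
    have : Nontrivial (R ⧸ I) := Ideal.Quotient.nontrivial_iff.2 hI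
    have hne : I ≠ ⊥ := fun h => by
      have h0 : y 0 = 0 := Subtype.ext ((Submodule.eq_bot_iff I).1 h _ (y 0).2)
      have h1 := congrFun (hφ 0) 0
      rw [h0, map_zero, Pi.single_eq_same, Pi.zero_apply] at h1
      exact zero_ne_one h1
    obtain ⟨z, hz, hnzd⟩ := exists_add_mem_nonZeroDivisors I hne n hpd (y 0 : R)
    set x₀ : R := (y 0 : R) + z with hx₀
    have hx₀I : x₀ ∈ I := add_mem (y 0).2 (Ideal.pow_le_self two_ne_zero hz)
    have hφsq : ∀ (a : I), (a : R) ∈ I ^ 2 → φ a = 0 := by
      rintro ⟨a, haI⟩ ha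
      simp only [sq] at ha
      induction ha using Submodule.mul_induction_on' with
      | mem_mul_mem u hu v hv =>
        rw [show (⟨u * v, haI⟩ : I) = u • (⟨v, hv⟩ : I) from rfl, map_smul]
        funext j
        obtain ⟨w, hw⟩ := Ideal.Quotient.mk_surjective (φ ⟨v, hv⟩ j)
        rw [Pi.smul_apply, ← hw, ← Ideal.Quotient.mk_eq_mk, ← Submodule.Quotient.mk_smul, Pi.zero_apply,
          Submodule.Quotient.mk_eq_zero]
        exact I.mul_mem_right _ hu
      | add u hu v hv h1 h2 =>
        have hu' : u ∈ I := Ideal.mul_le_left hu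
        have hv' : v ∈ I := Ideal.mul_le_left hv
        rw [show (⟨u + v, haI⟩ : I) = ⟨u, hu'⟩ + ⟨v, hv'⟩ from rfl, map_add, h1 hu', h2 hv', add_zero]
    let X₀ : I := ⟨x₀, hx₀I⟩
    have hφx : φ X₀ = Pi.single 0 1 := by
      rw [show X₀ = y 0 + ⟨z, Ideal.pow_le_self two_ne_zero hz⟩ from rfl, map_add, hφ, hφsq _ hz, add_zero]
    let R' := R ⧸ Ideal.span {x₀}
    let mk : R →+* R' := Ideal.Quotient.mk _
    let I' : Ideal R' := I.map mk
    have hle : Ideal.span {x₀} ≤ I := (Ideal.span_singleton_le_iff_mem _).2 hx₀I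
    have hcomap : I'.comap mk = I := by
      rw [Ideal.comap_map_of_surjective _ Ideal.Quotient.mk_surjective, sup_eq_left]
      exact le_trans (by rw [← RingHom.ker_eq_comap_bot, Ideal.mk_ker]) hle
    have hI' : I' ≠ ⊤ := fun h => hI (by rw [← hcomap, h, Ideal.comap_top])
    have : Nontrivial R' := Ideal.Quotient.nontrivial_iff.2 fun h => hI (top_le_iff.1 (h ▸ hle))
    have : IsLocalRing R' := IsLocalRing.of_surjective' _ Ideal.Quotient.mk_surjective
    -- the projection `I → I'`
    let g : I →ₗ[R] I' :=
      { toFun := fun a => ⟨mk a.1, Ideal.mem_map_of_mem _ a.2⟩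
        map_add' := fun a b => Subtype.ext (map_add mk _ _)
        map_smul' := fun c a => Subtype.ext (map_mul mk _ _) }
    have hg : Function.Surjective g := fun ⟨b, hb⟩ => by
      obtain ⟨a, rfl⟩ := Ideal.Quotient.mk_surjective b
      exact ⟨⟨a, by rw [← hcomap]; exact hb⟩, rfl⟩
    have hker : ∀ a : I, g a = 0 → ∃ c, a = c • X₀ := fun a ha => by
      obtain ⟨c, hc⟩ := Ideal.mem_span_singleton'.1 (Ideal.Quotient.eq_zero_iff_mem.1 (congrArg Subtype.val ha))
      exact ⟨c, Subtype.ext hc.symm⟩
    have hsurj : Function.Surjective (algebraMap R R') := Ideal.Quotient.mk_surjective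
    -- the section `I' → I / x₀ I`
    let Q := I ⧸ (Ideal.span {x₀} • ⊤ : Submodule R I)
    let u : (R ⧸ I) →ₗ[R] Q := Submodule.liftQ I
      (LinearMap.toSpanSingleton R Q (Submodule.Quotient.mk X₀)) fun c hc => by
        rw [LinearMap.mem_ker, LinearMap.toSpanSingleton_apply, ← Submodule.Quotient.mk_smul,
          Submodule.Quotient.mk_eq_zero]
        rw [show c • X₀ = x₀ • (⟨c, hc⟩ : I) from Subtype.ext (mul_comm c x₀)]
        exact Submodule.smul_mem_smul (Ideal.mem_span_singleton_self x₀) trivial
    have hu : ∀ c : R, u (Ideal.Quotient.mk I c) = c • Submodule.Quotient.mk X₀ := fun c => rfl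
    let hmap : I →ₗ[R] Q := Submodule.mkQ _ - u.comp ((LinearMap.proj 0).comp φ)
    have hmapker : LinearMap.ker g ≤ LinearMap.ker hmap := fun a ha => by
      obtain ⟨c, rfl⟩ := hker a ha
      rw [LinearMap.mem_ker, map_smul]
      suffices hmap X₀ = 0 by rw [this, smul_zero]
      simp only [hmap, LinearMap.sub_apply, LinearMap.comp_apply, LinearMap.proj_apply, hφx, Pi.single_eq_same,
        Submodule.mkQ_apply]
      rw [← map_one (Ideal.Quotient.mk I), hu, one_smul, sub_self]
    obtain ⟨sec, hsec⟩ : ∃ sec : I' →ₗ[R] Q, ∀ a, sec (g a) = hmap a :=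
      ⟨((LinearMap.ker g).liftQ hmap hmapker).comp (g.quotKerEquivOfSurjective hg).symm.toLinearMap,
        fun a => by
          have : (g.quotKerEquivOfSurjective hg).symm (g a) = Submodule.Quotient.mk a :=
            (LinearEquiv.symm_apply_eq _).2 rfl
          simp [this]⟩
    let ret : Q →ₗ[R] I' := Submodule.liftQ _ g (Submodule.smul_le.2 fun c hc a _ => by
      rw [LinearMap.mem_ker, map_smul]
      refine Subtype.ext ?_
      show mk c * mk a.1 = 0
      rw [show mk c = 0 from Ideal.Quotient.eq_zero_iff_mem.2 hc, zero_mul])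
    have hgX : g X₀ = 0 := Subtype.ext (Ideal.Quotient.eq_zero_iff_mem.2 (Ideal.mem_span_singleton_self x₀))
    have hret : ∀ b, ret (sec b) = b := fun b => by
      obtain ⟨a, rfl⟩ := hg b
      rw [hsec]
      simp only [hmap, LinearMap.sub_apply, map_sub, Submodule.mkQ_apply, LinearMap.comp_apply]
      obtain ⟨c, hc⟩ := Ideal.Quotient.mk_surjective ((LinearMap.proj 0 : _ →ₗ[R] R ⧸ I) (φ a))
      rw [← hc, hu, map_smul]
      show g a - c • g X₀ = g a
      rw [hgX, smul_zero, sub_zero]
    have hxR : IsSMulRegular R x₀ := fun a b hab => (mul_cancel_left_mem_nonZeroDivisors hnzd).1 hab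
    have hxI : IsSMulRegular I x₀ := fun a b hab => Subtype.ext (hxR (congrArg Subtype.val hab))
    have hpd' : PdLT R' I' (n + 1) := PdLT.of_retract (sec.extendScalarsOfSurjective hsurj)
      (ret.extendScalarsOfSurjective hsurj) (LinearMap.ext hret)
      (PdLT.quotient_of_isSMulRegular x₀ hxR hxI n (hpd.mono n.le_succ))
    -- the new splitting
    let π' : (R ⧸ I) →ₗ[R] (R' ⧸ I') := Submodule.liftQ I
      ((Ideal.Quotient.mkₐ R I').toLinearMap.comp (Ideal.Quotient.mkₐ R (Ideal.span {x₀})).toLinearMap)
      fun c hc => Ideal.Quotient.eq_zero_iff_mem.2 (Ideal.mem_map_of_mem mk hc)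
    let ψ : I →ₗ[R] (Fin r → R' ⧸ I') := LinearMap.pi fun j => π'.comp ((LinearMap.proj j.succ).comp φ)
    have hψker : LinearMap.ker g ≤ LinearMap.ker ψ := fun a ha => by
      obtain ⟨c, rfl⟩ := hker a ha
      rw [LinearMap.mem_ker, map_smul]
      suffices ψ X₀ = 0 by rw [this, smul_zero]
      funext j
      simp [ψ, hφx, Fin.succ_ne_zero]
    obtain ⟨φ', hφ'⟩ : ∃ φ' : I' →ₗ[R] (Fin r → R' ⧸ I'), ∀ a, φ' (g a) = ψ a :=
      ⟨((LinearMap.ker g).liftQ ψ hψker).comp (g.quotKerEquivOfSurjective hg).symm.toLinearMap,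
        fun a => by
          have : (g.quotKerEquivOfSurjective hg).symm (g a) = Submodule.Quotient.mk a :=
            (LinearEquiv.symm_apply_eq _).2 rfl
          simp [this]⟩
    obtain ⟨x', hx', hreg'⟩ := ih R' I' hI' (n + 1) hpd' (fun i => g (y i.succ))
      (φ'.extendScalarsOfSurjective hsurj) fun i => by
        show φ' (g (y i.succ)) = _
        rw [hφ']
        funext j
        rcases eq_or_ne j i with rfl | hji
        · simp only [ψ, LinearMap.pi_apply, LinearMap.comp_apply, LinearMap.proj_apply, hφ, Pi.single_eq_same]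
          rfl
        · simp [ψ, hφ, Pi.single_eq_of_ne, hji, Fin.succ_inj]
    have hlift : ∀ i, ∃ w ∈ I ^ 2, mk w = x' i - mk (y i.succ) := fun i => by
      have := hx' i
      rw [← Ideal.map_pow] at this
      exact (Ideal.mem_map_iff_of_surjective mk Ideal.Quotient.mk_surjective).1 this
    choose w hw hwx using hlift
    refine ⟨Fin.cons x₀ fun i => (y i.succ : R) + w i, fun i => ?_, ?_⟩
    · induction i using Fin.cases with
      | zero => simpa [hx₀] using hz
      | succ i => simpa using hw i
    · rw [List.ofFn_succ, Fin.cons_zero, RingTheory.Sequence.isWeaklyRegular_cons_iff]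
      simp only [Fin.cons_succ]
      refine ⟨hxR, ?_⟩
      let e : QuotSMulTop x₀ R ≃ₗ[R] R' := Submodule.quotEquivOfEq _ _ (by
        rw [← Submodule.ideal_span_singleton_smul, smul_eq_mul, Ideal.mul_top])
      rw [e.isWeaklyRegular_congr, ← RingTheory.Sequence.isWeaklyRegular_map_algebraMap_iff (R := R) (S := R') (M := R'),
        List.map_ofFn]
      rw [show ((algebraMap R R') ∘ fun i => (y i.succ : R) + w i) = x' from funext fun i => by
        show mk ((y i.succ : R) + w i) = x' i
        rw [map_add, hwx]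
        abel]
      exact hreg'

end Groth.FrobLCI.Vasconcelos
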