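import Groth.Prelude.Def_W4c1liftfrobW2
import Mathlib.RingTheory.WittVector.Identities
import Mathlib.RingTheory.WittVector.Teichmuller
import Mathlib.RingTheory.WittVector.InitTail
import Mathlib.RingTheory.Flat.Tensor
import Mathlib.RingTheory.Noetherian.Basic
import Mathlib.Algebra.CharP.Lemmas

/-!
Basics on Witt vectors of length two and on liftings modulo `p^2`.
-/

set_option autoImplicit false
set_option linter.unusedSectionVars false

universe u v w

namespace Groth.FrobLCI.W2

open FrobAlg

variable {p : ℕ} [hp : Fact p.Prime]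

section Ring

variable {R : Type u} [CommRing R]

/-- The vector `(a, b)`. -/
def mk2 (p : ℕ) (a b : R) : W2 p R := TruncatedWittVector.mk p ![a, b]

omit hp in
@[simp] theorem coeff_mk2_zero (a b : R) : (mk2 p a b).coeff 0 = a := rfl
omit hp in
@[simp] theorem coeff_mk2_one (a b : R) : (mk2 p a b).coeff 1 = b := rfl

omit hp in
theorem ext2 {x y : W2 p R} (h0 : x.coeff 0 = y.coeff 0) (h1 : x.coeff 1 = y.coeff 1) : x = y :=
  TruncatedWittVector.ext (Fin.forall_fin_two.2 ⟨h0, h1⟩)

theorem res_mk2 (a b : R) : res p R (mk2 p a b) = a := by simp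

theorem res_surjective : Function.Surjective (res p R) := fun a => ⟨mk2 p a 0, res_mk2 a 0⟩

/-- The vector `(0, a)`, additive in `a`. -/
noncomputable def V1 (p : ℕ) [Fact p.Prime] (a : R) : W2 p R := mk2 p 0 a

theorem V1_eq_truncate (X : WittVector p R) :
    V1 p (X.coeff 0) = WittVector.truncate 2 (WittVector.verschiebung X) := by
  refine ext2 ?_ ?_
  · rw [V1, coeff_mk2_zero, WittVector.coeff_truncate]
    exact (WittVector.verschiebung_coeff_zero X).symm
  · rw [V1, coeff_mk2_one, WittVector.coeff_truncate]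
    exact (WittVector.verschiebung_coeff_succ X 0).symm

theorem exists_coeff_zero (a : R) : ∃ X : WittVector p R, X.coeff 0 = a :=
  ⟨WittVector.teichmuller p a, WittVector.teichmuller_coeff_zero p a⟩

theorem V1_zero : V1 p (0 : R) = 0 := by
  refine ext2 ?_ ?_ <;> simp [V1, TruncatedWittVector.coeff_zero]

theorem V1_add (a b : R) : V1 p (a + b) = V1 p a + V1 p b := by
  obtain ⟨X, rfl⟩ := exists_coeff_zero (p := p) a
  obtain ⟨Y, rfl⟩ := exists_coeff_zero (p := p) b
  rw [← WittVector.add_coeff_zero, V1_eq_truncate, V1_eq_truncate, V1_eq_truncate, map_add, map_add]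

theorem V1_sub (a b : R) : V1 p (a - b) = V1 p a - V1 p b := by
  rw [eq_sub_iff_add_eq, ← V1_add, sub_add_cancel]

theorem V1_injective : Function.Injective (V1 p : R → W2 p R) := fun a b h => by
  have := congrArg (fun x => TruncatedWittVector.coeff (1 : Fin 2) x) h
  simpa [V1] using this

theorem res_V1 (a : R) : res p R (V1 p a) = 0 := res_mk2 0 a

theorem eq_V1_of_res_eq_zero {x : W2 p R} (h : res p R x = 0) : x = V1 p (x.coeff 1) := by
  refine ext2 ?_ ?_
  · rw [res_apply] at h; simp [V1, h]
  · simp [V1]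

theorem V1_mul (hR : (p : R) = 0) (a : R) (y : W2 p R) :
    V1 p a * y = V1 p (a * res p R y ^ p) := by
  rcases subsingleton_or_nontrivial R with h | h
  · exact TruncatedWittVector.ext fun i => Subsingleton.elim _ _
  have : CharP R p := (CharP.charP_iff_prime_eq_zero hp.out).mpr hR
  obtain ⟨X, rfl⟩ := exists_coeff_zero (p := p) a
  obtain ⟨Y, rfl⟩ := WittVector.truncate_surjective p 2 R y
  rw [res_truncate, V1_eq_truncate, ← map_mul, ← WittVector.verschiebung_mul_frobenius,
    ← V1_eq_truncate, WittVector.mul_coeff_zero, WittVector.coeff_frobenius_charP]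

theorem natCast_eq_V1 (hR : (p : R) = 0) : (p : W2 p R) = V1 p 1 := by
  rcases subsingleton_or_nontrivial R with h | h
  · exact TruncatedWittVector.ext fun i => Subsingleton.elim _ _
  have : CharP R p := (CharP.charP_iff_prime_eq_zero hp.out).mpr hR
  rw [← map_natCast (WittVector.truncate (p := p) (R := R) 2) p]
  refine ext2 ?_ ?_
  · rw [WittVector.coeff_truncate]; simp [V1, WittVector.coeff_p_zero]
  · rw [WittVector.coeff_truncate]; simp [V1, WittVector.coeff_p_one]

theorem p_mul (hR : (p : R) = 0) (y : W2 p R) : (p : W2 p R) * y = V1 p (res p R y ^ p) := by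
  rw [natCast_eq_V1 hR, V1_mul hR, one_mul]

theorem res_natCast (hR : (p : R) = 0) : res p R (p : W2 p R) = 0 := by
  rw [map_natCast, hR]

theorem p_sq (hR : (p : R) = 0) : (p : W2 p R) * p = 0 := by
  rw [p_mul hR, res_natCast hR, zero_pow hp.out.ne_zero, V1_zero]

theorem mul_eq_zero_of_res (hR : (p : R) = 0) {x y : W2 p R} (hx : res p R x = 0)
    (hy : res p R y = 0) : x * y = 0 := by
  rw [eq_V1_of_res_eq_zero hx, V1_mul hR, hy, zero_pow hp.out.ne_zero, mul_zero, V1_zero]

theorem isUnit_of_isUnit_res (hR : (p : R) = 0) {x : W2 p R} (hx : IsUnit (res p R x)) :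
    IsUnit x := by
  obtain ⟨b, hb⟩ := hx.exists_right_inv
  obtain ⟨y, rfl⟩ := res_surjective (p := p) b
  have hd : res p R (1 - x * y) = 0 := by rw [map_sub, map_one, map_mul, hb, sub_self]
  refine IsUnit.of_mul_eq_one (y * (1 + (1 - x * y))) ?_
  have := mul_eq_zero_of_res hR hd hd
  linear_combination -this

end Ring

/-! ### Flat liftings modulo `p^2` -/

/-- `π : B → A` is a flat lifting modulo `p^2`: it is surjective with kernel `pB`, and the annihilator of `p` is
the kernel. -/
structure IsPFlat (p : ℕ) {A : Type u} {B : Type v} [CommRing A] [CommRing B] (π : B →+* A) : Prop where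
  surj : Function.Surjective π
  ker : ∀ b, π b = 0 → ∃ c, b = (p : B) * c
  tors : ∀ c, (p : B) * c = 0 ↔ π c = 0
  map_p : (p : A) = 0

namespace IsPFlat

variable {A : Type u} {B : Type v} [CommRing A] [CommRing B] {π : B →+* A} (h : IsPFlat p π)

include h

omit hp in
theorem pi_p : π (p : B) = 0 := by rw [map_natCast, h.map_p]

omit hp in
theorem pp : (p : B) * p = 0 := (h.tors _).2 h.pi_p

omit hp in
theorem p_pow {n : ℕ} (hn : 2 ≤ n) : (p : B) ^ n = 0 := by
  obtain ⟨m, rfl⟩ := Nat.exists_eq_add_of_le hn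
  rw [pow_add, sq, h.pp, zero_mul]

omit hp in
theorem mul_eq_mul_iff {c d : B} : (p : B) * c = p * d ↔ π c = π d := by
  rw [← sub_eq_zero, ← mul_sub, h.tors, map_sub, sub_eq_zero]

omit hp in
theorem ker_iff {b : B} : π b = 0 ↔ ∃ c, b = (p : B) * c :=
  ⟨h.ker b, fun ⟨c, hc⟩ => by rw [hc, map_mul, h.pi_p, zero_mul]⟩

/-- A set-theoretic section. -/
noncomputable def sec (a : A) : B := (h.surj a).choose

omit hp in
theorem pi_sec (a : A) : π (h.sec a) = a := (h.surj a).choose_spec

/-- `a ↦ p · (lift of a)`. -/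
noncomputable def eps : A →+ B where
  toFun a := (p : B) * h.sec a
  map_zero' := by rw [h.tors, h.pi_sec]
  map_add' a b := by
    rw [← mul_add, h.mul_eq_mul_iff, map_add, h.pi_sec, h.pi_sec, h.pi_sec]

omit hp in
theorem eps_pi (c : B) : h.eps (π c) = (p : B) * c := h.mul_eq_mul_iff.2 (h.pi_sec _)

omit hp in
theorem eps_injective : Function.Injective h.eps := fun a b e => by
  have := h.mul_eq_mul_iff.1 e
  rwa [h.pi_sec, h.pi_sec] at this

omit hp in
theorem pi_eps (a : A) : π (h.eps a) = 0 := by
  change π ((p : B) * h.sec a) = 0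
  rw [map_mul, h.pi_p, zero_mul]

omit hp in
theorem exists_eps {b : B} (hb : π b = 0) : ∃ a, h.eps a = b := by
  obtain ⟨c, rfl⟩ := h.ker b hb
  exact ⟨π c, h.eps_pi c⟩

omit hp in
theorem mul_eps (b : B) (a : A) : b * h.eps a = h.eps (π b * a) := by
  obtain ⟨c, rfl⟩ := h.surj a
  rw [h.eps_pi, ← map_mul, h.eps_pi]; ring

omit hp in
theorem eps_mul_eps (a a' : A) : h.eps a * h.eps a' = 0 := by
  rw [h.mul_eps, h.pi_eps, zero_mul, map_zero]

omit hp in
theorem eps_one : h.eps 1 = (p : B) := by
  have := h.eps_pi 1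
  rwa [map_one, mul_one] at this

omit hp in
theorem p_mul_eps (a : A) : (p : B) * h.eps a = 0 := by rw [h.mul_eps, h.pi_p, zero_mul, map_zero]

include hp in
theorem pow_p_congr {b b' : B} (e : π b = π b') : b ^ p = b' ^ p := by
  obtain ⟨c, hc⟩ := h.ker (b - b') (by rw [map_sub, e, sub_self])
  have hb : b = b' + (p : B) * c := by rw [← hc]; ring
  obtain ⟨r, hr⟩ := exists_add_pow_prime_eq hp.out b' ((p : B) * c)
  rw [hb, hr, mul_pow, h.p_pow hp.out.two_le]
  linear_combination (b' * c * r) * h.pp

theorem isUnit_of_isUnit {b : B} (hb : IsUnit (π b)) : IsUnit b := by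
  obtain ⟨a, ha⟩ := hb.exists_right_inv
  obtain ⟨y, rfl⟩ := h.surj a
  obtain ⟨c, hc⟩ := h.ker (1 - b * y) (by rw [map_sub, map_one, map_mul, ha, sub_self])
  refine IsUnit.of_mul_eq_one (y * (1 + (1 - b * y))) ?_
  have : (1 - b * y) * (1 - b * y) = 0 := by
    rw [hc]; linear_combination (c * c) * h.pp
  linear_combination -this

/-- The ghost map `W₂(A) → B`, `(a₀, a₁) ↦ ã₀^p + p ã₁`. -/
noncomputable def ghostFun (x : W2 p A) : B := h.sec (x.coeff 0) ^ p + h.eps (x.coeff 1)

include hp in
theorem ghostFun_truncate (X : WittVector p B) :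
    h.ghostFun (WittVector.truncate 2 (WittVector.map π X)) = WittVector.ghostComponent 1 X := by
  rw [WittVector.ghostComponent_apply, wittPolynomial_one]
  simp only [ghostFun, map_add, map_mul, map_pow, MvPolynomial.aeval_X, MvPolynomial.aeval_C,
    WittVector.coeff_truncate, WittVector.map_coeff]
  rw [h.pow_p_congr (h.pi_sec _)]
  have : h.eps (π (X.coeff 1)) = (p : B) * X.coeff 1 := h.eps_pi _
  simp only [Fin.val_zero, Fin.val_one, this, map_natCast]
  ring

include hp in
theorem exists_truncate_map (x : W2 p A) :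
    ∃ X : WittVector p B, WittVector.truncate 2 (WittVector.map π X) = x := by
  obtain ⟨Y, rfl⟩ := WittVector.truncate_surjective p 2 A x
  obtain ⟨X, rfl⟩ := WittVector.map_surjective (p := p) π h.surj Y
  exact ⟨X, rfl⟩

/-- The ghost map as a ring homomorphism. -/
noncomputable def ghost : W2 p A →+* B where
  toFun := h.ghostFun
  map_one' := by
    rw [← map_one (WittVector.truncate (p := p) (R := A) 2), ← map_one (WittVector.map (p := p) π),
      h.ghostFun_truncate, map_one]
  map_zero' := by
    rw [← map_zero (WittVector.truncate (p := p) (R := A) 2), ← map_zero (WittVector.map (p := p) π),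
      h.ghostFun_truncate, map_zero]
  map_mul' x y := by
    obtain ⟨X, rfl⟩ := h.exists_truncate_map x
    obtain ⟨Y, rfl⟩ := h.exists_truncate_map y
    rw [← map_mul, ← map_mul, h.ghostFun_truncate, h.ghostFun_truncate, h.ghostFun_truncate, map_mul]
  map_add' x y := by
    obtain ⟨X, rfl⟩ := h.exists_truncate_map x
    obtain ⟨Y, rfl⟩ := h.exists_truncate_map y
    rw [← map_add, ← map_add, h.ghostFun_truncate, h.ghostFun_truncate, h.ghostFun_truncate, map_add]

theorem ghost_eq (x : W2 p A) {b : B} (hb : π b = x.coeff 0) :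
    h.ghost x = b ^ p + h.eps (x.coeff 1) := by
  change h.sec (x.coeff 0) ^ p + _ = _
  rw [h.pow_p_congr ((h.pi_sec _).trans hb.symm)]

theorem pi_ghost (x : W2 p A) : π (h.ghost x) = res p A x ^ p := by
  rw [h.ghost_eq x (h.pi_sec _), map_add, map_pow, h.pi_sec, h.pi_eps, add_zero, res_apply]

theorem ghost_ext {x y : W2 p A} (h0 : res p A x = res p A y) (h1 : h.ghost x = h.ghost y) :
    x = y := by
  rw [res_apply, res_apply] at h0
  refine ext2 h0 (h.eps_injective ?_)
  rw [h.ghost_eq x (h.pi_sec _), h.ghost_eq y ((h.pi_sec _).trans h0)] at h1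
  exact add_left_cancel h1

theorem exists_ghost (a : A) (y : B) (hy : π y = a ^ p) :
    ∃ x : W2 p A, res p A x = a ∧ h.ghost x = y := by
  obtain ⟨d, hd⟩ := h.exists_eps (b := y - h.sec a ^ p)
    (by rw [map_sub, map_pow, h.pi_sec, hy, sub_self])
  refine ⟨mk2 p a d, res_mk2 a d, ?_⟩
  rw [h.ghost_eq _ (h.pi_sec _), coeff_mk2_zero, coeff_mk2_one, hd, add_sub_cancel]

section lift

variable {C : Type w} [CommRing C] (f : C →+* A) (g : C →+* B) (hfg : ∀ c, π (g c) = f c ^ p)

include hfg

/-- `W₂(A)` is the fibre product of `A` and `B` over the Frobenius of `A`. -/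
noncomputable def w2Lift : C →+* W2 p A where
  toFun c := (h.exists_ghost (f c) (g c) (hfg c)).choose
  map_one' := by
    obtain ⟨h1, h2⟩ := (h.exists_ghost (f 1) (g 1) (hfg 1)).choose_spec
    exact h.ghost_ext (by rw [h1, map_one, map_one]) (by rw [h2, map_one, map_one])
  map_zero' := by
    obtain ⟨h1, h2⟩ := (h.exists_ghost (f 0) (g 0) (hfg 0)).choose_spec
    exact h.ghost_ext (by rw [h1, map_zero, map_zero]) (by rw [h2, map_zero, map_zero])
  map_mul' c d := by
    obtain ⟨h1, h2⟩ := (h.exists_ghost (f (c * d)) (g (c * d)) (hfg _)).choose_spec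
    obtain ⟨c1, c2⟩ := (h.exists_ghost (f c) (g c) (hfg c)).choose_spec
    obtain ⟨d1, d2⟩ := (h.exists_ghost (f d) (g d) (hfg d)).choose_spec
    exact h.ghost_ext (by rw [h1, map_mul, map_mul, c1, d1]) (by rw [h2, map_mul, map_mul, c2, d2])
  map_add' c d := by
    obtain ⟨h1, h2⟩ := (h.exists_ghost (f (c + d)) (g (c + d)) (hfg _)).choose_spec
    obtain ⟨c1, c2⟩ := (h.exists_ghost (f c) (g c) (hfg c)).choose_spec
    obtain ⟨d1, d2⟩ := (h.exists_ghost (f d) (g d) (hfg d)).choose_spec
    exact h.ghost_ext (by rw [h1, map_add, map_add, c1, d1]) (by rw [h2, map_add, map_add, c2, d2])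

theorem res_w2Lift (c : C) : res p A (h.w2Lift f g hfg c) = f c :=
  (h.exists_ghost (f c) (g c) (hfg c)).choose_spec.1

theorem ghost_w2Lift (c : C) : h.ghost (h.w2Lift f g hfg c) = g c :=
  (h.exists_ghost (f c) (g c) (hfg c)).choose_spec.2

end lift

end IsPFlat

/-! ### The base `W₂(k)` -/

section Perfect

variable {k : Type u} [CommRing k] [CharP k p] [PerfectRing k p]

theorem ker_res_p {x : W2 p k} (hx : res p k x = 0) : ∃ c : W2 p k, x = (p : W2 p k) * c := by
  refine ⟨mk2 p ((frobeniusEquiv k p).symm (x.coeff 1)) 0, ?_⟩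
  rw [p_mul (CharP.cast_eq_zero k p), res_mk2, frobeniusEquiv_symm_pow_p k p]
  exact eq_V1_of_res_eq_zero hx

theorem isPFlat_res : IsPFlat p (res p k) where
  surj := res_surjective
  ker b hb := ker_res_p hb
  tors c := by
    rw [p_mul (CharP.cast_eq_zero k p), ← V1_zero, V1_injective.eq_iff, frobenius_inj_iff]
  map_p := CharP.cast_eq_zero k p
where
  frobenius_inj_iff {a : k} : a ^ p = 0 ↔ a = 0 :=
    ⟨fun e => (frobeniusEquiv k p).injective (by rwa [map_zero]),
      fun e => by rw [e, zero_pow hp.out.ne_zero]⟩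

theorem ghost_res_eq_sigma (x : W2 p k) :
    (isPFlat_res (p := p) (k := k)).ghost x = sigma p k x := by
  have h := isPFlat_res (p := p) (k := k)
  set a := x.coeff 0
  obtain ⟨b, hb⟩ : ∃ b, b ^ p = x.coeff 1 :=
    ⟨(frobeniusEquiv k p).symm (x.coeff 1), frobeniusEquiv_symm_pow_p k p _⟩
  have hta : ∀ c : k, res p k (WittVector.truncate 2 (WittVector.teichmuller p c)) = c := fun c => by
    rw [res_truncate, WittVector.teichmuller_coeff_zero]
  -- `x = [a] + p [b]`
  have hx : x = WittVector.truncate 2 (WittVector.teichmuller p a) +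
      (p : W2 p k) * WittVector.truncate 2 (WittVector.teichmuller p b) := by
    rw [p_mul (CharP.cast_eq_zero k p), hta, hb]
    obtain ⟨Z, hZ⟩ := exists_coeff_zero (p := p) (x.coeff 1)
    rw [← hZ, V1_eq_truncate, ← map_add]
    refine ext2 ?_ ?_ <;> rw [WittVector.coeff_truncate, WittVector.coeff_add_of_disjoint _ _ _ fun n => ?_]
    · simp [a, WittVector.teichmuller_coeff_zero, WittVector.verschiebung_coeff_zero]
    · cases n with
      | zero => exact Or.inr (WittVector.verschiebung_coeff_zero Z)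
      | succ n => exact Or.inl (WittVector.teichmuller_coeff_pos p a (n + 1) n.succ_pos)
    · simp [hZ, WittVector.teichmuller_coeff_pos, WittVector.verschiebung_coeff_succ Z 0]
    · cases n with
      | zero => exact Or.inr (WittVector.verschiebung_coeff_zero Z)
      | succ n => exact Or.inl (WittVector.teichmuller_coeff_pos p a (n + 1) n.succ_pos)
  have hσ : ∀ c : k, sigma p k (WittVector.truncate 2 (WittVector.teichmuller p c)) =
      WittVector.truncate 2 (WittVector.teichmuller p c) ^ p := fun c => by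
    rw [← map_pow, ← map_pow (WittVector.teichmuller p)]
    refine TruncatedWittVector.ext fun i => ?_
    rw [sigma, WittGrp.coeff_frob, WittVector.coeff_truncate, WittVector.coeff_truncate]
    obtain ⟨i, hi⟩ := i
    cases i with
    | zero => simp [-map_pow, WittVector.teichmuller_coeff_zero]
    | succ i => simp [-map_pow, WittVector.teichmuller_coeff_pos, zero_pow hp.out.ne_zero]
  have hg : ∀ c : k, h.ghost (WittVector.truncate 2 (WittVector.teichmuller p c)) =
      WittVector.truncate 2 (WittVector.teichmuller p c) ^ p := fun c => by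
    rw [h.ghost_eq _ ((hta c).trans (by rw [WittVector.coeff_truncate]; simp [WittVector.teichmuller_coeff_zero]))]
    rw [WittVector.coeff_truncate]
    simp [WittVector.teichmuller_coeff_pos]
  rw [hx, map_add, map_add, map_mul, map_mul, map_natCast, map_natCast, hg, hg, hσ, hσ]

end Perfect

/-! ### Flatness and ideals over `W₂(k)`, `k` a perfect field -/

section Field

variable {k : Type u} [Field k] [CharP k p] [PerfectRing k p]

theorem isUnit_or_mem_span (x : W2 p k) : IsUnit x ∨ x ∈ Ideal.span {(p : W2 p k)} := by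
  by_cases hx : res p k x = 0
  · exact Or.inr (Ideal.mem_span_singleton.2 (ker_res_p hx))
  · exact Or.inl (isUnit_of_isUnit_res (CharP.cast_eq_zero k p) (Ne.isUnit hx))

theorem ideal_cases (I : Ideal (W2 p k)) :
    I = ⊥ ∨ I = Ideal.span {(p : W2 p k)} ∨ I = ⊤ := by
  by_cases htop : I = ⊤
  · exact Or.inr (Or.inr htop)
  by_cases hbot : I = ⊥
  · exact Or.inl hbot
  refine Or.inr (Or.inl (le_antisymm (fun x hx => ?_) ?_))
  · exact (isUnit_or_mem_span x).resolve_left fun hu => htop (Ideal.eq_top_of_isUnit_mem I hx hu)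
  · obtain ⟨x, hx, hx0⟩ := Submodule.exists_mem_ne_zero_of_ne_bot hbot
    obtain ⟨c, rfl⟩ := Ideal.mem_span_singleton.1
      ((isUnit_or_mem_span x).resolve_left fun hu => htop (Ideal.eq_top_of_isUnit_mem I hx hu))
    rcases isUnit_or_mem_span c with hc | hc
    · rw [Ideal.span_le, Set.singleton_subset_iff]
      exact (Ideal.mul_unit_mem_iff_mem I hc).1 hx
    · obtain ⟨d, rfl⟩ := Ideal.mem_span_singleton.1 hc
      exact absurd (by rw [← mul_assoc, p_sq (CharP.cast_eq_zero k p), zero_mul]) hx0

instance isNoetherianRing_W2 : IsNoetherianRing (W2 p k) := by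
  rw [isNoetherianRing_iff_ideal_fg]
  intro I
  rcases ideal_cases I with rfl | rfl | rfl
  · exact Submodule.fg_bot
  · exact Submodule.fg_span_singleton _
  · exact ⟨{1}, by simp⟩

open TensorProduct in
theorem flat_iff (M : Type v) [AddCommGroup M] [Module (W2 p k) M] :
    Module.Flat (W2 p k) M ↔
      ∀ m : M, (p : W2 p k) • m = 0 → ∃ m' : M, m = (p : W2 p k) • m' := by
  constructor
  · intro hM m hm
    let L : W2 p k →ₗ[W2 p k] W2 p k := LinearMap.mulLeft _ (p : W2 p k)
    have hex : Function.Exact L L := fun y => by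
      refine ⟨fun hy => ?_, ?_⟩
      · obtain ⟨c, rfl⟩ := ker_res_p ((isPFlat_res (p := p) (k := k)).tors y |>.1 hy)
        exact ⟨c, rfl⟩
      · rintro ⟨c, rfl⟩
        change (p : W2 p k) * (p * c) = 0
        rw [← mul_assoc, p_sq (CharP.cast_eq_zero k p), zero_mul]
    have hL : ∀ z : M ⊗[W2 p k] W2 p k, TensorProduct.rid _ M (L.lTensor M z) =
        (p : W2 p k) • TensorProduct.rid _ M z := fun z => by
      induction z using TensorProduct.induction_on with
      | zero => simp
      | tmul a b => simp [L, mul_smul]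
      | add a b ha hb => simp only [map_add, smul_add, ha, hb]
    obtain ⟨y, hy⟩ := ((Module.Flat.lTensor_exact M hex) ((TensorProduct.rid _ M).symm m)).1
      ((TensorProduct.rid _ M).injective (by rw [hL, LinearEquiv.apply_symm_apply, hm, map_zero]))
    exact ⟨TensorProduct.rid _ M y, by rw [← hL, hy, LinearEquiv.apply_symm_apply]⟩
  · intro H
    rw [Module.Flat.iff_rTensor_injective']
    intro I
    rcases ideal_cases I with rfl | rfl | rfl
    · intro a b _
      have : ∀ z : (⊥ : Ideal (W2 p k)) ⊗[W2 p k] M, z = 0 := fun z => by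
        induction z using TensorProduct.induction_on with
        | zero => rfl
        | tmul a b => rw [Subsingleton.elim a 0, zero_tmul]
        | add a b ha hb => rw [ha, hb, add_zero]
      rw [this a, this b]
    · set e : Ideal.span {(p : W2 p k)} := ⟨p, Ideal.mem_span_singleton_self _⟩
      have hgen : ∀ z : (Ideal.span {(p : W2 p k)} : Ideal (W2 p k)) ⊗[W2 p k] M,
          ∃ m, z = e ⊗ₜ m := fun z => by
        induction z using TensorProduct.induction_on with
        | zero => exact ⟨0, (tmul_zero _ _).symm⟩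
        | tmul a b =>
          obtain ⟨c, hc⟩ := Ideal.mem_span_singleton.1 a.2
          refine ⟨c • b, ?_⟩
          rw [tmul_smul, smul_tmul']
          congr 1
          exact Subtype.ext (hc.trans (mul_comm _ _))
        | add a b ha hb =>
          obtain ⟨m, rfl⟩ := ha; obtain ⟨m', rfl⟩ := hb; exact ⟨m + m', (tmul_add _ _ _).symm⟩
      rw [injective_iff_map_eq_zero]
      intro z hz
      obtain ⟨m, rfl⟩ := hgen z
      have hm : (p : W2 p k) • m = 0 := by
        have := congrArg (TensorProduct.lid (W2 p k) M) hz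
        simpa [e] using this
      obtain ⟨m', rfl⟩ := H m hm
      rw [tmul_smul, smul_tmul']
      have : (p : W2 p k) • e = 0 := Subtype.ext (p_sq (CharP.cast_eq_zero k p))
      rw [this, zero_tmul]
    · exact (LinearEquiv.rTensor M (Submodule.topEquiv (R := W2 p k) (M := W2 p k))).injective

variable {A : Type v} [CommRing A] [Algebra k A] {B : Type v} [CommRing B]
  {ι : W2 p k →+* B} {π : B →+* A}

omit [PerfectRing k p] in
theorem cast_p_algebra (A : Type v) [CommRing A] [Algebra k A] : (p : A) = 0 := by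
  rw [← map_natCast (algebraMap k A), CharP.cast_eq_zero k p, map_zero]

theorem ker_res_eq : RingHom.ker (res p k) = Ideal.span {(p : W2 p k)} := by
  refine le_antisymm (fun x hx => Ideal.mem_span_singleton.2 (ker_res_p hx)) ?_
  rw [Ideal.span_le, Set.singleton_subset_iff]
  exact res_natCast (CharP.cast_eq_zero k p)

theorem isPFlat_of_isLift (h : IsLift p k A B ι π) : IsPFlat p π := by
  have hk : ∀ b, π b = 0 ↔ ∃ c, b = (p : B) * c := fun b => by
    rw [← RingHom.mem_ker, h.ker_eq, ker_res_eq, Ideal.map_span, Set.image_singleton, map_natCast,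
      Ideal.mem_span_singleton]
    rfl
  have hfl := h.flat
  algebraize [ι]
  have hsmul : ∀ b : B, (p : W2 p k) • b = (p : B) * b := fun b => by
    rw [Algebra.smul_def, map_natCast]
  refine ⟨h.surj, fun b hb => (hk b).1 hb, fun c => ⟨fun hc => ?_, fun hc => ?_⟩, cast_p_algebra (p := p) (k := k) A⟩
  · obtain ⟨c', hc'⟩ := (flat_iff (p := p) (k := k) B).1 inferInstance c (by rw [hsmul, hc])
    exact (hk c).2 ⟨c', by rw [hc', hsmul]⟩
  · obtain ⟨c', rfl⟩ := (hk c).1 hc
    rw [← mul_assoc, ← map_natCast ι, ← map_mul, p_sq (CharP.cast_eq_zero k p), map_zero, zero_mul]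

theorem isLift_of_isPFlat (h : IsPFlat p π) (hc : π.comp ι = (algebraMap k A).comp (res p k)) :
    IsLift p k A B ι π := by
  refine ⟨?_, h.surj, ?_, hc⟩
  · algebraize [ι]
    change Module.Flat (W2 p k) B
    refine (flat_iff (p := p) (k := k) B).2 fun m hm => ?_
    rw [Algebra.smul_def, map_natCast, h.tors] at hm
    obtain ⟨c, hc'⟩ := h.ker m hm
    exact ⟨c, by rw [Algebra.smul_def, map_natCast, hc']⟩
  · ext b
    rw [RingHom.mem_ker, h.ker_iff, ker_res_eq, Ideal.map_span, Set.image_singleton, map_natCast,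
      Ideal.mem_span_singleton]
    rfl

theorem ghost_truncMap (h : IsLift p k A B ι π) (x : W2 p k) :
    (isPFlat_of_isLift h).ghost (WittGrp.truncMap p 2 (algebraMap k A) x) = ι (sigma p k x) := by
  have hc : ∀ y, π (ι y) = algebraMap k A (res p k y) := fun y => RingHom.congr_fun h.comm y
  have hk := isPFlat_res (p := p) (k := k)
  rw [← ghost_res_eq_sigma, hk.ghost_eq x (hk.pi_sec _),
    (isPFlat_of_isLift h).ghost_eq _ (b := ι (hk.sec (x.coeff 0)))
      (by rw [hc, hk.pi_sec, WittGrp.coeff_truncMap]), map_add, map_pow]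
  congr 1
  rw [WittGrp.coeff_truncMap, ← hk.pi_sec (x.coeff 1), ← hc, (isPFlat_of_isLift h).eps_pi,
    hk.eps_pi, map_mul, map_natCast]

end Field

end Groth.FrobLCI.W2
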