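import Groth.Agent.FrobLCI.W2Base
import Mathlib.RingTheory.Ideal.Quotient.Operations
import Mathlib.RingTheory.Flat.FaithfullyFlat.Algebra
import Mathlib.LinearAlgebra.Matrix.ToLin
import Mathlib.LinearAlgebra.TensorProduct.Pi

/-!
Liftings over `W₂(k)` from functionals on the kernel of a presentation.
-/

set_option autoImplicit false
set_option linter.unusedSectionVars false

universe u v w

namespace Groth.FrobLCI.W2

open FrobAlg TensorProduct

variable {p : ℕ} [hp : Fact p.Prime]

section Functional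

variable {A : Type v} [CommRing A] {P : Type w} [CommRing P] (q : P →+* A)

/-- The ideal cut out by a semilinear functional on the kernel. -/
def functionalIdeal (χ : RingHom.ker q →+ A) (hχ : ∀ (c : P) (x : RingHom.ker q), χ (c • x) = q c * χ x) :
    Ideal P where
  carrier := {x | ∃ h : x ∈ RingHom.ker q, χ ⟨x, h⟩ = 0}
  zero_mem' := ⟨zero_mem _, map_zero χ⟩
  add_mem' := by
    rintro a b ⟨ha, ha'⟩ ⟨hb, hb'⟩
    refine ⟨add_mem ha hb, ?_⟩
    have : (⟨a + b, add_mem ha hb⟩ : RingHom.ker q) = ⟨a, ha⟩ + ⟨b, hb⟩ := rfl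
    rw [this, map_add, ha', hb', add_zero]
  smul_mem' := by
    rintro c x ⟨hx, hx'⟩
    refine ⟨Ideal.mul_mem_left _ c hx, ?_⟩
    have : (⟨c * x, Ideal.mul_mem_left _ c hx⟩ : RingHom.ker q) = c • ⟨x, hx⟩ := rfl
    exact this ▸ by rw [hχ, hx', mul_zero]

theorem exists_isPFlat_of_functional (hsurj : Function.Surjective q) (hA : (p : A) = 0)
    (χ : RingHom.ker q →+ A) (hχ : ∀ (c : P) (x : RingHom.ker q), χ (c • x) = q c * χ x)
    (hone : ∀ h : (p : P) ∈ RingHom.ker q, χ ⟨p, h⟩ = 1) :
    ∃ (π : P ⧸ functionalIdeal q χ hχ →+* A),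
      π.comp (Ideal.Quotient.mk _) = q ∧ IsPFlat p π := by
  refine ⟨Ideal.Quotient.lift _ q fun x hx => RingHom.mem_ker.1 hx.1, RingHom.ext fun x => rfl,
    ?_, ?_, ?_, hA⟩
  · intro a
    obtain ⟨x, rfl⟩ := hsurj a
    exact ⟨Ideal.Quotient.mk _ x, Ideal.Quotient.lift_mk _ _ _⟩
  · intro b hb
    obtain ⟨x, rfl⟩ := Ideal.Quotient.mk_surjective b
    rw [Ideal.Quotient.lift_mk] at hb
    obtain ⟨c, hc⟩ := hsurj (χ ⟨x, hb⟩)
    have hp' : (p : P) ∈ RingHom.ker q := by rw [RingHom.mem_ker, map_natCast, hA]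
    refine ⟨Ideal.Quotient.mk _ c, ?_⟩
    rw [← map_natCast (Ideal.Quotient.mk _), ← map_mul, Ideal.Quotient.eq]
    refine ⟨sub_mem hb (Ideal.mul_mem_right _ _ hp'), ?_⟩
    have : (⟨x - p * c, sub_mem hb (Ideal.mul_mem_right _ _ hp')⟩ : RingHom.ker q) =
        ⟨x, hb⟩ - c • ⟨(p : P), hp'⟩ :=
      Subtype.ext (by change x - p * c = x - c * p; rw [mul_comm])
    rw [this, map_sub, hχ, hone, mul_one, hc, sub_self]
  · intro b
    obtain ⟨c, rfl⟩ := Ideal.Quotient.mk_surjective b
    have hp' : (p : P) ∈ RingHom.ker q := by rw [RingHom.mem_ker, map_natCast, hA]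
    rw [Ideal.Quotient.lift_mk, ← map_natCast (Ideal.Quotient.mk _), ← map_mul,
      Ideal.Quotient.eq_zero_iff_mem]
    have : ∀ h, (⟨(p : P) * c, h⟩ : RingHom.ker q) = c • ⟨(p : P), hp'⟩ := fun h =>
      Subtype.ext (mul_comm _ _)
    constructor
    · rintro ⟨h, h'⟩
      rwa [this h, hχ, hone, mul_one] at h'
    · intro h
      exact ⟨Ideal.mul_mem_right _ _ hp', by rw [this, hχ, h, zero_mul]⟩

end Functional

section Psi

variable {A : Type v} [CommRing A] {P : Type w} [CommRing P] (q : P →+* A)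
  {B : Type*} [CommRing B] {B' : Type*} [CommRing B'] {π : B' →+* B} (h : IsPFlat p π)
  (f : A →+* B) (g : P →+* B') (hg : ∀ x, π (g x) = f (q x))

include hg h

/-- The functional induced by a lifting of a map. -/
noncomputable def psi : RingHom.ker q →+ B where
  toFun x := (h.exists_eps (b := g (x : P)) (by rw [hg, RingHom.mem_ker.1 x.2, map_zero])).choose
  map_zero' := by
    have hz : ∀ x : RingHom.ker q, π (g (x : P)) = 0 := fun x => by
      rw [hg, RingHom.mem_ker.1 x.2, map_zero]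
    apply h.eps_injective
    rw [(h.exists_eps (hz 0)).choose_spec, map_zero]
    simp
  map_add' x y := by
    have hz : ∀ x : RingHom.ker q, π (g (x : P)) = 0 := fun x => by
      rw [hg, RingHom.mem_ker.1 x.2, map_zero]
    apply h.eps_injective
    rw [map_add, (h.exists_eps (hz (x + y))).choose_spec, (h.exists_eps (hz x)).choose_spec,
      (h.exists_eps (hz y)).choose_spec, Submodule.coe_add, map_add]

theorem eps_psi (x : RingHom.ker q) : h.eps (psi q h f g hg x) = g (x : P) :=
  (h.exists_eps (b := g (x : P)) (by rw [hg, RingHom.mem_ker.1 x.2, map_zero])).choose_spec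

theorem psi_smul (c : P) (x : RingHom.ker q) :
    psi q h f g hg (c • x) = f (q c) * psi q h f g hg x := by
  apply h.eps_injective
  rw [eps_psi, ← hg, ← h.mul_eps, eps_psi]
  exact map_mul g c x

theorem psi_p (hp' : (p : P) ∈ RingHom.ker q) : psi q h f g hg ⟨p, hp'⟩ = 1 := by
  apply h.eps_injective
  rw [eps_psi, h.eps_one, map_natCast]

end Psi

variable {k : Type u} [Field k] [CharP k p] [PerfectRing k p]

theorem isW2Liftable_of_functional {A : Type v} [CommRing A] [Algebra k A] {P : Type v} [CommRing P]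
    (ι : W2 p k →+* P) (q : P →+* A) (hcomm : q.comp ι = (algebraMap k A).comp (res p k))
    (hsurj : Function.Surjective q) (χ : RingHom.ker q →+ A)
    (hχ : ∀ (c : P) (x : RingHom.ker q), χ (c • x) = q c * χ x)
    (hone : ∀ h : (p : P) ∈ RingHom.ker q, χ ⟨p, h⟩ = 1) :
    IsW2Liftable p k A := by
  obtain ⟨π, hπ, h⟩ := exists_isPFlat_of_functional q hsurj (cast_p_algebra (p := p) (k := k) A) χ hχ hone
  refine ⟨_, inferInstance, (Ideal.Quotient.mk _).comp ι, π, isLift_of_isPFlat h ?_⟩
  rw [← RingHom.comp_assoc, hπ, hcomm]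

/-- Descent of solvability of a linear system along a faithfully flat map. -/
theorem exists_solution_of_faithfullyFlat {A B : Type*} [CommRing A] [CommRing B] [Algebra A B]
    [Module.FaithfullyFlat A B] {ι κ : Type*} [Fintype ι] (M : κ → ι → A) (w : κ → A) [Fintype κ]
    (v : ι → B) (hv : ∀ j, ∑ i, algebraMap A B (M j i) * v i = algebraMap A B (w j)) :
    ∃ v₀ : ι → A, ∀ j, ∑ i, M j i * v₀ i = w j := by
  classical
  let L : (ι → A) →ₗ[A] (κ → A) := Matrix.mulVecLin (Matrix.of M)
  have key : ((1 : B) ⊗ₜ[A] (Submodule.Quotient.mk w : (κ → A) ⧸ LinearMap.range L)) = 0 := by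
    let e : B ⊗[A] (κ → A) ≃ₗ[A] (κ → B) :=
      (TensorProduct.piRight A A B fun _ : κ => A).trans
        (LinearEquiv.piCongrRight fun _ : κ => TensorProduct.rid A B)
    have he : ∀ (b : B) (x : κ → A) j, e (b ⊗ₜ x) j = algebraMap A B (x j) * b := fun b x j => by
      simp [e, Algebra.smul_def]
    have hsum : (1 : B) ⊗ₜ[A] w = ∑ i, v i ⊗ₜ[A] L (Pi.single i 1) := by
      apply e.injective
      funext j
      rw [he, map_sum, Finset.sum_apply, mul_one]
      simp only [he]
      rw [← hv j]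
      refine Finset.sum_congr rfl fun i _ => ?_
      simp [L, Matrix.mulVec_single]
    have := congrArg (LinearMap.lTensor B (LinearMap.range L).mkQ) hsum
    rw [LinearMap.lTensor_tmul, map_sum] at this
    rw [show (Submodule.Quotient.mk w : (κ → A) ⧸ LinearMap.range L) = (LinearMap.range L).mkQ w from rfl,
      this]
    refine Finset.sum_eq_zero fun i _ => ?_
    rw [LinearMap.lTensor_tmul]
    have : (LinearMap.range L).mkQ (L (Pi.single i 1)) = 0 :=
      (Submodule.Quotient.mk_eq_zero _).2 (LinearMap.mem_range_self _ _)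
    rw [this, TensorProduct.tmul_zero]
  have := Module.FaithfullyFlat.tensorProduct_mk_injective (A := A) (B := B)
    ((κ → A) ⧸ LinearMap.range L) (a₁ := Submodule.Quotient.mk w) (a₂ := 0) (by simpa using key)
  obtain ⟨v₀, hv₀⟩ := (Submodule.Quotient.mk_eq_zero _).1 this
  exact ⟨v₀, fun j => by rw [← hv₀]; rfl⟩

end Groth.FrobLCI.W2
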