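import Groth.Agent.FrobLCI.W2Smooth
import Mathlib.RingTheory.Regular.RegularSequence
import Mathlib.Algebra.MvPolynomial.PDeriv

/-!
Liftings of Frobenius on presented algebras over `W₂(k)`.
-/

set_option autoImplicit false
set_option linter.unusedSectionVars false

universe u v w

namespace Groth.FrobLCI.W2

open MvPolynomial FrobAlg

variable {p : ℕ} [hp : Fact p.Prime]

section Regular

variable {P : Type u} [CommRing P] {P' : Type v} [CommRing P'] {φ : P' →+* P}

theorem sum_mul_mem_of_weaklyRegular (h : IsPFlat p φ) {m : ℕ} (f : Fin m → P) (f' : Fin m → P')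
    (hf : ∀ i, φ (f' i) = f i) (hreg : RingTheory.Sequence.IsWeaklyRegular P (List.ofFn f))
    (a : Fin m → P') (ha : ∑ i, φ (a i) * f i = 0) :
    ∑ i, a i * f' i ∈ Ideal.span {(p : P')} * Ideal.span (Set.range f') := by
  classical
  suffices H : ∀ k ≤ m, ∀ a : Fin m → P', (∀ i : Fin m, k ≤ (i : ℕ) → φ (a i) = 0) →
      ∑ i, φ (a i) * f i = 0 → ∑ i, a i * f' i ∈ Ideal.span {(p : P')} * Ideal.span (Set.range f') from
    H m le_rfl a (fun i hi => absurd i.isLt (not_lt.2 hi)) ha
  intro k
  induction k with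
  | zero =>
    intro _ a ha0 _
    refine Ideal.sum_mem _ fun i _ => ?_
    obtain ⟨c, hc⟩ := h.ker _ (ha0 i (Nat.zero_le _))
    rw [hc, mul_assoc]
    exact Ideal.mul_mem_mul (Ideal.mem_span_singleton_self _)
      (Ideal.mul_mem_left _ _ (Ideal.subset_span ⟨i, rfl⟩))
  | succ k ih =>
    intro hk a ha0 ha
    let k₀ : Fin m := ⟨k, hk⟩
    let g : Fin m → P := fun i => if (i : ℕ) < k then f i else 0
    have hk' : k < (List.ofFn f).length := by rw [List.length_ofFn]; exact hk
    have hle : Ideal.ofList ((List.ofFn f).take k) ≤ Ideal.span (Set.range g) := by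
      refine Ideal.span_le.2 fun x hx => ?_
      obtain ⟨j, hj, rfl⟩ := List.getElem_of_mem hx
      rw [List.length_take, List.length_ofFn] at hj
      refine Ideal.subset_span ⟨⟨j, by omega⟩, ?_⟩
      simp only [g]
      rw [if_pos (by omega), List.getElem_take, List.getElem_ofFn]
    have hge : Ideal.span (Set.range g) ≤ Ideal.ofList ((List.ofFn f).take k) := by
      refine Ideal.span_le.2 ?_
      rintro _ ⟨i, rfl⟩
      simp only [g]
      split_ifs with hi
      · refine Ideal.subset_span ?_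
        change f i ∈ (List.ofFn f).take k
        rw [List.mem_iff_getElem]
        refine ⟨i, by rw [List.length_take, List.length_ofFn]; omega, ?_⟩
        rw [List.getElem_take, List.getElem_ofFn]
      · exact zero_mem _
    have hmem : f k₀ * φ (a k₀) ∈ Ideal.ofList ((List.ofFn f).take k) := by
      have hz : φ (a k₀) * f k₀ + ∑ i ∈ Finset.univ.erase k₀, φ (a i) * f i = 0 := by
        exact (Finset.add_sum_erase _ (fun i => φ (a i) * f i) (Finset.mem_univ k₀)).trans ha
      rw [mul_comm, eq_neg_of_add_eq_zero_left hz]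
      refine neg_mem (Ideal.sum_mem _ fun i hi => ?_)
      by_cases hik : (i : ℕ) < k
      · refine Ideal.mul_mem_left _ _ (hge (Ideal.subset_span ⟨i, ?_⟩))
        simp [g, hik]
      · have hne : (i : ℕ) ≠ k := fun e => (Finset.mem_erase.1 hi).1 (Fin.ext e)
        rw [ha0 i (by omega), zero_mul]
        exact zero_mem _
    have hak : φ (a k₀) ∈ Ideal.ofList ((List.ofFn f).take k) := by
      have htop : (Ideal.ofList ((List.ofFn f).take k) • ⊤ : Submodule P P) =
          Ideal.ofList ((List.ofFn f).take k) := by rw [smul_eq_mul, Ideal.mul_top]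
      have hregk := hreg.regular_mod_prev k hk'
      rw [List.getElem_ofFn] at hregk
      rw [← htop]
      rw [← htop] at hmem
      refine (Submodule.Quotient.mk_eq_zero _).1 (hregk ?_)
      change f k₀ • Submodule.Quotient.mk (φ (a k₀)) = f k₀ • 0
      rw [smul_zero, ← Submodule.Quotient.mk_smul, Submodule.Quotient.mk_eq_zero]
      exact hmem
    obtain ⟨b, hb⟩ := Ideal.mem_span_range_iff_exists_fun.1 (hle hak)
    choose b' hb' using fun i : Fin m => h.surj (if (i : ℕ) < k then b i else 0)
    have hφb : ∑ i, φ (b' i) * f i = φ (a k₀) := by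
      rw [← hb]
      exact Finset.sum_congr rfl fun i _ => by rw [hb']; simp only [g]; split_ifs <;> simp
    let a₂ : Fin m → P' := fun i => a i + b' i * f' k₀ - if i = k₀ then ∑ j, b' j * f' j else 0
    have h2 : ∑ i, a₂ i * f' i = ∑ i, a i * f' i := by
      simp only [a₂, sub_mul, add_mul, Finset.sum_sub_distrib, Finset.sum_add_distrib, ite_mul, zero_mul,
        Finset.sum_ite_eq', Finset.mem_univ, if_true, Finset.sum_mul]
      rw [show ∑ i, b' i * f' k₀ * f' i = ∑ i, b' i * f' i * f' k₀ from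
        Finset.sum_congr rfl fun i _ => mul_right_comm _ _ _, add_sub_cancel_right]
    rw [← h2]
    refine ih (Nat.le_of_succ_le hk) a₂ (fun i hi => ?_) ?_
    · simp only [a₂, map_sub, map_add, map_mul]
      rw [hb' i, if_neg (not_lt.2 hi), zero_mul, add_zero]
      split_ifs with hik
      · subst hik
        rw [map_sum]
        simp only [map_mul, hf]
        rw [hφb, sub_self]
      · have hne : (i : ℕ) ≠ k := fun e => hik (Fin.ext e)
        rw [map_zero, sub_zero, ha0 i (by omega)]
    · have h2' := congrArg φ h2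
      simp only [map_sum, map_mul, hf] at h2'
      rw [h2', ha]

theorem isPFlat_quotient_of_weaklyRegular (h : IsPFlat p φ) {m : ℕ} (f : Fin m → P) (f' : Fin m → P')
    (hf : ∀ i, φ (f' i) = f i) (hreg : RingTheory.Sequence.IsWeaklyRegular P (List.ofFn f)) :
    ∃ π : P' ⧸ Ideal.span (Set.range f') →+* P ⧸ Ideal.span (Set.range f),
      π.comp (Ideal.Quotient.mk _) = (Ideal.Quotient.mk _).comp φ ∧ IsPFlat p π := by
  have hmap : (Ideal.span (Set.range f')).map φ = Ideal.span (Set.range f) := by
    rw [Ideal.map_span, ← Set.range_comp]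
    exact congrArg _ (congrArg _ (funext hf))
  let π : P' ⧸ Ideal.span (Set.range f') →+* P ⧸ Ideal.span (Set.range f) :=
    Ideal.quotientMap _ φ (hmap ▸ Ideal.le_comap_map)
  have hπ : ∀ x, π (Ideal.Quotient.mk _ x) = Ideal.Quotient.mk _ (φ x) := fun x => Ideal.quotientMap_mk
  have hPA : (p : P ⧸ Ideal.span (Set.range f)) = 0 := by
    rw [← map_natCast (Ideal.Quotient.mk _), h.map_p, map_zero]
  refine ⟨π, RingHom.ext hπ, fun a => ?_, fun b hb => ?_, fun c => ⟨fun hc => ?_, fun hc => ?_⟩, hPA⟩
  · obtain ⟨y, rfl⟩ := Ideal.Quotient.mk_surjective a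
    obtain ⟨x, rfl⟩ := h.surj y
    exact ⟨_, hπ x⟩
  · obtain ⟨x, rfl⟩ := Ideal.Quotient.mk_surjective b
    rw [hπ, Ideal.Quotient.eq_zero_iff_mem, ← hmap, Ideal.mem_map_iff_of_surjective _ h.surj] at hb
    obtain ⟨y, hy, hyx⟩ := hb
    obtain ⟨c, hc⟩ := h.ker (x - y) (by rw [map_sub, hyx, sub_self])
    refine ⟨Ideal.Quotient.mk _ c, ?_⟩
    rw [← map_natCast (Ideal.Quotient.mk _), ← map_mul, ← hc, Ideal.Quotient.eq, sub_sub_cancel]
    exact hy
  · obtain ⟨z, rfl⟩ := Ideal.Quotient.mk_surjective c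
    rw [← map_natCast (Ideal.Quotient.mk _), ← map_mul, Ideal.Quotient.eq_zero_iff_mem,
      Ideal.mem_span_range_iff_exists_fun] at hc
    obtain ⟨a, ha⟩ := hc
    have := sum_mul_mem_of_weaklyRegular h f f' hf hreg a (by
      have := congrArg φ ha
      simpa [map_sum, hf, h.map_p] using this)
    rw [ha, Ideal.mem_span_singleton_mul] at this
    obtain ⟨j, hj, hpj⟩ := this
    rw [hπ, ← h.mul_eq_mul_iff.1 hpj, ← hπ, Ideal.Quotient.eq_zero_iff_mem.2 hj, map_zero]
  · obtain ⟨z, rfl⟩ := Ideal.Quotient.mk_surjective c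
    rw [hπ, Ideal.Quotient.eq_zero_iff_mem, ← hmap, Ideal.mem_map_iff_of_surjective _ h.surj] at hc
    obtain ⟨y, hy, hyx⟩ := hc
    rw [← map_natCast (Ideal.Quotient.mk _), ← map_mul, h.mul_eq_mul_iff.2 hyx.symm,
      Ideal.Quotient.eq_zero_iff_mem]
    exact Ideal.mul_mem_left _ _ hy

end Regular

theorem eval₂Hom_add_p_mul {R S : Type*} [CommRing R] [CommRing S] {ι : Type*} [Fintype ι]
    (hS : (p : S) * p = 0) (c : R →+* S) (a h : ι → S) (F : MvPolynomial ι R) :
    eval₂Hom c (fun j => a j + (p : S) * h j) F =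
      eval₂Hom c a F + (p : S) * ∑ j, eval₂Hom c a (pderiv j F) * h j := by
  classical
  induction F using MvPolynomial.induction_on with
  | C r => simp
  | add x y hx hy =>
    simp only [map_add, hx, hy, add_mul, Finset.sum_add_distrib]
    ring
  | mul_X F i ih =>
    have : ∑ j, eval₂Hom c a (pderiv j (F * X i)) * h j =
        (∑ j, eval₂Hom c a (pderiv j F) * h j) * a i + eval₂Hom c a F * h i := by
      rw [Finset.sum_mul]
      have hj : ∀ j, eval₂Hom c a (pderiv j (F * X i)) * h j =
          eval₂Hom c a (pderiv j F) * h j * a i + (if i = j then eval₂Hom c a F * h j else 0) := fun j => by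
        rw [Derivation.leibniz, pderiv_X, smul_eq_mul, smul_eq_mul]
        by_cases hij : i = j
        · subst hij; simp; ring
        · simp [hij]; ring
      rw [Finset.sum_congr rfl fun j _ => hj j, Finset.sum_add_distrib, Finset.sum_ite_eq,
        if_pos (Finset.mem_univ _)]
    rw [map_mul, map_mul, eval₂Hom_X', eval₂Hom_X', ih, this]
    linear_combination ((∑ j, eval₂Hom c a (pderiv j F) * h j) * h i) * hS

section Frob

variable {k : Type u} [Field k] [CharP k p] [PerfectRing k p] {σ : Type} [Fintype σ]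

/-- The lift of Frobenius of the polynomial ring with `x_j ↦ x_j^p + p h_j`. -/
noncomputable def polyFrobH (h : σ → MvPolynomial σ (W2 p k)) :
    MvPolynomial σ (W2 p k) →+* MvPolynomial σ (W2 p k) :=
  eval₂Hom (C.comp (sigma p k)) fun j => X j ^ p + (p : MvPolynomial σ (W2 p k)) * h j

omit [Fintype σ] in
theorem res_sigma (w : W2 p k) : res p k (sigma p k w) = res p k w ^ p := by
  rw [res_apply (p := p) (R := k) (sigma p k w), res_apply (p := p) (R := k) w]
  exact WittGrp.coeff_frob (p := p) 2 (CharP.cast_eq_zero k p) w 0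

omit [Fintype σ] in
theorem map_res_polyFrobH (h : σ → MvPolynomial σ (W2 p k)) (F : MvPolynomial σ (W2 p k)) :
    map (res p k) (polyFrobH h F) = map (res p k) F ^ p := by
  induction F using MvPolynomial.induction_on with
  | C w =>
    rw [polyFrobH, eval₂Hom_C, RingHom.comp_apply, map_C, map_C, ← map_pow, res_sigma]
  | add x y hx hy =>
    have : CharP (MvPolynomial σ k) p := inferInstance
    rw [map_add, map_add, hx, hy, map_add, add_pow_char]
  | mul_X F i ih =>
    have hpk : (p : MvPolynomial σ k) = 0 := CharP.cast_eq_zero _ p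
    have hX : map (res p k) (polyFrobH h (X i)) = map (res p k) (X i) ^ p := by
      rw [polyFrobH, eval₂Hom_X', map_add, map_pow, map_mul, map_natCast, hpk, zero_mul, add_zero]
    rw [map_mul, map_mul, ih, hX, map_mul, mul_pow]

omit [Fintype σ] in
theorem isPFlat_mapRes : IsPFlat p (map (σ := σ) (res p k)) :=
  isPFlat_map (isPFlat_res (p := p) (k := k)) σ

omit [Fintype σ] in
theorem exists_polyFrobH_sub_pow (h : σ → MvPolynomial σ (W2 p k)) (F : MvPolynomial σ (W2 p k)) :
    ∃ c, polyFrobH h F - F ^ p = (p : MvPolynomial σ (W2 p k)) * c :=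
  isPFlat_mapRes.ker _ (by rw [map_sub, map_pow, map_res_polyFrobH, sub_self])

omit [Fintype σ] in
theorem polyFrob_eq : polyFrob p k σ = polyFrobH (fun _ => 0) := by
  refine ringHom_ext (fun r => ?_) (fun i => ?_)
  · rw [polyFrob, polyFrobH, eval₂Hom_C, eval₂Hom_C]
  · rw [polyFrob, polyFrobH, eval₂Hom_X', eval₂Hom_X', mul_zero, add_zero]

theorem polyFrobH_eq (h : σ → MvPolynomial σ (W2 p k)) (F : MvPolynomial σ (W2 p k)) :
    polyFrobH h F = polyFrob p k σ F + (p : MvPolynomial σ (W2 p k)) * ∑ j, pderiv j F ^ p * h j := by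
  have hpp : (p : MvPolynomial σ (W2 p k)) * p = 0 := isPFlat_mapRes.pp
  have := eval₂Hom_add_p_mul hpp (C.comp (sigma p k)) (fun j : σ => X j ^ p) h F
  refine this.trans ?_
  refine congrArg (fun z => polyFrob p k σ F + z) ?_
  rw [Finset.mul_sum, Finset.mul_sum]
  refine Finset.sum_congr rfl fun j _ => ?_
  obtain ⟨c, hc⟩ := exists_polyFrobH_sub_pow (fun _ => 0) (pderiv j F)
  rw [← polyFrob_eq] at hc
  change (p : MvPolynomial σ (W2 p k)) * (polyFrob p k σ (pderiv j F) * h j) = _
  linear_combination ((p : MvPolynomial σ (W2 p k)) * h j) * hc + (c * h j) * hpp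

/-- The criterion: an endomorphism `polyFrobH h` preserves a saturated ideal iff the residues vanish. -/
theorem polyFrobH_mem_iff {m : ℕ} (f : Fin m → MvPolynomial σ (W2 p k))
    (hsat : ∀ w, (p : MvPolynomial σ (W2 p k)) * w ∈ Ideal.span (Set.range f) →
      (p : MvPolynomial σ (W2 p k)) * w ∈
        Ideal.span {(p : MvPolynomial σ (W2 p k))} * Ideal.span (Set.range f))
    (h : σ → MvPolynomial σ (W2 p k)) (i : Fin m) :
    polyFrobH (fun j => -h j) (f i) ∈ Ideal.span (Set.range f) ↔
      polyFrob p k σ (f i) - f i ^ p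
        - (p : MvPolynomial σ (W2 p k)) * ∑ j, pderiv j (f i) ^ p * h j
        ∈ Ideal.span {(p : MvPolynomial σ (W2 p k))} * Ideal.span (Set.range f) := by
  have heq : polyFrob p k σ (f i) - f i ^ p
      - (p : MvPolynomial σ (W2 p k)) * ∑ j, pderiv j (f i) ^ p * h j =
      polyFrobH (fun j => -h j) (f i) - f i ^ p := by
    rw [polyFrobH_eq]
    simp only [mul_neg, Finset.sum_neg_distrib]
    ring
  have hpow : f i ^ p ∈ Ideal.span (Set.range f) :=
    Ideal.pow_mem_of_mem _ (Ideal.subset_span (Set.mem_range_self i)) p hp.out.pos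
  rw [heq]
  refine ⟨fun hm => ?_, fun hm => ?_⟩
  · obtain ⟨c, hc⟩ := exists_polyFrobH_sub_pow (fun j => -h j) (f i)
    rw [hc]
    exact hsat c (hc ▸ sub_mem hm hpow)
  · have h1 : polyFrobH (fun j => -h j) (f i) - f i ^ p ∈ Ideal.span (Set.range f) :=
      (Ideal.mul_le_inf hm).2
    have h2 := add_mem h1 hpow
    rwa [sub_add_cancel] at h2

end Frob

end Groth.FrobLCI.W2
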