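import Mathlib.Algebra.MvPolynomial.Eval
import Mathlib.Algebra.MvPolynomial.CommRing
import Mathlib.RingTheory.MvPolynomial.Basic
import Mathlib.Algebra.CharP.Lemmas
import Mathlib.FieldTheory.Finite.Polynomial
import Mathlib.RingTheory.Ideal.Span

/-!
The functional detecting `((Σ x_i y_i)^p - Σ (x_i y_i)^p) / p` modulo the split quadric.
-/

set_option autoImplicit false
set_option linter.unusedSectionVars false

universe u

namespace Groth.FrobLCI.Quadric

open MvPolynomial

variable (p : ℕ) [hp : Fact p.Prime] (n : ℕ)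

theorem exists_powDiv : ∃ G : MvPolynomial (Fin n) ℤ,
    (∑ i, X i) ^ p = (∑ i, X i ^ p) + (p : MvPolynomial (Fin n) ℤ) * G := by
  have : C (p : ℤ) ∣ ((∑ i, X i) ^ p - ∑ i, X i ^ p : MvPolynomial (Fin n) ℤ) := by
    rw [C_dvd_iff_zmod, map_sub, map_pow, map_sum, map_sum]
    simp only [map_pow, map_X]
    rw [sum_pow_char, sub_self]
  obtain ⟨G, hG⟩ := this
  refine ⟨G, ?_⟩
  rw [map_natCast] at hG
  linear_combination hG

/-- A polynomial `G` with `(Σ z_i)^p = Σ z_i^p + p G`. -/
noncomputable def powDiv : MvPolynomial (Fin n) ℤ := (exists_powDiv p n).choose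

theorem powDiv_spec {R : Type*} [CommRing R] (v : Fin n → R) :
    (∑ i, v i) ^ p = (∑ i, v i ^ p) + (p : R) * eval₂Hom (Int.castRingHom R) v (powDiv p n) := by
  have := congrArg (eval₂Hom (Int.castRingHom R) v) (exists_powDiv p n).choose_spec
  simpa [powDiv] using this

/-- Substitution values: `z₁, z₂, -(z₁+z₂), 0, …`. -/
noncomputable def subst (R : Type*) [CommRing R] (i : Fin n) : MvPolynomial (Fin 2) R :=
  if (i : ℕ) = 0 then X 0 else if (i : ℕ) = 1 then X 1 else if (i : ℕ) = 2 then -(X 0 + X 1) else 0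

/-- The exponent `(1, p-1)`. -/
noncomputable def expo : Fin 2 →₀ ℕ := Finsupp.single 0 1 + Finsupp.single 1 (p - 1)

theorem sum_subst (hn : 3 ≤ n) (R : Type*) [CommRing R] (f : MvPolynomial (Fin 2) R → MvPolynomial (Fin 2) R)
    (hf : f 0 = 0) :
    ∑ i, f (subst n R i) = f (X 0) + f (X 1) + f (-(X 0 + X 1)) := by
  obtain ⟨m, rfl⟩ := Nat.exists_eq_add_of_le hn
  rw [Fin.sum_univ_add]
  have h2 : ∀ i : Fin m, f (subst (3 + m) R (Fin.natAdd 3 i)) = 0 := fun i => by
    rw [subst, if_neg (by simp), if_neg (by simp; omega), if_neg (by simp; omega), hf]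
  rw [Finset.sum_eq_zero fun i _ => h2 i, add_zero, Fin.sum_univ_three]
  simp [subst]

theorem coeff_expo_add_pow : coeff (expo p) ((X 0 + X 1 : MvPolynomial (Fin 2) ℤ) ^ p) = p := by
  have h2 := hp.out.two_le
  have key : ∀ m ∈ Finset.range (p + 1),
      coeff (expo p) ((X 0 : MvPolynomial (Fin 2) ℤ) ^ m * X 1 ^ (p - m) * ((p.choose m : ℕ) : MvPolynomial (Fin 2) ℤ)) =
        if m = 1 then (p : ℤ) else 0 := by
    intro m _
    rw [X_pow_eq_monomial, X_pow_eq_monomial, monomial_mul, ← map_natCast C, mul_comm _ (C _),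
      C_mul_monomial, coeff_monomial]
    simp only [mul_one]
    by_cases hm : m = 1
    · subst hm
      rw [expo, if_pos rfl, if_pos rfl, Nat.choose_one_right]
    · rw [if_neg hm, if_neg]
      intro h
      exact hm (by simpa [expo, Finsupp.single_apply] using DFunLike.congr_fun h 0)
  rw [add_pow, coeff_sum, Finset.sum_congr rfl key, Finset.sum_ite_eq', if_pos]
  rw [Finset.mem_range]; omega

theorem coeff_expo_X_pow (R : Type*) [CommRing R] (j : Fin 2) (Q : MvPolynomial (Fin 2) R) :
    coeff (expo p) (X j ^ p * Q) = 0 := by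
  have h2 := hp.out.two_le
  rw [X_pow_eq_monomial, coeff_monomial_mul', if_neg]
  intro h
  have := h j
  fin_cases j <;> simp [expo, Finsupp.single_apply] at this <;> omega

theorem coeff_expo_powDiv (hn : 3 ≤ n) :
    coeff (expo p) (eval₂Hom (Int.castRingHom _) (subst n ℤ) (powDiv p n)) = -(-1) ^ p := by
  have hp0 := hp.out.ne_zero
  have h := powDiv_spec p n (subst n ℤ)
  have e1 := sum_subst n hn ℤ id rfl
  have e2 := sum_subst n hn ℤ (· ^ p) (zero_pow hp0)
  simp only [id_eq] at e1 e2
  rw [e1, e2] at h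
  simp only [add_neg_cancel, zero_pow hp0] at h
  rw [neg_pow (X 0 + X 1 : MvPolynomial (Fin 2) ℤ)] at h
  have hc := congrArg (coeff (expo p)) h
  rw [coeff_zero, coeff_add, coeff_add, coeff_add, ← mul_one (X 0 ^ p), ← mul_one (X 1 ^ p),
    coeff_expo_X_pow, coeff_expo_X_pow, ← map_one (C (σ := Fin 2) (R := ℤ)), ← map_neg, ← map_pow,
    coeff_C_mul, coeff_expo_add_pow, ← map_natCast (C (σ := Fin 2) (R := ℤ)), coeff_C_mul] at hc
  have hpz : (p : ℤ) ≠ 0 := by exact_mod_cast hp0
  refine mul_left_cancel₀ hpz ?_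
  linear_combination -hc

variable (k : Type u) [Field k] [CharP k p]

open Classical in
/-- The diagonal part of a polynomial in `x, y`, read in `z = x y`. -/
noncomputable def diag : MvPolynomial (Fin n × Fin 2) k →ₗ[k] MvPolynomial (Fin n) k :=
  (basisMonomials (Fin n × Fin 2) k).constr k fun d =>
    if ∀ i, d (i, 0) = d (i, 1) then monomial (Finsupp.equivFunOnFinite.symm fun i => d (i, 0)) 1 else 0

open Classical in
theorem diag_monomial (d : Fin n × Fin 2 →₀ ℕ) :
    diag n k (monomial d 1) =
      if ∀ i, d (i, 0) = d (i, 1) then monomial (Finsupp.equivFunOnFinite.symm fun i => d (i, 0)) 1 else 0 := by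
  rw [show (monomial d 1 : MvPolynomial (Fin n × Fin 2) k) = basisMonomials _ k d from
    (congrFun (coe_basisMonomials (σ := Fin n × Fin 2) (R := k)) d).symm]
  exact Module.Basis.constr_basis _ _ _ _

theorem linear_ext_monomial {M : Type*} [AddCommGroup M] [Module k M] {σ : Type*}
    {f g : MvPolynomial σ k →ₗ[k] M} (h : ∀ d, f (monomial d 1) = g (monomial d 1)) : f = g :=
  (basisMonomials σ k).ext fun d => by simpa [coe_basisMonomials] using h d

theorem diag_one : diag n k 1 = 1 := by
  classical
  rw [← C_1, C_apply, diag_monomial, if_pos (fun i => by simp)]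
  exact congrArg (fun d => monomial d (1 : k)) (Finsupp.ext fun i => rfl)

open Classical in
theorem diag_xy_mul (i : Fin n) (P : MvPolynomial (Fin n × Fin 2) k) :
    diag n k (X (i, 0) * X (i, 1) * P) = X i * diag n k P := by
  have : (diag n k).comp (LinearMap.mulLeft k (X (i, 0) * X (i, 1))) =
      (LinearMap.mulLeft k (X i)).comp (diag n k) := by
    refine linear_ext_monomial k fun d => ?_
    simp only [LinearMap.comp_apply, LinearMap.mulLeft_apply, X, monomial_mul, one_mul, diag_monomial]
    set e : Fin n × Fin 2 →₀ ℕ := Finsupp.single (i, 0) 1 + Finsupp.single (i, 1) 1 + d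
    have he : ∀ j, e (j, 0) = (if i = j then 1 else 0) + d (j, 0) ∧
        e (j, 1) = (if i = j then 1 else 0) + d (j, 1) := fun j => by
      simp [e, Finsupp.single_apply]
    by_cases hd : ∀ j, d (j, 0) = d (j, 1)
    · rw [if_pos hd, if_pos (fun j => by rw [(he j).1, (he j).2, hd]), monomial_mul, one_mul]
      exact congrArg (fun d => monomial d (1 : k))
        (Finsupp.ext fun j => by simp [(he j).1, Finsupp.single_apply])
    · rw [if_neg hd, if_neg (fun h => hd fun j => ?_), mul_zero]
      have := h j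
      rw [(he j).1, (he j).2] at this
      omega
  exact LinearMap.congr_fun this P

theorem diag_comp_xy (P : MvPolynomial (Fin n) k) :
    diag n k (aeval (fun i => X (i, 0) * X (i, 1)) P) = P := by
  induction P using MvPolynomial.induction_on with
  | C a => rw [aeval_C, Algebra.algebraMap_eq_smul_one, map_smul, diag_one, C_eq_smul_one]
  | add a b ha hb => rw [map_add, map_add, ha, hb]
  | mul_X a i ha => rw [map_mul, aeval_X, mul_comm _ (X (i, 0) * X (i, 1)), diag_xy_mul, ha, mul_comm]

/-- The functional. -/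
noncomputable def fn : MvPolynomial (Fin n × Fin 2) k →ₗ[k] k :=
  (lcoeff k (expo p)).comp ((aeval (subst n k)).toLinearMap.comp (diag n k))

theorem fn_apply (P : MvPolynomial (Fin n × Fin 2) k) :
    fn p n k P = coeff (expo p) (aeval (subst n k) (diag n k P)) := rfl

theorem fn_quadric_mul (hn : 3 ≤ n) (P : MvPolynomial (Fin n × Fin 2) k) :
    fn p n k (P * ∑ i, X (i, 0) * X (i, 1)) = 0 := by
  rw [fn_apply, Finset.mul_sum, map_sum, Finset.sum_congr rfl fun i _ => by
    rw [mul_comm P, diag_xy_mul], ← Finset.sum_mul, map_mul, map_sum]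
  simp only [aeval_X]
  have e1 := sum_subst n hn k id rfl
  simp only [id_eq] at e1
  rw [e1]
  simp

open Classical in
theorem fn_pow_mul (v : Fin n × Fin 2) (P : MvPolynomial (Fin n × Fin 2) k) :
    fn p n k (P * X v ^ p) = 0 := by
  have hp0 := hp.out.ne_zero
  have hv : ∀ Q, coeff (expo p) (subst n k v.1 ^ p * Q) = 0 := fun Q => by
    have : CharP (MvPolynomial (Fin 2) k) p := inferInstance
    unfold subst
    split_ifs
    · exact coeff_expo_X_pow p k 0 Q
    · exact coeff_expo_X_pow p k 1 Q
    · rw [neg_pow, add_pow_char, ← map_one (C (σ := Fin 2) (R := k)), ← map_neg, ← map_pow, mul_assoc,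
        coeff_C_mul, add_mul, coeff_add, coeff_expo_X_pow, coeff_expo_X_pow, add_zero, mul_zero]
    · rw [zero_pow hp0, zero_mul, coeff_zero]
  have key : (fn p n k).comp (LinearMap.mulLeft k (X v ^ p)) = 0 := by
    refine linear_ext_monomial k fun d => ?_
    rw [LinearMap.comp_apply, LinearMap.mulLeft_apply, X_pow_eq_monomial, monomial_mul, one_mul,
      fn_apply, diag_monomial, LinearMap.zero_apply]
    set e : Fin n × Fin 2 →₀ ℕ := Finsupp.single v p + d
    split_ifs with he
    · have hle : Finsupp.single v.1 p ≤ Finsupp.equivFunOnFinite.symm fun i => e (i, 0) := by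
        intro j
        rw [Finsupp.single_apply]
        split_ifs with hj
        · subst hj
          have hev : p ≤ e (v.1, v.2) := by simp [e]
          obtain ⟨a, b⟩ := v
          fin_cases b
          · simpa using hev
          · simpa [he a] using hev
        · exact Nat.zero_le _
      obtain ⟨c, hc⟩ := exists_add_of_le hle
      rw [hc, ← one_mul (1 : k), ← monomial_mul, map_mul, ← X_pow_eq_monomial, map_pow, aeval_X,
        hv]
    · rw [map_zero, coeff_zero]
  rw [mul_comm]
  exact LinearMap.congr_fun key P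

theorem fn_C (a : k) : fn p n k (C a) = 0 := by
  rw [C_eq_smul_one, map_smul, fn_apply, diag_one, map_one, ← C_1, coeff_C, if_neg, smul_zero]
  intro h
  simpa [expo] using DFunLike.congr_fun h.symm 0

theorem fn_powDiv (hn : 3 ≤ n) :
    fn p n k (eval₂Hom (Int.castRingHom _) (fun i => X (i, 0) * X (i, 1)) (powDiv p n)) ≠ 0 := by
  have h1 : eval₂Hom (Int.castRingHom (MvPolynomial (Fin n × Fin 2) k))
      (fun i => X (i, 0) * X (i, 1)) (powDiv p n) =
        aeval (fun i => X (i, 0) * X (i, 1)) (map (Int.castRingHom k) (powDiv p n)) := by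
    have : eval₂Hom (Int.castRingHom (MvPolynomial (Fin n × Fin 2) k)) (fun i => X (i, 0) * X (i, 1)) =
        ((aeval (R := k) fun i => X (i, 0) * X (i, 1)).toRingHom).comp (map (Int.castRingHom k)) :=
      ringHom_ext (fun a => by simp) fun i => by simp
    exact RingHom.congr_fun this _
  have h2 : aeval (subst n k) (map (Int.castRingHom k) (powDiv p n)) =
      map (Int.castRingHom k) (eval₂Hom (Int.castRingHom _) (subst n ℤ) (powDiv p n)) := by
    have : ((aeval (R := k) (subst n k)).toRingHom).comp (map (Int.castRingHom k)) =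
        (map (Int.castRingHom k)).comp (eval₂Hom (Int.castRingHom _) (subst n ℤ)) := by
      refine ringHom_ext (fun a => by simp) fun i => ?_
      simp only [RingHom.comp_apply, map_X, AlgHom.toRingHom_eq_coe, RingHom.coe_coe, aeval_X,
        eval₂Hom_X']
      unfold subst
      split_ifs <;> simp
    exact RingHom.congr_fun this _
  rw [h1, fn_apply, diag_comp_xy, h2, coeff_map, coeff_expo_powDiv p n hn]
  simp

/-- `fn` kills the ideal generated by the quadric and the `p`-th powers of the variables. -/
theorem fn_eq_zero_of_mem (hn : 3 ≤ n) {P : MvPolynomial (Fin n × Fin 2) k}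
    (hP : P ∈ Ideal.span (insert (∑ i : Fin n, X (i, (0 : Fin 2)) * X (i, (1 : Fin 2)))
      (Set.range fun v : Fin n × Fin 2 => (X v : MvPolynomial (Fin n × Fin 2) k) ^ p))) :
    fn p n k P = 0 := by
  suffices ∀ h, fn p n k (h * P) = 0 by simpa using this 1
  induction hP using Submodule.span_induction with
  | mem x hx =>
    intro h
    rcases hx with rfl | ⟨v, rfl⟩
    · exact fn_quadric_mul p n k hn h
    · exact fn_pow_mul p n k v h
  | zero => intro h; rw [mul_zero, map_zero]
  | add x y _ _ hx hy => intro h; rw [mul_add, map_add, hx, hy, add_zero]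
  | smul a x _ hx => intro h; rw [smul_eq_mul, ← mul_assoc, hx]

theorem pow_sub_C_mem (c : MvPolynomial (Fin n × Fin 2) k) :
    c ^ p - C (coeff 0 c ^ p) ∈ Ideal.span (Set.range fun v : Fin n × Fin 2 =>
      (X v : MvPolynomial (Fin n × Fin 2) k) ^ p) := by
  classical
  induction c using MvPolynomial.induction_on with
  | C a =>
    rw [coeff_zero_C, map_pow, sub_self]
    exact zero_mem _
  | add a b ha hb =>
    have : CharP (MvPolynomial (Fin n × Fin 2) k) p := inferInstance
    rw [add_pow_char, coeff_add, add_pow_char, map_add]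
    simpa [sub_add_sub_comm] using add_mem ha hb
  | mul_X a i ha =>
    have : coeff (0 : Fin n × Fin 2 →₀ ℕ) (a * X i) = 0 := by
      rw [coeff_mul_X', if_neg (by simp)]
    rw [this, zero_pow hp.out.ne_zero, map_zero, sub_zero, mul_pow]
    exact Ideal.mul_mem_left _ _ (Ideal.subset_span ⟨i, rfl⟩)

end Groth.FrobLCI.Quadric
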