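import Groth.Agent.FrobLCI.W2Lift
import Mathlib.RingTheory.Smooth.StandardSmoothOfFree
import Mathlib.RingTheory.Smooth.Flat
import Mathlib.RingTheory.Smooth.Quotient

/-!
Lifting smooth algebras along a flat lifting modulo `p^2` of the base.
-/

set_option autoImplicit false
set_option linter.unusedSectionVars false

universe u

namespace Groth.FrobLCI.W2

open MvPolynomial

variable {p : ℕ} [hp : Fact p.Prime] {R' R : Type u} [CommRing R'] [CommRing R] {ρ : R' →+* R}

omit hp in
theorem exists_smul_eq_of_flat (h : IsPFlat p ρ) {M : Type*} [AddCommGroup M] [Module R' M]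
    [Module.Flat R' M] {m : M} (hm : (p : R') • m = 0) : ∃ m', m = (p : R') • m' := by
  let L : R' →ₗ[R'] R' := LinearMap.mulLeft _ (p : R')
  have hex : Function.Exact L L := fun y => by
    refine ⟨fun hy => ?_, ?_⟩
    · obtain ⟨c, rfl⟩ := h.ker y ((h.tors y).1 hy)
      exact ⟨c, rfl⟩
    · rintro ⟨c, rfl⟩
      change (p : R') * (p * c) = 0
      rw [← mul_assoc, h.pp, zero_mul]
  have hL : ∀ z : TensorProduct R' M R', TensorProduct.rid _ M (L.lTensor M z) =
      (p : R') • TensorProduct.rid _ M z := fun z => by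
    induction z using TensorProduct.induction_on with
    | zero => simp
    | tmul a b => simp [L, mul_smul]
    | add a b ha hb => simp only [map_add, smul_add, ha, hb]
  obtain ⟨y, hy⟩ := ((Module.Flat.lTensor_exact M hex) ((TensorProduct.rid _ M).symm m)).1
    ((TensorProduct.rid _ M).injective (by rw [hL, LinearEquiv.apply_symm_apply, hm, map_zero]))
  exact ⟨TensorProduct.rid _ M y, by rw [← hL, hy, LinearEquiv.apply_symm_apply]⟩

omit hp in
theorem isPFlat_map (h : IsPFlat p ρ) (σ : Type*) : IsPFlat p (MvPolynomial.map (σ := σ) ρ) := by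
  refine ⟨MvPolynomial.map_surjective ρ h.surj, fun b hb => ?_, fun c => ?_, ?_⟩
  · have : C (p : R') ∣ b := by
      refine (C_dvd_iff_dvd_coeff _ _).2 fun i => ?_
      obtain ⟨c, hc⟩ := h.ker (b.coeff i) (by rw [← coeff_map, hb, coeff_zero])
      exact ⟨c, hc⟩
    obtain ⟨c, rfl⟩ := this
    exact ⟨c, by rw [map_natCast]⟩
  · rw [← map_natCast (C (σ := σ) (R := R'))]
    constructor
    · intro hc
      ext i
      rw [coeff_map, coeff_zero, ← h.tors, ← coeff_C_mul, hc, coeff_zero]
    · intro hc
      ext i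
      rw [coeff_C_mul, coeff_zero, h.tors, ← coeff_map, hc, coeff_zero]
  · rw [← map_natCast (C (σ := σ) (R := R)), h.map_p, map_zero]

omit hp in
theorem IsPFlat.cast_algebra (h : IsPFlat p ρ) (A : Type*) [CommRing A] [Algebra R A] : (p : A) = 0 := by
  rw [← map_natCast (algebraMap R A), h.map_p, map_zero]

/-- Lifting of a standard smooth algebra. -/
theorem exists_lift_of_isStandardSmooth (h : IsPFlat p ρ) (C₀ : Type u) [CommRing C₀] [Algebra R C₀]
    [Algebra.IsStandardSmooth R C₀] :
    ∃ (B : Type u) (_ : CommRing B) (_ : Algebra R' B) (π : B →+* C₀),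
      π.comp (algebraMap R' B) = (algebraMap R C₀).comp ρ ∧ IsPFlat p π := by
  classical
  obtain ⟨ι, σ, _, _, ⟨P⟩⟩ := ‹Algebra.IsStandardSmooth R C₀›.out
  cases nonempty_fintype σ
  cases nonempty_fintype ι
  choose v hv using fun i : σ => MvPolynomial.map_surjective (σ := ι) ρ h.surj (P.relation i)
  let Q := MvPolynomial ι R' ⧸ Ideal.span (Set.range v)
  let P₁ : Algebra.PreSubmersivePresentation R' Q ι σ :=
    Algebra.PreSubmersivePresentation.naive P.map P.map_inj
  let J : Q := P₁.jacobian
  let B := Localization.Away J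
  let P₂ : Algebra.PreSubmersivePresentation R' B (Unit ⊕ ι) (Unit ⊕ σ) :=
    (Algebra.PreSubmersivePresentation.localizationAway B J).comp P₁
  have hP₂ : IsUnit P₂.jacobian := by
    have hJ : IsUnit (algebraMap Q B J) :=
      IsLocalization.map_units _ (⟨J, 1, by simp⟩ : Submonoid.powers J)
    rw [Algebra.PreSubmersivePresentation.comp_jacobian_eq_jacobian_smul_jacobian,
      Algebra.PreSubmersivePresentation.localizationAway_jacobian, Algebra.smul_def]
    exact hJ.mul hJ
  have : Algebra.IsStandardSmooth R' B :=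
    Algebra.SubmersivePresentation.isStandardSmooth ⟨P₂, hP₂⟩
  have hflat : Module.Flat R' B := inferInstance
  let e : MvPolynomial ι R' →+* C₀ := (MvPolynomial.aeval P.val).toRingHom.comp (MvPolynomial.map ρ)
  let π₁ : Q →+* C₀ := Ideal.Quotient.lift _ e fun x hx => by
    refine RingHom.mem_ker.1 (?_ : x ∈ RingHom.ker e)
    refine (Ideal.span_le.2 ?_) hx
    rintro _ ⟨i, rfl⟩
    change e (v i) = 0
    simp only [e, RingHom.comp_apply, hv]
    exact P.aeval_val_relation i
  have hJ : π₁ J = P.jacobian := by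
    rw [P.jacobian_eq_jacobiMatrix_det, show J = P₁.jacobian from rfl, P₁.jacobian_eq_jacobiMatrix_det]
    have : P.jacobiMatrix = (MvPolynomial.map ρ).mapMatrix P₁.jacobiMatrix := by
      ext i j : 1
      rw [RingHom.mapMatrix_apply, Matrix.map_apply, Algebra.PreSubmersivePresentation.jacobiMatrix_apply,
        Algebra.PreSubmersivePresentation.jacobiMatrix_naive, ← MvPolynomial.pderiv_map, hv]
    rw [this, ← RingHom.map_det, Algebra.Generators.algebraMap_apply, Algebra.Generators.algebraMap_apply]
    have hval : ∀ j, P₁.val j = Ideal.Quotient.mk _ (X j) := fun j => rfl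
    have : (MvPolynomial.aeval P₁.val : MvPolynomial ι R' →ₐ[R'] Q) = Ideal.Quotient.mkₐ R' _ :=
      MvPolynomial.algHom_ext fun j => by rw [aeval_X, hval]; rfl
    rw [this]
    rfl
  let π : B →+* C₀ := IsLocalization.Away.lift J (g := π₁) (hJ ▸ P.jacobian_isUnit)
  have hπ : ∀ y, π (algebraMap Q B y) = π₁ y := fun y => IsLocalization.Away.lift_eq J _ y
  refine ⟨B, inferInstance, inferInstance, π, RingHom.ext fun r => ?_, ?_, ?_, ?_, h.cast_algebra C₀⟩
  · rw [RingHom.comp_apply, RingHom.comp_apply, IsScalarTower.algebraMap_apply R' Q B, hπ]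
    change e (MvPolynomial.C r) = _
    simp [e]
  · intro c
    obtain ⟨F, rfl⟩ := P.algebraMap_surjective c
    obtain ⟨F', rfl⟩ := MvPolynomial.map_surjective (σ := ι) ρ h.surj F
    refine ⟨algebraMap Q B (Ideal.Quotient.mk _ F'), ?_⟩
    rw [hπ, Algebra.Generators.algebraMap_apply]
    rfl
  · intro b hb
    obtain ⟨⟨y, s⟩, hy⟩ := IsLocalization.surj (Submonoid.powers J) b
    have hy0 : π₁ y = 0 := by rw [← hπ, ← hy, map_mul, hb, zero_mul]
    obtain ⟨F, rfl⟩ := Ideal.Quotient.mk_surjective y
    have hF : MvPolynomial.map ρ F ∈ Ideal.span (Set.range P.relation) := by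
      rw [P.span_range_relation_eq_ker, P.ker_eq_ker_aeval_val]
      exact hy0
    have : Ideal.span (Set.range P.relation) = (Ideal.span (Set.range v)).map (MvPolynomial.map ρ) := by
      rw [Ideal.map_span, ← Set.range_comp]
      exact congrArg _ (congrArg _ (funext fun i => (hv i).symm))
    rw [this, Ideal.mem_map_iff_of_surjective _ (MvPolynomial.map_surjective ρ h.surj)] at hF
    obtain ⟨G, hG, hGF⟩ := hF
    obtain ⟨c, hc⟩ := (isPFlat_map h ι).ker (F - G) (by rw [map_sub, hGF, sub_self])
    obtain ⟨w, hw⟩ := IsUnit.exists_right_inv (IsLocalization.map_units B s)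
    refine ⟨algebraMap Q B (Ideal.Quotient.mk _ c) * w, ?_⟩
    have hFc : Ideal.Quotient.mk (Ideal.span (Set.range v)) F = (p : Q) * Ideal.Quotient.mk _ c := by
      rw [← map_natCast (Ideal.Quotient.mk (Ideal.span (Set.range v))), ← map_mul, ← hc, map_sub,
        Ideal.Quotient.eq_zero_iff_mem.2 hG, sub_zero]
    rw [← mul_one b, ← hw, ← mul_assoc, hy, hFc, map_mul, map_natCast, mul_assoc]
  · intro c
    constructor
    · intro hc
      obtain ⟨c', rfl⟩ := exists_smul_eq_of_flat h (M := B) (m := c)
        (by rw [Algebra.smul_def, map_natCast, hc])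
      rw [Algebra.smul_def, map_natCast, map_mul, map_natCast, h.cast_algebra C₀, zero_mul]
    · intro hc
      obtain ⟨⟨y, s⟩, hy⟩ := IsLocalization.surj (Submonoid.powers J) c
      have hy0 : π₁ y = 0 := by rw [← hπ, ← hy, map_mul, hc, zero_mul]
      obtain ⟨F, rfl⟩ := Ideal.Quotient.mk_surjective y
      have hF : MvPolynomial.map ρ F ∈ Ideal.span (Set.range P.relation) := by
        rw [P.span_range_relation_eq_ker, P.ker_eq_ker_aeval_val]
        exact hy0
      have : Ideal.span (Set.range P.relation) =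
          (Ideal.span (Set.range v)).map (MvPolynomial.map ρ) := by
        rw [Ideal.map_span, ← Set.range_comp]
        exact congrArg _ (congrArg _ (funext fun i => (hv i).symm))
      rw [this, Ideal.mem_map_iff_of_surjective _ (MvPolynomial.map_surjective ρ h.surj)] at hF
      obtain ⟨G, hG, hGF⟩ := hF
      have hp0 : (p : MvPolynomial ι R') * (F - G) = 0 :=
        ((isPFlat_map h ι).tors _).2 (by rw [map_sub, hGF, sub_self])
      have : (p : B) * algebraMap Q B (Ideal.Quotient.mk _ F) = 0 := by
        have := congrArg (fun z => algebraMap Q B (Ideal.Quotient.mk (Ideal.span (Set.range v)) z)) hp0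
        simpa [Ideal.Quotient.eq_zero_iff_mem.2 hG, mul_sub] using this
      rw [← hy, ← mul_assoc] at this
      exact (IsUnit.mul_left_eq_zero (IsLocalization.map_units B s)).1 this

theorem aeval_sub_add_pderiv_mem {R : Type*} [CommRing R] {ι : Type*} [Fintype ι] [DecidableEq ι]
    (I : Ideal (MvPolynomial ι R)) (w : ι → MvPolynomial ι R) (hw : ∀ i, w i ∈ I)
    (F : MvPolynomial ι R) :
    aeval (fun i => X i - w i) F - F + ∑ j, pderiv j F * w j ∈ I * I := by
  induction F using MvPolynomial.induction_on with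
  | C a => simp
  | add a b ha hb =>
    convert add_mem ha hb using 1
    simp only [map_add, add_mul, Finset.sum_add_distrib]
    ring
  | mul_X F i ih =>
    set D := ∑ j, pderiv j F * w j
    have hD : D ∈ I := Ideal.sum_mem _ fun j _ => Ideal.mul_mem_left _ _ (hw j)
    have hsum : ∑ j, pderiv j (F * X i) * w j = D * X i + F * w i := by
      rw [Finset.sum_mul]
      have : ∀ j, pderiv j (F * X i) * w j =
          pderiv j F * w j * X i + (if i = j then F * w j else 0) := fun j => by
        rw [Derivation.leibniz, pderiv_X, smul_eq_mul, smul_eq_mul]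
        by_cases hij : i = j
        · subst hij; simp; ring
        · simp [hij]; ring
      rw [Finset.sum_congr rfl fun j _ => this j, Finset.sum_add_distrib, Finset.sum_ite_eq,
        if_pos (Finset.mem_univ _)]
    rw [hsum, map_mul, aeval_X]
    have := add_mem (Ideal.mul_mem_mul hD (hw i)) (Ideal.mul_mem_right (X i - w i) _ ih)
    convert this using 1
    ring

/-- Lifting of a smooth algebra along a flat lifting modulo `p^2` of the base. -/
theorem exists_lift_of_smooth (h : IsPFlat p ρ) (C₀ : Type u) [CommRing C₀] [Algebra R C₀]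
    [Algebra.Smooth R C₀] :
    ∃ (B : Type u) (_ : CommRing B) (_ : Algebra R' B) (π : B →+* C₀),
      π.comp (algebraMap R' B) = (algebraMap R C₀).comp ρ ∧ IsPFlat p π := by
  classical
  obtain ⟨n, f, hf⟩ := (Algebra.FiniteType.iff_quotient_mvPolynomial'' (R := R) (S := C₀)).1 inferInstance
  have hφ := isPFlat_map h (Fin n)
  let q : MvPolynomial (Fin n) R' →+* C₀ := f.toRingHom.comp (MvPolynomial.map ρ)
  have hqC : ∀ r, q (MvPolynomial.C r) = algebraMap R C₀ (ρ r) := fun r => by simp [q]
  have hqs : Function.Surjective q := hf.comp hφ.surj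
  have hC0 : (p : C₀) = 0 := h.cast_algebra C₀
  set K := RingHom.ker q
  -- no element outside the kernel is killed modulo `K * K` after multiplication by `p`
  have hann : ∀ c, (p : MvPolynomial (Fin n) R') * c ∈ K * K → q c = 0 := by
    intro c hc
    obtain ⟨s, hs, hstd⟩ := Algebra.Smooth.exists_span_eq_top_isStandardSmooth R C₀
    by_contra hne
    let J : Ideal C₀ := LinearMap.ker (LinearMap.mulRight C₀ (q c))
    have hJ : J ≠ ⊤ := fun e => hne (by
      have h1 : (1 : C₀) ∈ J := e ▸ Submodule.mem_top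
      simpa [J] using h1)
    obtain ⟨m, hm, hJm⟩ := Ideal.exists_le_maximal J hJ
    obtain ⟨g, hgs, hgm⟩ : ∃ g ∈ s, g ∉ m := by
      by_contra hh
      push Not at hh
      exact hm.ne_top (eq_top_iff.2 (hs ▸ Ideal.span_le.2 hh))
    have := hstd g hgs
    obtain ⟨B, _, _, π, hπc, hπ⟩ := exists_lift_of_isStandardSmooth h (Localization.Away g)
    let fg := algebraMap C₀ (Localization.Away g)
    let G : MvPolynomial (Fin n) R' →+* B :=
      MvPolynomial.eval₂Hom (algebraMap R' B) fun j => hπ.sec (fg (q (MvPolynomial.X j)))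
    have hG : ∀ x, π (G x) = fg (q x) := fun x => by
      have : π.comp G = fg.comp q := MvPolynomial.ringHom_ext (fun r => by
        simp only [RingHom.comp_apply, G, eval₂Hom_C, hqC, fg]
        rw [← IsScalarTower.algebraMap_apply]
        exact RingHom.congr_fun hπc r) fun j => by simp [G, hπ.pi_sec]
      exact RingHom.congr_fun this x
    have hKK : K * K ≤ RingHom.ker G := Ideal.mul_le.2 fun x hx y hy => by
      obtain ⟨a, ha⟩ := hπ.exists_eps (b := G x) (by rw [hG, RingHom.mem_ker.1 hx, map_zero])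
      obtain ⟨b, hb⟩ := hπ.exists_eps (b := G y) (by rw [hG, RingHom.mem_ker.1 hy, map_zero])
      rw [RingHom.mem_ker, map_mul, ← ha, ← hb, hπ.eps_mul_eps]
    have h0 : fg (q c) = 0 := by
      rw [← hG, ← hπ.tors, ← map_natCast G, ← map_mul]
      exact hKK hc
    obtain ⟨⟨_, e, rfl⟩, he⟩ := (IsLocalization.map_eq_zero_iff (Submonoid.powers g) _ _).1 h0
    exact hgm (hm.isPrime.mem_of_pow_mem e (hJm (by simpa [J] using he)))
  -- the coefficients of a retraction
  set I := RingHom.ker f.toRingHom
  have hKI : K.map (MvPolynomial.map ρ) = I := by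
    have : K = I.comap (MvPolynomial.map ρ) := rfl
    rw [this, Ideal.map_comap_of_surjective _ hφ.surj]
  obtain ⟨U, hU⟩ : ∃ U : Fin n → MvPolynomial (Fin n) R,
      (∀ j, f (U j) = f (X j)) ∧ ∀ F ∈ I, aeval U F ∈ I * I := by
    let g : (MvPolynomial (Fin n) R ⧸ I * I) →ₐ[R] C₀ :=
      Ideal.Quotient.liftₐ (I * I) f fun a ha => RingHom.mem_ker.1 (Ideal.mul_le_right ha)
    have hg : Function.Surjective g := fun c => by
      obtain ⟨F, rfl⟩ := hf c
      exact ⟨Ideal.Quotient.mk _ F, rfl⟩
    have hgn : IsNilpotent (RingHom.ker g.toRingHom) := by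
      refine ⟨2, le_bot_iff.1 ?_⟩
      refine ((pow_two (RingHom.ker g.toRingHom)).le).trans (Ideal.mul_le.2 ?_)
      intro a ha b hb
      obtain ⟨a, rfl⟩ := Ideal.Quotient.mk_surjective a
      obtain ⟨b, rfl⟩ := Ideal.Quotient.mk_surjective b
      rw [Submodule.mem_bot, ← map_mul, Ideal.Quotient.eq_zero_iff_mem]
      exact Ideal.mul_mem_mul ha hb
    let σ := Algebra.FormallySmooth.liftOfSurjective (AlgHom.id R C₀) g hg hgn
    have hσ : ∀ c, g (σ c) = c := fun c =>
      AlgHom.congr_fun (Algebra.FormallySmooth.comp_liftOfSurjective (AlgHom.id R C₀) g hg hgn) c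
    choose U hU using fun j => Ideal.Quotient.mk_surjective (σ (f (X j)))
    refine ⟨U, fun j => ?_, fun F hF => ?_⟩
    · conv_rhs => rw [← hσ (f (X j)), ← hU j]
      rfl
    · rw [← Ideal.Quotient.eq_zero_iff_mem]
      have : (Ideal.Quotient.mkₐ R (I * I)).comp (aeval U) = σ.comp f :=
        MvPolynomial.algHom_ext fun j => by simp [hU]
      have hFU := AlgHom.congr_fun this F
      rw [AlgHom.comp_apply, AlgHom.comp_apply, show f F = 0 from hF, map_zero] at hFU
      exact hFU
  have hwI : ∀ j, X j - U j ∈ I := fun j => by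
    change f (X j - U j) = 0
    rw [map_sub, hU.1, sub_self]
  have hdec : ∀ F ∈ I, F - ∑ j, pderiv j F * (X j - U j) ∈ I * I := fun F hF => by
    have h1 := aeval_sub_add_pderiv_mem I _ hwI F
    simp only [sub_sub_cancel] at h1
    convert sub_mem (hU.2 F hF) h1 using 1
    ring
  choose w hw using fun j => hφ.surj (X j - U j)
  have hwK : ∀ j, w j ∈ K := fun j => by
    change f (MvPolynomial.map ρ (w j)) = 0
    rw [hw]
    exact hwI j
  let D : MvPolynomial (Fin n) R' → MvPolynomial (Fin n) R' := fun F => ∑ j, pderiv j F * w j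
  have hex : ∀ F ∈ K, ∃ c, F - D F - (p : MvPolynomial (Fin n) R') * c ∈ K * K := by
    intro F hF
    have h1 := hdec (MvPolynomial.map ρ F) hF
    rw [← hKI, ← Ideal.map_mul, Ideal.mem_map_iff_of_surjective _ hφ.surj] at h1
    obtain ⟨k2, hk2, hk2'⟩ := h1
    obtain ⟨c, hc⟩ := hφ.ker (F - D F - k2) (by
      simp only [map_sub, D, map_sum, map_mul, hw, ← pderiv_map, hk2', sub_self])
    exact ⟨c, by rw [← hc]; simpa using hk2⟩
  choose cf hcf using hex
  have huniq : ∀ F (hF : F ∈ K) (c : MvPolynomial (Fin n) R'),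
      F - D F - (p : MvPolynomial (Fin n) R') * c ∈ K * K → q (cf F hF) = q c := by
    intro F hF c hc
    rw [← sub_eq_zero, ← map_sub]
    refine hann _ ?_
    convert sub_mem hc (hcf F hF) using 1
    ring
  have hpK : (p : MvPolynomial (Fin n) R') ∈ K := by
    rw [RingHom.mem_ker, map_natCast, hC0]
  have hDK : ∀ F, D F ∈ K := fun F => Ideal.sum_mem _ fun j _ => Ideal.mul_mem_left _ _ (hwK j)
  let χ : K →+ C₀ :=
    { toFun := fun F => q (cf F.1 F.2)
      map_zero' := (huniq _ _ 0 (by simp [D])).trans (map_zero q)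
      map_add' := fun F F' => (huniq _ _ (cf F.1 F.2 + cf F'.1 F'.2) (by
        convert add_mem (hcf F.1 F.2) (hcf F'.1 F'.2) using 1
        simp only [Submodule.coe_add, D, map_add, add_mul, Finset.sum_add_distrib]
        ring)).trans (map_add _ _ _) }
  have hχ : ∀ (a : MvPolynomial (Fin n) R') (F : K), χ (a • F) = q a * χ F := fun a F => by
    refine (huniq _ _ (a * cf F.1 F.2) ?_).trans (map_mul _ _ _)
    have h1 : (F : MvPolynomial (Fin n) R') * D a ∈ K * K := Ideal.mul_mem_mul F.2 (hDK a)
    convert sub_mem (Ideal.mul_mem_left _ a (hcf F.1 F.2)) h1 using 1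
    have : D (a * F.1) = a * D F.1 + F.1 * D a := by
      simp only [D, Finset.mul_sum, ← Finset.sum_add_distrib]
      refine Finset.sum_congr rfl fun j _ => ?_
      rw [Derivation.leibniz, smul_eq_mul, smul_eq_mul]
      ring
    rw [show ((a • F : K) : MvPolynomial (Fin n) R') = a * F.1 from rfl, this]
    ring
  have hone : ∀ hp' : (p : MvPolynomial (Fin n) R') ∈ K, χ ⟨p, hp'⟩ = 1 := fun hp' =>
    (huniq _ _ 1 (by simp [D])).trans (map_one q)
  obtain ⟨π, hπ, hflat⟩ := exists_isPFlat_of_functional q hqs hC0 χ hχ hone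
  let inst : Algebra R' (MvPolynomial (Fin n) R' ⧸ functionalIdeal q χ hχ) :=
    ((Ideal.Quotient.mk _).comp MvPolynomial.C).toAlgebra
  refine ⟨_, inferInstance, inst, π, RingHom.ext fun r => ?_, hflat⟩
  rw [RingHom.comp_apply, RingHom.algebraMap_toAlgebra, RingHom.comp_apply, ← RingHom.comp_apply π, hπ,
    hqC, RingHom.comp_apply]

/-- A flat lifting modulo `p^2` of a flat algebra is flat. -/
theorem flat_of_isPFlat (h : IsPFlat p ρ) {C₀ B : Type u} [CommRing C₀] [Algebra R C₀] [Module.Flat R C₀]
    [CommRing B] [Algebra R' B] {π : B →+* C₀} (hπ : IsPFlat p π)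
    (hc : π.comp (algebraMap R' B) = (algebraMap R C₀).comp ρ) : Module.Flat R' B := by
  have hsm : ∀ (a : R') (y : B), π (a • y) = ρ a • π y := fun a y => by
    rw [Algebra.smul_def, Algebra.smul_def, map_mul]
    exact congrArg (· * π y) (RingHom.congr_fun hc a)
  have hpsm : ∀ y : B, (p : R') • y = (p : B) * y := fun y => by rw [Algebra.smul_def, map_natCast]
  refine Module.Flat.of_forall_isTrivialRelation fun {l f x} hfx => ?_
  obtain ⟨m, a, y, hxy, ha⟩ := Module.Flat.isTrivialRelation_of_sum_smul_eq_zero (R := R) (M := C₀)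
    (f := fun i => ρ (f i)) (x := fun i => π (x i)) (by
      simp only [← hsm]
      rw [← map_sum, hfx, map_zero])
  choose a' ha' using fun i j => h.surj (a i j)
  choose y' hy' using fun j => hπ.surj (y j)
  have hz : ∀ i, ∃ z, x i = ∑ j, a' i j • y' j + (p : R') • z := fun i => by
    obtain ⟨z, hz⟩ := hπ.ker (x i - ∑ j, a' i j • y' j) (by
      rw [map_sub, map_sum]
      simp only [hsm, ha', hy']
      exact sub_eq_zero.2 (hxy i))
    exact ⟨z, by rw [hpsm, ← hz]; ring⟩
  choose z hz using hz
  have hb : ∀ j, ∃ b, ∑ i, f i * a' i j = (p : R') * b := fun j => h.ker _ (by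
    simp only [map_sum, map_mul, ha']
    exact ha j)
  choose b hb using hb
  have hpz : (p : B) * (∑ j, b j • y' j + ∑ i, f i • z i) = 0 := by
    rw [← hpsm, smul_add, Finset.smul_sum, Finset.smul_sum]
    simp only [smul_smul, ← hb, Finset.sum_smul, mul_comm (p : R') (f _)]
    rw [Finset.sum_comm, ← Finset.sum_add_distrib]
    rw [← hfx]
    refine Finset.sum_congr rfl fun i _ => ?_
    rw [hz i, smul_add, Finset.smul_sum, smul_smul]
    simp only [smul_smul]
  obtain ⟨m₂, α, u, hu, hα⟩ := Module.Flat.isTrivialRelation_of_sum_smul_eq_zero (R := R) (M := C₀)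
    (f := Sum.elim (fun j => ρ (b j)) (fun i => ρ (f i)))
    (x := Sum.elim (fun j => π (y' j)) (fun i => π (z i))) (by
      rw [Fintype.sum_sum_type]
      simp only [Sum.elim_inl, Sum.elim_inr, ← hsm]
      rw [← map_sum, ← map_sum, ← map_add]
      exact (hπ.tors _).1 hpz)
  choose α' hα' using fun v l => h.surj (α v l)
  choose u' hu' using fun l => hπ.surj (u l)
  have hv : ∀ j, ∃ v, y' j = ∑ l, α' (Sum.inl j) l • u' l + (p : R') • v := fun j => by
    obtain ⟨v, hv⟩ := hπ.ker (y' j - ∑ l, α' (Sum.inl j) l • u' l) (by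
      rw [map_sub, map_sum]
      simp only [hsm, hα', hu']
      rw [← hu (Sum.inl j)]
      exact sub_self _)
    exact ⟨v, by rw [hpsm, ← hv]; ring⟩
  choose v hv using hv
  have hw : ∀ i, ∃ w, z i = ∑ l, α' (Sum.inr i) l • u' l + (p : R') • w := fun i => by
    obtain ⟨w, hw⟩ := hπ.ker (z i - ∑ l, α' (Sum.inr i) l • u' l) (by
      rw [map_sub, map_sum]
      simp only [hsm, hα', hu']
      rw [← hu (Sum.inr i)]
      exact sub_self _)
    exact ⟨w, by rw [hpsm, ← hw]; ring⟩
  choose w hw using hw
  let A₁ : Fin l → Fin m₂ → R' := fun i t =>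
    (∑ j, a' i j * α' (Sum.inl j) t) + (p : R') * α' (Sum.inr i) t
  let A₂ : Fin l → Fin m → R' := fun i j => (p : R') * a' i j
  have hpp2 : ∀ r : R', (p : R') * ((p : R') * r) = 0 := fun r => by rw [← mul_assoc, h.pp, zero_mul]
  refine ⟨m₂ + m, fun i => Fin.append (A₁ i) (A₂ i), Fin.append u' v, fun i => ?_, fun t => ?_⟩
  · rw [Fin.sum_univ_add]
    simp only [Fin.append_left, Fin.append_right, A₁, A₂, add_smul, Finset.sum_smul,
      Finset.sum_add_distrib, mul_smul]
    rw [hz i, hw i, smul_add, Finset.smul_sum, smul_smul (p : R') (p : R'), h.pp, zero_smul, add_zero,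
      Finset.sum_comm]
    have : ∀ j, a' i j • y' j =
        (∑ t, a' i j • α' (Sum.inl j) t • u' t) + (p : R') • a' i j • v j := fun j => by
      rw [hv j, smul_add, Finset.smul_sum, smul_comm (p : R') (a' i j)]
    rw [Finset.sum_congr rfl fun j _ => this j, Finset.sum_add_distrib]
    ring
  · induction t using Fin.addCases with
    | left t =>
      simp only [Fin.append_left, A₁, mul_add, Finset.sum_add_distrib, Finset.mul_sum]
      rw [Finset.sum_comm]
      have e1 : ∀ j, ∑ i, f i * (a' i j * α' (Sum.inl j) t) = (p : R') * (b j * α' (Sum.inl j) t) :=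
        fun j => by
          rw [← mul_assoc, ← hb j, Finset.sum_mul]
          exact Finset.sum_congr rfl fun i _ => (mul_assoc _ _ _).symm
      rw [Finset.sum_congr rfl fun j _ => e1 j, Finset.sum_congr rfl fun i _ =>
        mul_left_comm (f i) (p : R') (α' (Sum.inr i) t), ← Finset.mul_sum, ← Finset.mul_sum, ← mul_add,
        h.tors, map_add, map_sum, map_sum, ← hα t, Fintype.sum_sum_type]
      simp [hα']
    | right j =>
      simp only [Fin.append_right, A₂]
      rw [Finset.sum_congr rfl fun i _ => mul_left_comm (f i) (p : R') (a' i j), ← Finset.mul_sum,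
        hb, hpp2]

theorem formallySmooth_of_lift (h : IsPFlat p ρ) {C₀ B : Type u}
    [CommRing C₀] [Algebra R C₀] [Algebra.FormallySmooth R C₀] [CommRing B] [Algebra R' B]
    [Module.Flat R' B] {π : B →+* C₀} (hc : π.comp (algebraMap R' B) = (algebraMap R C₀).comp ρ)
    (hπ : IsPFlat p π) : Algebra.FormallySmooth R' B := by
  letI : Algebra R' R := ρ.toAlgebra
  letI : Algebra B C₀ := π.toAlgebra
  letI : Algebra R' C₀ := ((algebraMap R C₀).comp ρ).toAlgebra
  have : IsScalarTower R' R C₀ := IsScalarTower.of_algebraMap_eq fun x => rfl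
  have : IsScalarTower R' B C₀ := IsScalarTower.of_algebraMap_eq fun x => (RingHom.congr_fun hc x).symm
  have hker : RingHom.ker (algebraMap R' R) = Ideal.span {(p : R')} := by
    ext x
    rw [RingHom.mem_ker, Ideal.mem_span_singleton]
    exact h.ker_iff
  refine Algebra.FormallySmooth.of_surjective_of_ker_eq_map_of_flat (R' := R) (S' := C₀)
    h.surj hπ.surj ?_ ?_ inferInstance
  · ext b
    rw [hker, Ideal.map_span, Set.image_singleton, map_natCast, RingHom.mem_ker,
      Ideal.mem_span_singleton]
    exact hπ.ker_iff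
  · rw [hker, Ideal.span_singleton_pow, sq, h.pp, Ideal.span_singleton_eq_bot]

end Groth.FrobLCI.W2
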